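import Cfsg.Agent.Mrg.Omega.IId.SymWrD.Base
import Cfsg.Agent.Mrg.Omega.IId.SymWr.Base
import Cfsg.Agent.Mrg.Omega.NSix.Match
import Cfsg.Agent.Mrg.Omega.NO3b.UMethod
import Cfsg.Agent.Involutions.BaerSuzuki

section


/-!
# II.d, `SwBig`, `SwCv` (copy of `SymWr/Mod.lean` for `D` arbitrary): `Ω₁(Z(O₂(P)))` as a module; (E) and (HH) of THEOREM L (bb OMEGA #17498)

* `ZM P` : `Ω₁(Z(O₂(P)))`, additive; `Gam h` : the image of `P` in the permutations of the points, acting on `ZM P`;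
* `edat` : the hypotheses of (E);
* `HH_all` : the conclusion `HH h F l` of (HH), for every summand.
-/

set_option autoImplicit false

namespace Cfsg.Agent.Omega.IId.SymWrD

open Cfsg.Agent.Omega.IId.SymWr
open Subgroup Pointwise Cfsg Cfsg.Agent.ZN Cfsg.Agent.Omega.MinPar Cfsg.Agent.Omega.FFThm
open Cfsg.Agent.Omega.Half (Amb amb_of_loc)
open Cfsg.Agent.Omega.Half.SymA (Pt E Mv pm)
open Cfsg.Agent.MinSimple.VModule (mem_zc zc_le zc_comm zc_sq zc_le_zl le_normalizer_o2 o2_isPGroup o2_le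
  normalizer_le_normalizer_zc le_normalizer_zl)
open Cfsg.Agent.Omega.IId.LFour (SymF.lab SymF.lab_mem SymF.e_lab SymF.lab_add SymF.lab_eq_one_iff)

universe u

variable {G : Type u} [Group G] {P V : Subgroup G} {k m : ℕ}

/-! ### The module -/

/-- `Ω₁(Z(O₂(P)))` -/
@[ext] structure ZM (P : Subgroup G) where
  /-- the element of `G` -/
  val : G
  mem : val ∈ zc (o2 P)

namespace ZM

instance : Add (ZM P) := ⟨fun x y => ⟨x.val * y.val, mul_mem x.mem y.mem⟩⟩
instance : Zero (ZM P) := ⟨⟨1, one_mem _⟩⟩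
instance : Neg (ZM P) := ⟨fun x => ⟨x.val⁻¹, inv_mem x.mem⟩⟩

theorem val_add (x y : ZM P) : (x + y).val = x.val * y.val := rfl
theorem val_zero : (0 : ZM P).val = 1 := rfl
theorem val_neg (x : ZM P) : (-x).val = x.val⁻¹ := rfl

instance : AddCommGroup (ZM P) where
  add_assoc x y z := ZM.ext (mul_assoc _ _ _)
  zero_add x := ZM.ext (one_mul _)
  add_zero x := ZM.ext (mul_one _)
  neg_add_cancel x := ZM.ext (inv_mul_cancel _)
  add_comm x y := ZM.ext (Sit.zz_comm x.mem y.mem)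
  nsmul := nsmulRec
  zsmul := zsmulRec

theorem add_self (y : ZM P) : y + y = 0 := ZM.ext (Sit.zz_sq y.mem)

end ZM

variable {S : Sylow 2 G} {M : SymK (S : Subgroup G) P V ⊥ k m}

/-- the image of `P` in the permutations of the points -/
noncomputable abbrev Gam (h : Sit S P V M) : Subgroup (Equiv.Perm (Pt k m)) := (hom h.amb h.hm1 M).range

theorem Gam_ex (h : Sit S P V M) (γ : Gam h) : ∃ g ∈ P, pp M g = γ := by
  obtain ⟨g, hg⟩ := γ.2
  exact ⟨g, g.2, hg⟩

theorem mem_Gam (h : Sit S P V M) {g : G} (hg : g ∈ P) : pp M g ∈ Gam h := ⟨⟨g, hg⟩, rfl⟩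

/-- a preimage in `P` -/
noncomputable def lft (h : Sit S P V M) (γ : Gam h) : G := (Gam_ex h γ).choose

theorem lft_mem (h : Sit S P V M) (γ : Gam h) : lft h γ ∈ P := (Gam_ex h γ).choose_spec.1

theorem pp_lft (h : Sit S P V M) (γ : Gam h) : pp M (lft h γ) = γ := (Gam_ex h γ).choose_spec.2

noncomputable instance actG (h : Sit S P V M) : DistribMulAction (Gam h) (ZM P) where
  smul γ y := ⟨lft h γ * y.val * (lft h γ)⁻¹, Sit.zz_conj (lft_mem h γ) y.mem⟩
  one_smul y := by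
    apply ZM.ext
    change lft h 1 * y.val * (lft h 1)⁻¹ = y.val
    rw [h.zz_eq (lft_mem h 1) (one_mem P) (by rw [pp_lft, h.one]; rfl) y.mem, one_mul, inv_one, mul_one]
  mul_smul γ δ y := by
    apply ZM.ext
    change lft h (γ * δ) * y.val * (lft h (γ * δ))⁻¹ =
      lft h γ * (lft h δ * y.val * (lft h δ)⁻¹) * (lft h γ)⁻¹
    rw [h.zz_eq (lft_mem h (γ * δ)) (mul_mem (lft_mem h γ) (lft_mem h δ))
      (by rw [h.mul (lft_mem h γ) (lft_mem h δ), pp_lft, pp_lft, pp_lft]; rfl) y.mem]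
    group
  smul_zero γ := by
    apply ZM.ext
    change lft h γ * 1 * (lft h γ)⁻¹ = 1
    group
  smul_add γ x y := by
    apply ZM.ext
    change lft h γ * (x.val * y.val) * (lft h γ)⁻¹ =
      lft h γ * x.val * (lft h γ)⁻¹ * (lft h γ * y.val * (lft h γ)⁻¹)
    group

theorem smul_val (h : Sit S P V M) {γ : Gam h} {g : G} (hg : g ∈ P) (hgγ : pp M g = γ) (y : ZM P) :
    (γ • y).val = g * y.val * g⁻¹ :=
  h.zz_eq (lft_mem h γ) hg (by rw [pp_lft, hgγ]) y.mem

theorem smul_eq_iff (h : Sit S P V M) {γ : Gam h} {g : G} (hg : g ∈ P) (hgγ : pp M g = γ) (y : ZM P) :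
    γ • y = y ↔ g * y.val = y.val * g := by
  rw [ZM.ext_iff, smul_val h hg hgγ, mul_inv_eq_iff_eq_mul]

/-- the action on the summands -/
def bl (γ : Equiv.Perm (Pt k m)) (hγ : ∀ p q : Pt k m, p.1 = q.1 → (γ p).1 = (γ q).1)
    (hγ' : ∀ p q : Pt k m, p.1 = q.1 → (γ.symm p).1 = (γ.symm q).1) : Equiv.Perm (Fin k) where
  toFun i := (γ (i, 0)).1
  invFun i := (γ.symm (i, 0)).1
  left_inv i := by
    have h1 := hγ' ((γ (i, 0)).1, 0) (γ (i, 0)) rfl
    rw [γ.symm_apply_apply] at h1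
    exact h1
  right_inv i := by
    have h1 := hγ ((γ.symm (i, 0)).1, 0) (γ.symm (i, 0)) rfl
    rw [γ.apply_symm_apply] at h1
    exact h1

theorem Gam_fst (h : Sit S P V M) (γ : Gam h) {p q : Pt k m} (hpq : p.1 = q.1) :
    ((γ : Equiv.Perm (Pt k m)) p).1 = ((γ : Equiv.Perm (Pt k m)) q).1 := by
  rw [← pp_lft h γ]
  exact h.fst (lft_mem h γ) hpq

theorem Gam_fst' (h : Sit S P V M) (γ : Gam h) {p q : Pt k m} (hpq : p.1 = q.1) :
    ((γ : Equiv.Perm (Pt k m)).symm p).1 = ((γ : Equiv.Perm (Pt k m)).symm q).1 :=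
  Gam_fst h γ⁻¹ hpq

/-- the action of `Gam h` on the summands -/
def aa (h : Sit S P V M) (γ : Gam h) : Equiv.Perm (Fin k) :=
  bl γ (fun _ _ hpq => Gam_fst h γ hpq) (fun _ _ hpq => Gam_fst' h γ hpq)

theorem aa_apply (h : Sit S P V M) (γ : Gam h) (p : Pt k m) : aa h γ p.1 = ((γ : Equiv.Perm (Pt k m)) p).1 :=
  Gam_fst h γ rfl

/-- the image of `S` -/
noncomputable def SS (h : Sit S P V M) : Subgroup (Gam h) := ((S : Subgroup G).subgroupOf P).map (hom h.amb h.hm1 M).rangeRestrict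

theorem mem_SS (h : Sit S P V M) {γ : Gam h} : γ ∈ SS h ↔ ∃ s ∈ (S : Subgroup G), pp M s = γ := by
  constructor
  · rintro ⟨s, hs, rfl⟩
    exact ⟨s, mem_subgroupOf.1 hs, rfl⟩
  · rintro ⟨s, hs, h1⟩
    exact ⟨⟨s, h.SP hs⟩, mem_subgroupOf.2 hs, Subtype.ext h1⟩

/-- the permutations which fix the points outside the summand `i` -/
noncomputable def BB (h : Sit S P V M) (i : Fin k) : Subgroup (Gam h) where
  carrier := {γ | ∀ p : Pt k m, p.1 ≠ i → (γ : Equiv.Perm (Pt k m)) p = p}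
  mul_mem' := by
    intro a b ha hb p hp
    change (a : Equiv.Perm (Pt k m)) ((b : Equiv.Perm (Pt k m)) p) = p
    rw [hb p hp, ha p hp]
  one_mem' := fun p _ => rfl
  inv_mem' := by
    intro a ha p hp
    change (a : Equiv.Perm (Pt k m)).symm p = p
    rw [Equiv.symm_apply_eq, ha p hp]

theorem mem_BB (h : Sit S P V M) {i : Fin k} {γ : Gam h} :
    γ ∈ BB h i ↔ ∀ p : Pt k m, p.1 ≠ i → (γ : Equiv.Perm (Pt k m)) p = p := Iff.rfl

theorem BB_fst (h : Sit S P V M) {i : Fin k} {γ : Gam h} (hγ : γ ∈ BB h i) (p : Pt k m) :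
    ((γ : Equiv.Perm (Pt k m)) p).1 = p.1 := by
  by_cases hp : p.1 = i
  · by_contra h1
    have h2 : ((γ : Equiv.Perm (Pt k m)) p).1 ≠ i := by rw [← hp]; exact h1
    have h3 := hγ _ h2
    exact h1 (congrArg Prod.fst ((γ : Equiv.Perm (Pt k m)).injective h3))
  · rw [hγ p hp]

/-! ### Elements of `V` -/

/-- an element of `V` with a given support function -/
theorem exists_ZM (h : Sit S P V M) (f : Pt k m → ZMod 2) (hf : ∀ i, ∑ x, f (i, x) = 0) :
    ∃ v : ZM P, v.val ∈ V ∧ ∀ p, E M v.val p = f p := by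
  obtain ⟨v, hv, h1⟩ := Half.SymA.exists_E M f hf
  exact ⟨⟨v, h.VZ hv⟩, hv, h1⟩

theorem E_smul (h : Sit S P V M) (γ : Gam h) {v : ZM P} (hv : v.val ∈ V) (p : Pt k m) :
    E M (γ • v).val p = E M v.val ((γ : Equiv.Perm (Pt k m)).symm p) := by
  rw [smul_val h (lft_mem h γ) (pp_lft h γ), E_conj' (lft_mem h γ) hv, pp_lft]
  rfl

theorem smul_mem_V (h : Sit S P V M) (γ : Gam h) {v : ZM P} (hv : v.val ∈ V) : (γ • v).val ∈ V := by
  rw [smul_val h (lft_mem h γ) (pp_lft h γ)]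
  exact h.amb.conj_mem (lft_mem h γ) hv

theorem eq_of_E (h : Sit S P V M) {v w : ZM P} (hv : v.val ∈ V) (hw : w.val ∈ V) (hE : ∀ p, E M v.val p = E M w.val p) :
    v = w := ZM.ext (Half.SymA.inj M hv hw hE)

theorem sum_ne_zero (hm : 1 ≤ m) : ∑ x : Fin (2 ^ m + 1), (if x = 0 then (0 : ZMod 2) else 1) = 0 := by
  have h1 : ∀ x : Fin (2 ^ m + 1), (if x = 0 then (0 : ZMod 2) else 1) = 1 + if x = 0 then 1 else 0 := by
    intro x
    split_ifs
    · rfl
    · rfl
  rw [Finset.sum_congr rfl fun x _ => h1 x, Finset.sum_add_distrib, Finset.sum_const, Finset.card_univ,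
    Fintype.card_fin, Finset.sum_ite_eq' Finset.univ (0 : Fin (2 ^ m + 1)), if_pos (Finset.mem_univ _),
    nsmul_eq_mul, mul_one, Nat.cast_add, Nat.cast_one]
  have h6 : ((2 ^ m : ℕ) : ZMod 2) = 0 := by
    rw [ZMod.natCast_eq_zero_iff]
    exact dvd_pow_self 2 (by omega)
  rw [h6]
  rfl

/-- the vector `σ_i`: the nonzero points of the summand `i` -/
theorem exists_sg (h : Sit S P V M) (i : Fin k) :
    ∃ v : ZM P, v.val ∈ V ∧ ∀ p : Pt k m, E M v.val p = if p.1 = i then (if p.2 = 0 then 0 else 1) else 0 := by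
  apply exists_ZM h
  intro j
  by_cases hj : j = i
  · simp only [hj, if_true]
    exact sum_ne_zero h.hm1
  · simp only [if_neg hj, Finset.sum_const_zero]

/-- the vector `σ_i` -/
noncomputable def sg (h : Sit S P V M) (i : Fin k) : ZM P := (exists_sg h i).choose

theorem sg_mem (h : Sit S P V M) (i : Fin k) : (sg h i).val ∈ V := (exists_sg h i).choose_spec.1

theorem E_sg (h : Sit S P V M) (i : Fin k) (p : Pt k m) :
    E M (sg h i).val p = if p.1 = i then (if p.2 = 0 then 0 else 1) else 0 := (exists_sg h i).choose_spec.2 p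

/-- the vector `z` -/
theorem exists_zv (h : Sit S P V M) :
    ∃ v : ZM P, v.val ∈ V ∧ ∀ p : Pt k m, E M v.val p = if p.2 = 0 then 0 else 1 := by
  apply exists_ZM h
  intro j
  exact sum_ne_zero h.hm1

/-- the vector `z` -/
noncomputable def zv (h : Sit S P V M) : ZM P := (exists_zv h).choose

theorem zv_mem (h : Sit S P V M) : (zv h).val ∈ V := (exists_zv h).choose_spec.1

theorem E_zv (h : Sit S P V M) (p : Pt k m) : E M (zv h).val p = if p.2 = 0 then 0 else 1 :=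
  (exists_zv h).choose_spec.2 p

theorem sum_sg (h : Sit S P V M) (s : Finset (Fin k)) :
    (∑ i ∈ s, sg h i).val ∈ V ∧
      ∀ p : Pt k m, E M (∑ i ∈ s, sg h i).val p = if p.1 ∈ s then (if p.2 = 0 then 0 else 1) else 0 := by
  classical
  induction s using Finset.induction_on with
  | empty =>
    refine ⟨by rw [Finset.sum_empty]; exact one_mem V, fun p => ?_⟩
    rw [Finset.sum_empty, ZM.val_zero, Half.SymA.E_one]
    simp
  | insert a s ha ih =>
    refine ⟨by rw [Finset.sum_insert ha, ZM.val_add]; exact mul_mem (sg_mem h a) ih.1, fun p => ?_⟩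
    rw [Finset.sum_insert ha, ZM.val_add, Half.SymA.E_mul M (sg_mem h a) ih.1, E_sg, ih.2]
    by_cases h1 : p.1 = a
    · have h2 : p.1 ∉ s := by rw [h1]; exact ha
      have h3 : p.1 ∈ insert a s := by rw [h1]; exact Finset.mem_insert_self _ _
      rw [if_pos h1, if_neg h2, add_zero, if_pos h3]
    · rw [if_neg h1, zero_add]
      by_cases h2 : p.1 ∈ s
      · rw [if_pos h2, if_pos (Finset.mem_insert_of_mem h2)]
      · rw [if_neg h2, if_neg]
        rw [Finset.mem_insert, not_or]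
        exact ⟨h1, h2⟩

/-- the summand `i` -/
def VV (h : Sit S P V M) (i : Fin k) : AddSubgroup (ZM P) where
  carrier := {v | v.val ∈ V ∧ ∀ p : Pt k m, p.1 ≠ i → E M v.val p = 0}
  add_mem' := by
    rintro a b ⟨ha, h1⟩ ⟨hb, h2⟩
    refine ⟨mul_mem ha hb, fun p hp => ?_⟩
    rw [ZM.val_add, Half.SymA.E_mul M ha hb, h1 p hp, h2 p hp, add_zero]
  zero_mem' := ⟨one_mem V, fun p _ => Half.SymA.E_one M p⟩
  neg_mem' := by
    rintro a ⟨ha, h1⟩
    refine ⟨inv_mem ha, fun p hp => ?_⟩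
    rw [ZM.val_neg, Half.SymA.E_inv M ha, h1 p hp]

/-! ### (E) -/

section edat

variable [Finite G]

instance : Finite (ZM P) := Finite.of_injective (fun y : ZM P => y.val) fun _ _ h => ZM.ext h

theorem not_dvd_SS (h : Sit S P V M) : ¬ 2 ∣ (SS h).index := by
  have : Fact (Nat.Prime 2) := ⟨Nat.prime_two⟩
  have hsurj : Function.Surjective (hom h.amb h.hm1 M).rangeRestrict := MonoidHom.rangeRestrict_surjective _
  set S1 : Sylow 2 P := S.subtype h.SP with hS1
  have h1 := (S1.mapSurjective hsurj).not_dvd_index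
  exact h1

/-- the permutations which fix all summands -/
noncomputable def G0 (h : Sit S P V M) : Subgroup (Gam h) where
  carrier := {γ | ∀ p : Pt k m, ((γ : Equiv.Perm (Pt k m)) p).1 = p.1}
  mul_mem' := by
    intro a b ha hb p
    change ((a : Equiv.Perm (Pt k m)) ((b : Equiv.Perm (Pt k m)) p)).1 = p.1
    rw [ha, hb]
  one_mem' := fun p => rfl
  inv_mem' := by
    intro a ha p
    change ((a : Equiv.Perm (Pt k m)).symm p).1 = p.1
    rw [← ha ((a : Equiv.Perm (Pt k m)).symm p), Equiv.apply_symm_apply]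

theorem BB_le (h : Sit S P V M) (i : Fin k) : BB h i ≤ G0 h := fun _ hγ p => BB_fst h hγ p

theorem oddB (h : Sit S P V M) (i : Fin k) : Odd ((SS h).relIndex (BB h i)) := by
  have h1 : ¬ 2 ∣ (SS h).relIndex ⊤ := by rw [relIndex_top_right]; exact not_dvd_SS h
  have h2 : (⊤ : Subgroup (Gam h)) ≤ normalizer (G0 h : Set (Gam h)) := by
    intro γ _
    refine MinSimple.VModule.mem_normalizer_of_map_le ?_
    rintro _ ⟨b, hb, rfl⟩
    intro p
    change ((γ : Equiv.Perm (Pt k m)) ((b : Equiv.Perm (Pt k m)) ((γ : Equiv.Perm (Pt k m)).symm p))).1 = p.1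
    rw [Gam_fst h γ (hb _), Equiv.apply_symm_apply]
  have h3 := NO3b.UMethod.not_dvd_inf le_top h1 le_top h2
  have h4 : G0 h ≤ normalizer (BB h i : Set (Gam h)) := by
    intro γ hγ
    refine MinSimple.VModule.mem_normalizer_of_map_le ?_
    rintro _ ⟨b, hb, rfl⟩
    intro p hp
    change (γ : Equiv.Perm (Pt k m)) ((b : Equiv.Perm (Pt k m)) ((γ : Equiv.Perm (Pt k m)).symm p)) = p
    have h5 : ((γ : Equiv.Perm (Pt k m)).symm p).1 = p.1 := (G0 h).inv_mem hγ p
    rw [hb _ (by rw [h5]; exact hp), Equiv.apply_symm_apply]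
  have h5 := NO3b.UMethod.not_dvd_inf inf_le_left h3 (BB_le h i) h4
  have h6 : BB h i ⊓ (G0 h ⊓ SS h) = BB h i ⊓ SS h := by
    rw [← inf_assoc, inf_eq_left.2 (BB_le h i)]
  rw [h6, inf_comm, inf_relIndex_right] at h5
  rw [← Nat.not_even_iff_odd, even_iff_two_dvd]
  exact h5

theorem fix_iff (h : Sit S P V M) (s : G) (hs : s ∈ P) (y : ZM P) :
    (⟨pp M s, mem_Gam h hs⟩ : Gam h) • y = y ↔ s * y.val = y.val * s := smul_eq_iff h hs rfl y

/-- the fixed points of `S` in `V` -/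
theorem fixS_V (h : Sit S P V M) {y : ZM P} (hy : ∀ s ∈ SS h, s • y = y) (h2 : y.val ∈ V) : y = 0 ∨ y = zv h := by
  have h1 : ∀ s ∈ (S : Subgroup G), s * y.val = y.val * s := fun s hs =>
    (fix_iff h s (h.SP hs) y).1 (hy _ ((mem_SS h).2 ⟨s, hs, rfl⟩))
  have h3 : ∀ p q : Pt k m, p.2 ≠ 0 → q.2 ≠ 0 → E M y.val p = E M y.val q := by
    intro p q hp hq
    obtain ⟨s, hs, h4⟩ := h.trans hp hq
    rw [← h4, (h.comm_iff (h.SP hs) h2).1 (h1 s hs)]
  have hne : ∃ x : Fin (2 ^ m + 1), x ≠ 0 := by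
    obtain ⟨c, -, hc⟩ := Half.SymA.exists_third h.hm1 0 0
    exact ⟨c, hc⟩
  obtain ⟨x0, hx0⟩ := hne
  set c := E M y.val (⟨0, h.hk⟩, x0) with hc
  have h4 : ∀ p : Pt k m, p.2 ≠ 0 → E M y.val p = c := fun p hp => h3 _ _ hp hx0
  have h5 : ∀ p : Pt k m, p.2 = 0 → E M y.val p = 0 := by
    intro p hp
    have h6 := Half.SymA.even0 M h.hm1 h2 (i := p.1) (c := c) fun x hx => h4 _ hx
    have h7 : p = (p.1, 0) := Prod.ext rfl hp
    rw [h7]
    exact h6
  rcases Half.SymA.zmod2 c with h6 | h6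
  · left
    refine eq_of_E h h2 (one_mem V) fun p => ?_
    rw [ZM.val_zero, Half.SymA.E_one]
    by_cases hp : p.2 = 0
    · exact h5 p hp
    · rw [h4 p hp, h6]
  · right
    refine eq_of_E h h2 (zv_mem h) fun p => ?_
    rw [E_zv]
    by_cases hp : p.2 = 0
    · rw [if_pos hp]; exact h5 p hp
    · rw [if_neg hp, h4 p hp, h6]

theorem SS_snd (h : Sit S P V M) {γ : Gam h} (hγ : γ ∈ SS h) (p : Pt k m) :
    ((γ : Equiv.Perm (Pt k m)) p).2 = 0 ↔ p.2 = 0 := by
  obtain ⟨s, hs, h1⟩ := (mem_SS h).1 hγ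
  rw [← h1]
  exact h.snd hs

theorem SS_two (h : Sit S P V M) : IsPGroup 2 (SS h) := by
  have h1 : IsPGroup 2 ((S : Subgroup G).subgroupOf P) := S.isPGroup'.comap_of_injective _ P.subtype_injective
  exact h1.map _

/-- `D`, additive -/
def D0 (P D : Subgroup G) : AddSubgroup (ZM P) where
  carrier := {y | y.val ∈ D}
  add_mem' := fun {_ _} ha hb => D.mul_mem ha hb
  zero_mem' := D.one_mem
  neg_mem' := fun {_} ha => D.inv_mem ha

omit [Finite G] in
theorem mem_D0 {D : Subgroup G} {y : ZM P} : y ∈ D0 P D ↔ y.val ∈ D := Iff.rfl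

/-- the fixed points of `S` on `Ω₁(Z(O₂(P)))` -/
theorem fixS {D : Subgroup G} (h : SitD S P V D M) {y : ZM P} (hy : ∀ s ∈ SS h.toSit, s • y = y) :
    y ∈ D0 P D ∨ y + zv h.toSit ∈ D0 P D := by
  have h1 : ∀ s ∈ (S : Subgroup G), s * y.val = y.val * s := fun s hs =>
    (fix_iff h.toSit s (h.SP hs) y).1 (hy _ ((mem_SS h.toSit).2 ⟨s, hs, rfl⟩))
  have h2 : y.val ∈ V ⊔ D := h.zcVD (mem_zc.2 ⟨h.QS (zc_le _ y.mem), h1, by
    rw [pow_two]; exact Sit.zz_sq y.mem⟩)
  have h3 : D ≤ centralizer (V : Set G) := fun d hd => mem_centralizer_iff.2 fun v hv =>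
    Sit.zz_comm (h.VZ hv) (h.DZ hd)
  have h4 : y.val ∈ ((V ⊔ D : Subgroup G) : Set G) := h2
  rw [coe_mul_of_right_le_normalizer_left V D (h3.trans (centralizer_le_normalizer _))] at h4
  obtain ⟨v, hv, d, hd, hvd⟩ := Set.mem_mul.1 h4
  set v' : ZM P := ⟨v, h.VZ hv⟩ with hv'
  set d' : ZM P := ⟨d, h.DZ hd⟩ with hd'
  have h5 : y = v' + d' := ZM.ext hvd.symm
  have h6 : ∀ s ∈ SS h.toSit, s • v' = v' := by
    intro s hs
    obtain ⟨t, ht, h7⟩ := (mem_SS h.toSit).1 hs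
    have h8 : s • d' = d' := (smul_eq_iff h.toSit (h.SP ht) h7 d').2 (h.cenD t (h.SP ht) d hd)
    have h9 := hy s hs
    rw [h5, smul_add, h8] at h9
    exact add_right_cancel h9
  have h7 : d' ∈ D0 P D := hd
  rcases fixS_V h.toSit h6 hv with h8 | h8
  · left
    rw [h5, h8, zero_add]
    exact h7
  · right
    have h9 : y + zv h.toSit = d' := by
      rw [h5, h8, add_comm (zv h.toSit) d', add_assoc, ZM.add_self, add_zero]
    rw [h9]
    exact h7

theorem edat {D : Subgroup G} (hD : SitD S P V D M) : EDatE (SS hD.toSit) (BB hD.toSit) (aa hD.toSit) (VV hD.toSit)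
    (sg hD.toSit) (zv hD.toSit) (D0 P D) where
  two := by
    have h1 : IsPGroup 2 ((S : Subgroup G).subgroupOf P) := S.isPGroup'.comap_of_injective _ P.subtype_injective
    exact h1.map _
  add_self := ZM.add_self
  a_mul := by
    intro s _ t _
    ext1 i
    change (((s : Equiv.Perm (Pt k m)) ((t : Equiv.Perm (Pt k m)) (i, 0)))).1 =
      ((s : Equiv.Perm (Pt k m)) ((((t : Equiv.Perm (Pt k m)) (i, 0))).1, 0)).1
    exact Gam_fst hD.toSit s rfl
  trans := by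
    intro i j
    obtain ⟨t, ht, π, hπ, h1⟩ := Half.SymA.trans_sum (M := M) i j
    refine ⟨⟨pp M t, mem_Gam hD.toSit (hD.toSit.SP ht)⟩, (mem_SS hD.toSit).2 ⟨t, ht, rfl⟩, ?_⟩
    change (pp M t (i, 0)).1 = j
    rw [pp_eq hD.toSit.amb hD.toSit.hm1 (hD.toSit.SP ht) hπ]
    exact h1 _ rfl
  conjB := by
    intro s _ i b hb p hp
    change (s : Equiv.Perm (Pt k m)) ((b : Equiv.Perm (Pt k m)) ((s : Equiv.Perm (Pt k m)).symm p)) = p
    rw [hb, Equiv.apply_symm_apply]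
    intro h1
    apply hp
    rw [← h1, aa_apply, Equiv.apply_symm_apply]
  comm := by
    intro i j hij b hb c hc
    apply Subtype.ext
    ext1 p
    change (b : Equiv.Perm (Pt k m)) ((c : Equiv.Perm (Pt k m)) p) =
      (c : Equiv.Perm (Pt k m)) ((b : Equiv.Perm (Pt k m)) p)
    by_cases h1 : p.1 = i
    · have h2 : p.1 ≠ j := by rw [h1]; exact hij
      rw [hc p h2, hc]
      rw [BB_fst hD.toSit hb]
      exact h2
    · rw [hb p h1, hb]
      rw [BB_fst hD.toSit hc]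
      exact h1
  oddB := oddB hD.toSit
  fixS := fun y hy => fixS hD hy
  D_fix := by
    intro i b hb d hd
    obtain ⟨g, hg, h1⟩ := Gam_ex hD.toSit b
    exact (smul_eq_iff hD.toSit hg h1 d).2 (hD.cenD g hg _ hd)
  z_ne := by
    intro h0
    obtain ⟨c, -, hc⟩ := Half.SymA.exists_third hD.toSit.hm1 0 0
    have h1 := E_zv hD.toSit ((⟨0, hD.toSit.hk⟩, c) : Pt k m)
    rw [h0, ZM.val_zero, Half.SymA.E_one, if_neg hc] at h1
    exact zero_ne_one h1
  sg_mem := by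
    intro i
    refine ⟨sg_mem hD.toSit i, fun p hp => ?_⟩
    rw [E_sg, if_neg hp]
  V_inv := by
    rintro i b hb v ⟨hv, h1⟩
    refine ⟨smul_mem_V hD.toSit b hv, fun p hp => ?_⟩
    rw [E_smul hD.toSit b hv]
    have h2 : (b : Equiv.Perm (Pt k m)).symm p = p := by rw [Equiv.symm_apply_eq, hb p hp]
    rw [h2, h1 p hp]
  V_fix := by
    rintro i v ⟨hv, h1⟩ h2
    apply ZM.ext
    refine hD.toSit.eq_one_of_fixed (l := i) hv h1 fun g hg hgi => ?_
    exact (fix_iff hD.toSit g hg v).1 (h2 _ fun p hp => hgi p hp)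
  sg_S := by
    intro s hs i
    refine eq_of_E hD.toSit (smul_mem_V hD.toSit s (sg_mem hD.toSit i)) (sg_mem hD.toSit _) fun p => ?_
    rw [E_smul hD.toSit s (sg_mem hD.toSit i), E_sg, E_sg]
    have h1 : ((s : Equiv.Perm (Pt k m)).symm p).1 = i ↔ p.1 = aa hD.toSit s i := by
      constructor
      · intro h2
        rw [← h2, aa_apply, Equiv.apply_symm_apply]
      · intro h2
        apply (aa hD.toSit s).injective
        rw [aa_apply, Equiv.apply_symm_apply, h2]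
    have h2 : ((s : Equiv.Perm (Pt k m)).symm p).2 = 0 ↔ p.2 = 0 := by
      have h3 := SS_snd hD.toSit hs ((s : Equiv.Perm (Pt k m)).symm p)
      rw [Equiv.apply_symm_apply] at h3
      exact h3.symm
    simp only [h1, h2]
  sg_B := by
    intro i j hij b hb
    refine eq_of_E hD.toSit (smul_mem_V hD.toSit b (sg_mem hD.toSit j)) (sg_mem hD.toSit j) fun p => ?_
    rw [E_smul hD.toSit b (sg_mem hD.toSit j), E_sg, E_sg]
    by_cases hp : p.1 = i
    · have h1 : ((b : Equiv.Perm (Pt k m)).symm p).1 = p.1 := BB_fst hD.toSit ((BB hD.toSit i).inv_mem hb) p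
      rw [if_neg (by rw [h1, hp]; exact hij), if_neg (by rw [hp]; exact hij)]
    · have h2 : (b : Equiv.Perm (Pt k m)).symm p = p := by rw [Equiv.symm_apply_eq, hb p hp]
      rw [h2]
  sum := by
    rw [finsum_eq_sum_of_fintype]
    have h1 := sum_sg hD.toSit Finset.univ
    refine eq_of_E hD.toSit h1.1 (zv_mem hD.toSit) fun p => ?_
    rw [h1.2, E_zv, if_pos (Finset.mem_univ _)]

/-- **(E)** -/
theorem E_main {D : Subgroup G} (hD : SitD S P V D M) (i : Fin k) {x : ZM P}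
    (hx : ∀ s ∈ SS hD.toSit, aa hD.toSit s i = i → s • x = x) :
    ∃ φ : ZM P, (∀ b ∈ BB hD.toSit i, b • φ = φ) ∧ (x = φ ∨ x = φ + sg hD.toSit i) := (edat hD).main i hx

end edat

end Cfsg.Agent.Omega.IId.SymWrD

end

section


/-!
# II.d, `SwBig`, T-T: LEMMA R and (HF) of bb OMEGA #20414 (helper290)

`SymWrD.Sit S P V M`, `Ω₁(Z(O₂(P))) ≤ V`.

* `exists_restr` : the restriction of an element of `S` to a summand which it fixes is induced by an element of `S`;
  `exists_in` : so `S` has, for nonzero points `p`, `q` of one summand, an element `p ↦ q` trivial on the other summands;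
* `S0 h` : the elements of `S` which centralise all `σ_l`, i.e. fix all summands (`mem_S0`); a 2-group which centralises
  all `σ_l` and contains `S0 h` is `S0 h` (`syl_S0`);
* `lemR` : **LEMMA R**: `Y` a 2-group normalised by `S0 h`, `Y ∩ S0 h` trivial on the summands outside `J`, `Y`
  centralises `σ_j`, `j ∈ J` ⟹ `Y ≤ S0 h`; `lemR_a` (`J = ∅`), `lemR_b` (`J = {i}`);
* `HF` : a 2-subgroup `O` which is normalised by all elements of `P` inside the summands is contained in `O₂(P)`;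
  `HF_zc` : so `V ≤ Ω₁(Z(O))`, if moreover `C_G(O) ≤ O`.
-/

set_option autoImplicit false

namespace Cfsg.Agent.Omega.IId.SwB

open Cfsg.Agent.Omega.IId.SymWrD
open Subgroup Pointwise Cfsg Cfsg.Agent.ZN Cfsg.Agent.Omega.MinPar Cfsg.Agent.Omega.FFThm
open Cfsg.Agent.Omega.Half.SymA (Pt E Mv pm Amb0)
open Cfsg.Agent.MinSimple.VModule (mem_zc zc_le zc_comm zc_sq zc_le_zl le_normalizer_o2 o2_isPGroup o2_le
  normalizer_le_normalizer_zc le_normalizer_zl mem_normalizer_of_map_le)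

universe u

variable {G : Type u} [Group G] {P V : Subgroup G} {k m : ℕ} {S : Sylow 2 G} {M : SymK (S : Subgroup G) P V ⊥ k m}

/-! ### Restrictions -/

/-- the permutations which are, on each summand, induced by an element of `S` -/
def RR (h : Sit S P V M) : Subgroup (Equiv.Perm (Pt k m)) where
  carrier := {δ | ∀ j : Fin k, ∃ s ∈ (S : Subgroup G), ∀ p : Pt k m, p.1 = j → δ p = pp M s p ∧ (pp M s p).1 = j}
  mul_mem' := by
    intro a b ha hb j
    obtain ⟨s, hs, h1⟩ := ha j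
    obtain ⟨t, ht, h2⟩ := hb j
    refine ⟨s * t, mul_mem hs ht, fun p hp => ?_⟩
    rw [h.mul (h.SP hs) (h.SP ht), Equiv.Perm.mul_apply, Equiv.Perm.mul_apply, (h2 p hp).1]
    exact h1 _ (h2 p hp).2
  one_mem' := fun j => ⟨1, one_mem _, fun p hp => by rw [h.one]; exact ⟨rfl, hp⟩⟩
  inv_mem' := by
    intro a ha j
    obtain ⟨s, hs, h1⟩ := ha j
    refine ⟨s⁻¹, inv_mem hs, fun p hp => ?_⟩
    rw [h.inv (h.SP hs)]
    set r := (pp M s)⁻¹ p with hr
    have h2 : pp M s r = p := (pp M s).apply_symm_apply p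
    have h3 : r.1 = p.1 := by
      rw [← pp_fst_iff h.amb h.hm1 (h.SP hs) (M := M), h2, (h1 p hp).2, hp]
    refine ⟨?_, h3.trans hp⟩
    rw [Equiv.Perm.inv_eq_iff_eq, (h1 r (h3.trans hp)).1, h2]

theorem RR_two [Finite G] (h : Sit S P V M) : IsPGroup 2 (RR h) := by
  obtain ⟨n, hn⟩ := IsPGroup.iff_card.1 S.isPGroup'
  rintro ⟨δ, hδ⟩
  refine ⟨n, Subtype.ext ?_⟩
  change δ ^ 2 ^ n = 1
  ext1 p
  obtain ⟨s, hs, h1⟩ := hδ p.1
  have h2 : ∀ i : ℕ, ∀ q : Pt k m, q.1 = p.1 → (δ ^ i) q = pp M (s ^ i) q ∧ (pp M (s ^ i) q).1 = p.1 := by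
    intro i
    induction i with
    | zero => intro q hq; rw [pow_zero, pow_zero, h.one]; exact ⟨rfl, hq⟩
    | succ i ih =>
      intro q hq
      rw [pow_succ, pow_succ, h.mul (pow_mem (h.SP hs) i) (h.SP hs), Equiv.Perm.mul_apply, Equiv.Perm.mul_apply,
        (h1 q hq).1]
      exact ih _ (h1 q hq).2
  have h3 : s ^ 2 ^ n = 1 := by
    have h4 : (⟨s, hs⟩ : (S : Subgroup G)) ^ 2 ^ n = 1 := by rw [← hn]; exact pow_card_eq_one'
    exact congrArg Subtype.val h4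
  rw [(h2 _ p rfl).1, h3, h.one]

theorem RR_conj (h : Sit S P V M) {s : G} (hs : s ∈ (S : Subgroup G)) {δ : Equiv.Perm (Pt k m)} (hδ : δ ∈ RR h) :
    pp M s * δ * (pp M s)⁻¹ ∈ RR h := by
  intro j
  obtain ⟨t, ht, h1⟩ := hδ ((pp M s)⁻¹ (j, 0)).1
  refine ⟨s * t * s⁻¹, mul_mem (mul_mem hs ht) (inv_mem hs), fun p hp => ?_⟩
  rw [h.conj (h.SP hs) (h.SP ht)]
  set r := (pp M s)⁻¹ p with hr
  have h2 : r.1 = ((pp M s)⁻¹ (j, 0)).1 := by
    rw [hr, ← h.inv (h.SP hs)]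
    exact h.fst (inv_mem (h.SP hs)) hp
  obtain ⟨h3, h4⟩ := h1 r h2
  rw [Equiv.Perm.mul_apply, Equiv.Perm.mul_apply, Equiv.Perm.mul_apply, Equiv.Perm.mul_apply, ← hr, h3]
  refine ⟨rfl, ?_⟩
  have h5 : (pp M s (pp M t r)).1 = (pp M s ((pp M s)⁻¹ (j, 0))).1 := h.fst (h.SP hs) h4
  rw [h5, show pp M s ((pp M s)⁻¹ (j, 0)) = (j, 0) from (pp M s).apply_symm_apply _]

/-- **Restrictions.** -/
theorem exists_restr [Finite G] (h : Sit S P V M) {s : G} (hs : s ∈ (S : Subgroup G)) {i : Fin k}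
    (hi : ∀ p : Pt k m, p.1 = i → (pp M s p).1 = i) :
    ∃ t ∈ (S : Subgroup G), (∀ p : Pt k m, p.1 = i → pp M t p = pp M s p) ∧ ∀ p : Pt k m, p.1 ≠ i → pp M t p = p := by
  classical
  have hi' : ∀ p : Pt k m, (pp M s p).1 = i ↔ p.1 = i := by
    intro p
    refine ⟨fun hp => ?_, hi p⟩
    have h1 : (pp M s p).1 = (pp M s (i, 0)).1 := by rw [hp, hi (i, 0) rfl]
    exact (pp_fst_iff h.amb h.hm1 (h.SP hs) (M := M)).1 h1
  set δ : Equiv.Perm (Pt k m) := Equiv.Perm.ofSubtype (Equiv.Perm.subtypePerm (p := fun p : Pt k m => p.1 = i) (pp M s) hi')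
    with hδ
  have h1 : ∀ p : Pt k m, p.1 = i → δ p = pp M s p := by
    intro p hp
    exact Equiv.Perm.ofSubtype_apply_of_mem (p := fun p : Pt k m => p.1 = i) _ hp
  have h2 : ∀ p : Pt k m, p.1 ≠ i → δ p = p := fun p hp =>
    Equiv.Perm.ofSubtype_apply_of_not_mem (p := fun p : Pt k m => p.1 = i) _ hp
  have h3 : δ ∈ RR h := by
    intro j
    by_cases hj : j = i
    · exact ⟨s, hs, fun p hp => ⟨h1 p (hp.trans hj), (hi p (hp.trans hj)).trans hj.symm⟩⟩
    · refine ⟨1, one_mem _, fun p hp => ?_⟩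
      rw [h.one]
      exact ⟨h2 p (by rw [hp]; exact hj), hp⟩
  obtain ⟨t, ht, h4⟩ := h.induced (RR_two h) (fun δ hδ p => by
    obtain ⟨s, -, h5⟩ := hδ p.1
    rw [(h5 p rfl).1, (h5 p rfl).2]) (fun s hs δ hδ => RR_conj h hs hδ) h3
  exact ⟨t, ht, fun p hp => by rw [h4, h1 p hp], fun p hp => by rw [h4, h2 p hp]⟩

/-! ### `S0` -/

/-- the elements of `S` which centralise all `σ_l` -/
noncomputable def S0 (h : Sit S P V M) : Subgroup G :=
  (S : Subgroup G) ⊓ centralizer (Set.range fun l => (sg h l).val)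

theorem exists_ne_zero (hm : 1 ≤ m) : ∃ x : Fin (2 ^ m + 1), x ≠ 0 := by
  obtain ⟨c, -, hc⟩ := Half.SymA.exists_third hm 0 0
  exact ⟨c, hc⟩

theorem mem_S0 (h : Sit S P V M) {s : G} :
    s ∈ S0 h ↔ s ∈ (S : Subgroup G) ∧ ∀ p : Pt k m, (pp M s p).1 = p.1 := by
  unfold S0
  rw [mem_inf]
  refine and_congr_right fun hs => ?_
  rw [mem_centralizer_iff]
  constructor
  · intro h1 p
    obtain ⟨x, hx⟩ := exists_ne_zero h.hm1
    have h3 := (h.comm_iff (h.SP hs) (sg_mem h p.1)).1 (h1 _ ⟨p.1, rfl⟩).symm (p.1, x)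
    rw [E_sg, E_sg, if_pos rfl, if_neg hx] at h3
    by_contra hne
    have h4 : (pp M s (p.1, x)).1 = (pp M s p).1 := h.fst (h.SP hs) rfl
    rw [if_neg (by rw [h4]; exact hne)] at h3
    exact zero_ne_one h3
  · rintro h1 _ ⟨l, rfl⟩
    refine ((h.comm_iff (h.SP hs) (sg_mem h l)).2 fun p => ?_).symm
    rw [E_sg, E_sg, h1 p]
    by_cases h2 : p.1 = l
    · rw [if_pos h2, if_pos h2]
      by_cases h3 : p.2 = 0
      · rw [if_pos h3, if_pos ((h.snd hs).2 h3)]
      · rw [if_neg h3, if_neg fun h4 => h3 ((h.snd hs).1 h4)]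
    · rw [if_neg h2, if_neg h2]

theorem S0_le (h : Sit S P V M) : S0 h ≤ (S : Subgroup G) := inf_le_left

theorem S0_fst (h : Sit S P V M) {s : G} (hs : s ∈ S0 h) (p : Pt k m) : (pp M s p).1 = p.1 := ((mem_S0 h).1 hs).2 p

theorem S0_comm (h : Sit S P V M) {s : G} (hs : s ∈ S0 h) (l : Fin k) : s * (sg h l).val = (sg h l).val * s :=
  (mem_centralizer_iff.1 (mem_inf.1 hs).2 _ ⟨l, rfl⟩).symm

theorem Q_le_S0 (h : Sit S P V M) : o2 P ≤ S0 h := fun s hs =>
  (mem_S0 h).2 ⟨h.QS hs, fun p => by rw [(h.mem_Q_iff (h.QS hs)).1 hs]; rfl⟩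

theorem exists_in [Finite G] (h : Sit S P V M) {p q : Pt k m} (hpq : p.1 = q.1) (hp : p.2 ≠ 0) (hq : q.2 ≠ 0) :
    ∃ s ∈ S0 h, pp M s p = q ∧ ∀ r : Pt k m, r.1 ≠ p.1 → pp M s r = r := by
  obtain ⟨s, hs, h1⟩ := h.trans hp hq
  have h0 : ∀ r : Pt k m, r.1 = p.1 → (pp M s r).1 = p.1 := by
    intro r hr
    rw [h.fst (h.SP hs) hr, h1, hpq]
  obtain ⟨t, ht, h2, h3⟩ := exists_restr h hs h0
  refine ⟨t, (mem_S0 h).2 ⟨ht, fun r => ?_⟩, by rw [h2 p rfl, h1], h3⟩
  by_cases hr : r.1 = p.1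
  · rw [h2 r hr, h0 r hr, hr]
  · rw [h3 r hr]

/-- `S0 h` is a Sylow subgroup of the centraliser of all `σ_l` -/
theorem syl_S0 [Finite G] (h : Sit S P V M) {X : Subgroup G} (hX : IsPGroup 2 X)
    (hXc : ∀ x ∈ X, ∀ l, x * (sg h l).val = (sg h l).val * x) (hSX : S0 h ≤ X) : X ≤ S0 h := by
  have : Fact (Nat.Prime 2) := ⟨Nat.prime_two⟩
  set C : Subgroup G := centralizer (Set.range fun l => (sg h l).val) with hC
  have hSN : (S : Subgroup G) ≤ normalizer (C : Set G) := by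
    intro s hs
    refine mem_normalizer_of_map_le ?_
    rintro _ ⟨c, hc, rfl⟩
    change s * c * s⁻¹ ∈ C
    rw [hC, mem_centralizer_iff]
    rintro _ ⟨l, rfl⟩
    change (sg h l).val * (s * c * s⁻¹) = s * c * s⁻¹ * (sg h l).val
    -- `s⁻¹ σ_l s = σ_l'`
    have h1 : s⁻¹ * (sg h l).val * s⁻¹⁻¹ = (sg h ((pp M s⁻¹ (l, 0)).1)).val := by
      refine Half.SymA.inj M (h.amb.conj_mem (inv_mem (h.SP hs)) (sg_mem h _)) (sg_mem h _) fun p => ?_
      rw [E_conj' (inv_mem (h.SP hs)) (sg_mem h _), h.inv (h.SP hs), inv_inv, E_sg, E_sg]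
      have h2 : (pp M s p).1 = l ↔ p.1 = ((pp M s)⁻¹ (l, 0)).1 := by
        rw [← pp_fst_iff h.amb h.hm1 (h.SP hs) (M := M) (p := p),
          show pp M s ((pp M s)⁻¹ (l, 0)) = (l, 0) from (pp M s).apply_symm_apply _]
      by_cases h3 : (pp M s p).1 = l
      · rw [if_pos h3, if_pos (h2.1 h3)]
        by_cases h4 : p.2 = 0
        · rw [if_pos h4, if_pos ((h.snd hs).2 h4)]
        · rw [if_neg h4, if_neg fun h5 => h4 ((h.snd hs).1 h5)]
      · rw [if_neg h3, if_neg fun h4 => h3 (h2.2 h4)]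
    rw [inv_inv] at h1
    have h2 := mem_centralizer_iff.1 hc _ ⟨(pp M s⁻¹ (l, 0)).1, rfl⟩
    change (sg h ((pp M s⁻¹ (l, 0)).1)).val * c = c * (sg h ((pp M s⁻¹ (l, 0)).1)).val at h2
    rw [← h1] at h2
    calc (sg h l).val * (s * c * s⁻¹) = s * (s⁻¹ * (sg h l).val * s * c) * s⁻¹ := by group
      _ = s * (c * (s⁻¹ * (sg h l).val * s)) * s⁻¹ := by rw [h2]
      _ = s * c * s⁻¹ * (sg h l).val := by group
  have h1 : ¬ 2 ∣ (S : Subgroup G).relIndex (normalizer (C : Set G)) := by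
    intro h2
    apply S.not_dvd_index
    rw [← relIndex_mul_index hSN]
    exact Dvd.dvd.mul_right h2 _
  have h2 := NO3b.UMethod.not_dvd_inf hSN h1 le_normalizer le_rfl
  rw [inf_comm] at h2
  have h3 : X ≤ C := fun x hx => mem_centralizer_iff.2 (by
    rintro _ ⟨l, rfl⟩
    exact (hXc x hx l).symm)
  have h4 : ¬ 2 ∣ (S0 h).relIndex X := by
    intro h5
    apply h2
    have h6 := relIndex_mul_relIndex (S0 h) X C hSX h3
    change 2 ∣ (S0 h).relIndex C
    rw [← h6]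
    exact Dvd.dvd.mul_right h5 _
  obtain ⟨n, hn⟩ := IsPGroup.iff_card.1 hX
  have h5 : (S0 h).relIndex X ∣ 2 ^ n := by
    rw [← hn]
    exact relIndex_dvd_card _ _
  obtain ⟨i, -, hi⟩ := (Nat.dvd_prime_pow Nat.prime_two).1 h5
  rcases Nat.eq_zero_or_pos i with h6 | h6
  · rw [h6, pow_zero] at hi
    exact relIndex_eq_one.1 hi
  · exact absurd (by rw [hi]; exact dvd_pow_self 2 (by omega)) h4

/-! ### LEMMA R -/

theorem E_sum (M : SymK (S : Subgroup G) P V ⊥ k m) {ι : Type*} (f : ι → ZM P) (t : Finset ι) (hf : ∀ i ∈ t, (f i).val ∈ V) :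
    (∑ i ∈ t, f i).val ∈ V ∧ ∀ p, E M (∑ i ∈ t, f i).val p = ∑ i ∈ t, E M (f i).val p := by
  classical
  induction t using Finset.induction_on with
  | empty =>
    refine ⟨by rw [Finset.sum_empty]; exact one_mem V, fun p => ?_⟩
    rw [Finset.sum_empty, ZM.val_zero, Half.SymA.E_one, Finset.sum_empty]
  | insert a t ha ih =>
    obtain ⟨h1, h2⟩ := ih fun i hi => hf i (Finset.mem_insert_of_mem hi)
    have h3 := hf a (Finset.mem_insert_self _ _)
    refine ⟨by rw [Finset.sum_insert ha, ZM.val_add]; exact mul_mem h3 h1, fun p => ?_⟩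
    rw [Finset.sum_insert ha, ZM.val_add, Half.SymA.E_mul M h3 h1, h2, Finset.sum_insert ha]

/-- `σ_l` is a sum of duads `{x, x₀}`, `x ≠ 0` -/
theorem sg_eq_sum (h : Sit S P V M) (l : Fin k) (x₀ : Fin (2 ^ m + 1)) :
    sg h l = ∑ x ∈ Finset.univ.filter (fun x : Fin (2 ^ m + 1) => x ≠ 0),
      (⟨pr M (l, x) (l, x₀), h.VZ (pr_mem M _ _)⟩ : ZM P) := by
  classical
  obtain ⟨h1, h2⟩ := E_sum M (fun x : Fin (2 ^ m + 1) => (⟨pr M (l, x) (l, x₀), h.VZ (pr_mem M _ _)⟩ : ZM P))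
    (Finset.univ.filter (fun x : Fin (2 ^ m + 1) => x ≠ 0)) fun i _ => pr_mem M _ _
  refine eq_of_E h (sg_mem h l) h1 fun p => ?_
  rw [h2, E_sg]
  rw [Finset.sum_congr rfl fun x _ => E_pr M (show ((l, x) : Pt k m).1 = ((l, x₀) : Pt k m).1 from rfl) p,
    Finset.sum_add_distrib, Finset.sum_const]
  have hcard : (Finset.univ.filter (fun x : Fin (2 ^ m + 1) => x ≠ 0)).card = 2 ^ m := by
    rw [Finset.filter_ne' Finset.univ (0 : Fin (2 ^ m + 1)), Finset.card_erase_of_mem (Finset.mem_univ _),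
      Finset.card_univ, Fintype.card_fin]
    rfl
  have h6 : ((2 ^ m : ℕ) : ZMod 2) = 0 := by
    rw [ZMod.natCast_eq_zero_iff]
    exact dvd_pow_self 2 (by have := h.hm; omega)
  rw [hcard, nsmul_eq_mul, h6, zero_mul, add_zero]
  by_cases h3 : p.1 = l
  · rw [if_pos h3]
    by_cases h4 : p.2 = 0
    · rw [if_pos h4]
      refine (Finset.sum_eq_zero fun x hx => if_neg ?_).symm
      rintro rfl
      exact (Finset.mem_filter.1 hx).2 h4
    · rw [if_neg h4, Finset.sum_eq_single_of_mem p.2 (Finset.mem_filter.2 ⟨Finset.mem_univ _, h4⟩)]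
      · rw [if_pos (show p = (l, p.2) from Prod.ext h3 rfl)]
      · intro b _ hb
        refine if_neg ?_
        rintro h5
        exact hb (congrArg Prod.snd h5).symm
  · rw [if_neg h3]
    refine (Finset.sum_eq_zero fun x hx => if_neg ?_).symm
    rintro rfl
    exact h3 rfl

section core

variable [Finite G] (h : Sit S P V M) (hZV : zc (o2 P) ≤ V) {J : Set (Fin k)} {w : G}
  (hw1 : ∀ s ∈ S0 h, w * s * w⁻¹ ∈ S0 h ∧ ∀ p : Pt k m, p.1 ∉ J → pp M (w * s * w⁻¹) p = pp M s p)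
  (hw2 : ∀ s ∈ S0 h, w⁻¹ * s * w ∈ S0 h ∧ ∀ p : Pt k m, p.1 ∉ J → pp M (w⁻¹ * s * w) p = pp M s p)

omit [Finite G] in
include hw2 in
theorem coreK {v : G} (hv : v ∈ V) (hvJ : ∀ p : Pt k m, p.1 ∈ J → E M v p = 0) {s : G} (hs : s ∈ S0 h)
    (hsJ : ∀ p : Pt k m, p.1 ∉ J → pp M s p = p) : s * (w * v * w⁻¹) = w * v * w⁻¹ * s := by
  obtain ⟨h1, h2⟩ := hw2 s hs
  have h3 : w⁻¹ * s * w * v = v * (w⁻¹ * s * w) := by
    rw [h.comm_iff (h.SP (S0_le h h1)) hv]
    intro p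
    by_cases hp : p.1 ∈ J
    · rw [hvJ p hp, hvJ _ (by rw [S0_fst h h1]; exact hp)]
    · rw [h2 p hp, hsJ p hp]
  calc s * (w * v * w⁻¹) = w * (w⁻¹ * s * w * v) * w⁻¹ := by group
    _ = w * (v * (w⁻¹ * s * w)) * w⁻¹ := by rw [h3]
    _ = w * v * w⁻¹ * s := by group

omit [Finite G] in
include hZV hw2 in
theorem coreV {v : G} (hv : v ∈ V) (hvJ : ∀ p : Pt k m, p.1 ∈ J → E M v p = 0) : w * v * w⁻¹ ∈ V := by
  have h1 : ∀ g ∈ o2 P, g * (w * v * w⁻¹) = w * v * w⁻¹ * g := fun g hg =>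
    coreK h hw2 hv hvJ (Q_le_S0 h hg) fun p _ => by rw [(h.mem_Q_iff (h.QS hg)).1 hg]; rfl
  refine hZV (mem_zc.2 ⟨h.cQ (mem_centralizer_iff.2 h1), h1, ?_⟩)
  rw [pow_two]
  calc w * v * w⁻¹ * (w * v * w⁻¹) = w * (v * v) * w⁻¹ := by group
    _ = 1 := by rw [h.Vsq hv]; group

include hZV hw2 in
theorem coreJ {v : G} (hv : v ∈ V) (hvJ : ∀ p : Pt k m, p.1 ∈ J → E M v p = 0) {p q : Pt k m} (hp : p.1 ∈ J)
    (hpq : p.1 = q.1) (h0 : p.2 = 0 ↔ q.2 = 0) : E M (w * v * w⁻¹) p = E M (w * v * w⁻¹) q := by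
  by_cases hp0 : p.2 = 0
  · rw [show p = q from Prod.ext hpq (hp0.trans (h0.1 hp0).symm)]
  · obtain ⟨s, hs, h1, h2⟩ := exists_in h hpq hp0 fun h3 => hp0 (h0.2 h3)
    have h3 := coreK h hw2 hv hvJ hs fun r hr => h2 r fun h4 => hr (h4 ▸ hp)
    rw [← h1]
    exact ((h.comm_iff (h.SP (S0_le h hs)) (coreV h hZV hw2 hv hvJ)).1 h3 p).symm

include hZV hw1 hw2 in
/-- the conjugate of a duad of the summand `l` is supported in the summand `l` -/
theorem coreD {l : Fin k} (hl : l ∉ J) {x y : Fin (2 ^ m + 1)} (hx : x ≠ 0) (hy : y ≠ 0) :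
    w * pr M (l, x) (l, y) * w⁻¹ ∈ V ∧ ∀ p : Pt k m, p.1 ≠ l → E M (w * pr M (l, x) (l, y) * w⁻¹) p = 0 := by
  have hsup : ∀ x y : Fin (2 ^ m + 1), ∀ p : Pt k m, p.1 ∈ J → E M (pr M (l, x) (l, y)) p = 0 := by
    intro x y p hp
    have h1 : p.1 ≠ l := fun h2 => hl (h2 ▸ hp)
    exact E_pr_of_ne M (show ((l, x) : Pt k m).1 = ((l, y) : Pt k m).1 from rfl) (fun h2 => h1 (congrArg Prod.fst h2))
      fun h2 => h1 (congrArg Prod.fst h2)
  refine ⟨coreV h hZV hw2 (pr_mem M _ _) (hsup x y), fun p hp => ?_⟩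
  obtain ⟨s, hs, h1, h2⟩ := exists_in h (p := (l, x)) (q := (l, y)) rfl hx hy
  have h3 : pp M s (l, 0) = (l, 0) :=
    Prod.ext (S0_fst h hs (l, 0)) ((h.snd (S0_le h hs)).2 rfl)
  set v := pr M (l, x) (l, 0) with hv
  have h4 : s * v * s⁻¹ = pr M (l, 0) (l, y) := by
    rw [hv, h.conj_pr (h.SP (S0_le h hs)) (show ((l, x) : Pt k m).1 = ((l, 0) : Pt k m).1 from rfl), h1, h3,
      pr_comm M (show ((l, y) : Pt k m).1 = ((l, 0) : Pt k m).1 from rfl)]
  have h5 : pr M (l, x) (l, y) = v * (s * v * s⁻¹) := by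
    rw [h4, hv, pr_mul M (show ((l, x) : Pt k m).1 = ((l, 0) : Pt k m).1 from rfl)
      (show ((l, 0) : Pt k m).1 = ((l, y) : Pt k m).1 from rfl)]
  obtain ⟨h6, h7⟩ := hw1 s hs
  set t := w * s * w⁻¹ with ht
  have hu : w * v * w⁻¹ ∈ V := coreV h hZV hw2 (pr_mem M _ _) (hsup x 0)
  have h8 : w * pr M (l, x) (l, y) * w⁻¹ = w * v * w⁻¹ * (t * (w * v * w⁻¹) * t⁻¹) := by
    rw [h5, ht]; group
  have htP := h.SP (S0_le h h6)
  rw [h8, Half.SymA.E_mul M hu (h.amb.conj_mem htP hu), E_conj' htP hu]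
  set r := (pp M t)⁻¹ p with hr
  have h9 : pp M t r = p := (pp M t).apply_symm_apply p
  have h10 : r.1 = p.1 := by rw [← S0_fst h h6 r, h9]
  have h11 : E M (w * v * w⁻¹) p = E M (w * v * w⁻¹) r := by
    by_cases hpJ : p.1 ∈ J
    · refine coreJ h hZV hw2 (pr_mem M _ _) (hsup x 0) hpJ h10.symm ?_
      rw [← h9, h.snd (S0_le h h6)]
    · have h12 : pp M t r = r := by
        rw [h7 r (by rw [h10]; exact hpJ), h2 r (by rw [h10]; exact hp)]
      rw [← h9, h12]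
  rw [h11]
  exact CharTwo.add_self_eq_zero _

include hZV hw1 hw2 in
/-- `w` centralises `σ_l`, `l ∉ J` -/
theorem core {l : Fin k} (hl : l ∉ J) : w * (sg h l).val = (sg h l).val * w := by
  let W : AddSubgroup (ZM P) :=
    { carrier := {v | v.val ∈ V ∧ w * v.val * w⁻¹ ∈ V ∧ ∀ p : Pt k m, p.1 ≠ l → E M (w * v.val * w⁻¹) p = 0}
      zero_mem' := ⟨one_mem V, by
        rw [ZM.val_zero, mul_one, mul_inv_cancel]
        exact one_mem V, fun p _ => by
        rw [ZM.val_zero, mul_one, mul_inv_cancel]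
        exact Half.SymA.E_one M p⟩
      add_mem' := by
        rintro a b ⟨ha, ha1, ha2⟩ ⟨hb, hb1, hb2⟩
        have e : w * (a + b).val * w⁻¹ = w * a.val * w⁻¹ * (w * b.val * w⁻¹) := by rw [ZM.val_add]; group
        refine ⟨mul_mem ha hb, ?_, fun p hp => ?_⟩
        · rw [e]; exact mul_mem ha1 hb1
        · rw [e, Half.SymA.E_mul M ha1 hb1, ha2 p hp, hb2 p hp, add_zero]
      neg_mem' := by
        rintro a ⟨ha, ha1, ha2⟩
        have e : w * (-a).val * w⁻¹ = (w * a.val * w⁻¹)⁻¹ := by rw [ZM.val_neg]; group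
        refine ⟨inv_mem ha, ?_, fun p hp => ?_⟩
        · rw [e]; exact inv_mem ha1
        · rw [e, Half.SymA.E_inv M ha1, ha2 p hp] }
  obtain ⟨x₀, hx₀⟩ := exists_ne_zero h.hm1
  have h1 : sg h l ∈ W := by
    rw [sg_eq_sum h l x₀]
    refine AddSubgroup.sum_mem _ fun x hx => ?_
    obtain ⟨h2, h3⟩ := coreD h hZV hw1 hw2 hl (Finset.mem_filter.1 hx).2 hx₀
    exact ⟨pr_mem M _ _, h2, h3⟩
  obtain ⟨-, h2, h3⟩ := h1
  set u := w * (sg h l).val * w⁻¹ with hu
  -- `u` is fixed by `S0`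
  have h4 : ∀ s ∈ S0 h, s * u = u * s := by
    intro s hs
    have h5 := S0_comm h (hw2 s hs).1 l
    calc s * u = w * (w⁻¹ * s * w * (sg h l).val) * w⁻¹ := by rw [hu]; group
      _ = w * ((sg h l).val * (w⁻¹ * s * w)) * w⁻¹ := by rw [h5]
      _ = u * s := by rw [hu]; group
  have h5 : ∀ x y : Fin (2 ^ m + 1), x ≠ 0 → y ≠ 0 → E M u (l, x) = E M u (l, y) := by
    intro x y hx hy
    obtain ⟨s, hs, h6, -⟩ := exists_in h (p := (l, x)) (q := (l, y)) rfl hx hy
    rw [← h6]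
    exact ((h.comm_iff (h.SP (S0_le h hs)) h2).1 (h4 s hs) _).symm
  have h6 : E M u (l, 0) = 0 :=
    Half.SymA.even0 M h.hm1 h2 (i := l) (c := E M u (l, x₀)) fun x hx => h5 x x₀ hx hx₀
  have h7 : u = (sg h l).val := by
    refine Half.SymA.inj M h2 (sg_mem h l) fun p => ?_
    rw [E_sg]
    by_cases hp : p.1 = l
    · rw [if_pos hp]
      by_cases hp0 : p.2 = 0
      · rw [if_pos hp0, show p = (l, 0) from Prod.ext hp hp0]; exact h6
      · rw [if_neg hp0]
        rcases Half.SymA.zmod2 (E M u (l, x₀)) with h8 | h8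
        · exfalso
          have h9 : u = 1 := by
            refine Half.SymA.inj M h2 (one_mem V) fun q => ?_
            rw [Half.SymA.E_one]
            by_cases hq : q.1 = l
            · by_cases hq0 : q.2 = 0
              · rw [show q = (l, 0) from Prod.ext hq hq0]; exact h6
              · rw [show q = (l, q.2) from Prod.ext hq rfl, h5 _ _ hq0 hx₀]; exact h8
            · exact h3 q hq
          have h10 : (sg h l).val = 1 := by
            rw [hu] at h9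
            have h11 : (sg h l).val = w⁻¹ * (w * (sg h l).val * w⁻¹) * w := by group
            rw [h11, h9]; group
          have h11 := E_sg h l (l, x₀)
          rw [h10, Half.SymA.E_one, if_pos rfl, if_neg hx₀] at h11
          exact zero_ne_one h11
        · rw [show p = (l, p.2) from Prod.ext hp rfl, h5 _ _ hp0 hx₀]; exact h8
    · rw [if_neg hp]; exact h3 p hp
  rw [hu] at h7
  rw [← mul_inv_eq_iff_eq_mul]
  exact h7

end core

/-- **LEMMA R** (bb OMEGA #20414 (2)). -/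
theorem lemR [Finite G] (h : Sit S P V M) (hZV : zc (o2 P) ≤ V) (J : Set (Fin k)) {Y : Subgroup G} (hY : IsPGroup 2 Y)
    (hn : S0 h ≤ normalizer (Y : Set G)) (h1 : ∀ y ∈ Y, y ∈ S0 h → ∀ p : Pt k m, p.1 ∉ J → pp M y p = p)
    (h2 : ∀ j ∈ J, ∀ y ∈ Y, y * (sg h j).val = (sg h j).val * y) : Y ≤ S0 h := by
  have : Fact (Nat.Prime 2) := ⟨Nat.prime_two⟩
  have hS02 : IsPGroup 2 (S0 h) := S.isPGroup'.to_le (S0_le h)
  have hX : IsPGroup 2 (S0 h ⊔ Y : Subgroup G) := hS02.to_sup_of_normal_right' hY hn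
  by_contra hcon
  have hlt : S0 h < S0 h ⊔ Y := by
    refine lt_of_le_of_ne le_sup_left fun h3 => hcon ?_
    rw [h3]
    exact le_sup_right
  obtain ⟨x, hx, hx1, hx2⟩ := Involutions.BaerSuzuki.exists_mem_normalizer_of_lt hX hlt
  obtain ⟨s₀, hs₀, w, hw, rfl⟩ := mem_sup_norm hn hx
  have hwn : w ∈ normalizer (S0 h : Set G) := by
    have h3 : w = s₀⁻¹ * (s₀ * w) := by group
    rw [h3]
    exact mul_mem (inv_mem (le_normalizer hs₀)) hx2
  have hwS : w ∉ S0 h := fun h3 => hx1 (mul_mem hs₀ h3)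
  have key : ∀ y ∈ Y, y ∈ normalizer (S0 h : Set G) → ∀ s ∈ S0 h,
      y * s * y⁻¹ ∈ S0 h ∧ ∀ p : Pt k m, p.1 ∉ J → pp M (y * s * y⁻¹) p = pp M s p := by
    intro y hy hyn s hs
    have h3 : y * s * y⁻¹ ∈ S0 h := (mem_normalizer_iff.1 hyn s).1 hs
    refine ⟨h3, fun p hp => ?_⟩
    have h4 : y * s * y⁻¹ * s⁻¹ ∈ S0 h := mul_mem h3 (inv_mem hs)
    have h5 : y * s * y⁻¹ * s⁻¹ ∈ Y := by
      have h6 : s * y⁻¹ * s⁻¹ ∈ Y := (mem_normalizer_iff.1 (hn hs) _).1 (inv_mem hy)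
      have h7 : y * s * y⁻¹ * s⁻¹ = y * (s * y⁻¹ * s⁻¹) := by group
      rw [h7]
      exact mul_mem hy h6
    have h6 : y * s * y⁻¹ = y * s * y⁻¹ * s⁻¹ * s := by group
    rw [h6, h.mul (h.SP (S0_le h h4)) (h.SP (S0_le h hs)), Equiv.Perm.mul_apply]
    exact h1 _ h5 h4 _ (by rw [S0_fst h hs]; exact hp)
  have hwc : ∀ l, w * (sg h l).val = (sg h l).val * w := by
    intro l
    by_cases hl : l ∈ J
    · exact h2 l hl w hw
    · refine core h hZV (key w hw hwn) (fun s hs => ?_) hl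
      have h3 := key w⁻¹ (inv_mem hw) (inv_mem hwn) s hs
      rwa [inv_inv] at h3
  apply hwS
  have hX' : IsPGroup 2 (S0 h ⊔ zpowers w : Subgroup G) :=
    hX.to_le (sup_le_sup_left (zpowers_le.2 hw) _)
  refine syl_S0 h hX' ?_ le_sup_left (mem_sup_right (mem_zpowers w))
  intro x hx l
  have h3 : S0 h ⊔ zpowers w ≤ centralizer ({(sg h l).val} : Set G) := by
    refine sup_le (fun s hs => ?_) (zpowers_le.2 ?_)
    · rw [mem_centralizer_singleton_iff]; exact S0_comm h hs l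
    · rw [mem_centralizer_singleton_iff]; exact hwc l
  exact mem_centralizer_singleton_iff.1 (h3 hx)

/-- LEMMA R (a): `Y ∩ S⁰` trivial on `V`. -/
theorem lemR_a [Finite G] (h : Sit S P V M) (hZV : zc (o2 P) ≤ V) {Y : Subgroup G} (hY : IsPGroup 2 Y)
    (hn : S0 h ≤ normalizer (Y : Set G)) (h1 : ∀ y ∈ Y, y ∈ S0 h → y ∈ o2 P) : Y ≤ S0 h :=
  lemR h hZV ∅ hY hn (fun y hy hy0 p _ => by
    rw [(h.mem_Q_iff (S0_le h hy0)).1 (h1 y hy hy0)]
    rfl) fun j hj => absurd hj (Set.notMem_empty j)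

/-- LEMMA R (b): `Y ∩ S⁰` trivial on the summands `≠ i`, `Y` centralises `σ_i`. -/
theorem lemR_b [Finite G] (h : Sit S P V M) (hZV : zc (o2 P) ≤ V) (i : Fin k) {Y : Subgroup G} (hY : IsPGroup 2 Y)
    (hn : S0 h ≤ normalizer (Y : Set G)) (h1 : ∀ y ∈ Y, y ∈ S0 h → ∀ p : Pt k m, p.1 ≠ i → pp M y p = p)
    (h2 : ∀ y ∈ Y, y * (sg h i).val = (sg h i).val * y) : Y ≤ S0 h :=
  lemR h hZV {i} hY hn (fun y hy hy0 p hp => h1 y hy hy0 p hp) fun j hj y hy => by
    rw [Set.mem_singleton_iff.1 hj]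
    exact h2 y hy

/-! ### (HF) -/

/-- A 2-group `O` normalised by `Sym(Ω_l)`: the elements of `O ∩ P` which fix the summand `l` act trivially on it. -/
theorem fix_block [Finite G] (h : Sit S P V M) {O : Subgroup G} (hO : IsPGroup 2 O) (l : Fin k)
    (hn : ∀ g ∈ P, (∀ p : Pt k m, p.1 ≠ l → pp M g p = p) → g ∈ normalizer (O : Set G)) {y : G} (hy : y ∈ O) (hyP : y ∈ P)
    (hyl : (pp M y (l, 0)).1 = l) {p : Pt k m} (hp : p.1 = l) : pp M y p = p := by
  classical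
  let O1 : Subgroup G :=
    { carrier := {g | g ∈ O ∧ g ∈ P ∧ (pp M g (l, 0)).1 = l}
      mul_mem' := by
        rintro a b ⟨ha, ha1, ha2⟩ ⟨hb, hb1, hb2⟩
        refine ⟨mul_mem ha hb, mul_mem ha1 hb1, ?_⟩
        rw [h.mul ha1 hb1, Equiv.Perm.mul_apply]
        rw [show (pp M a (pp M b (l, 0))).1 = (pp M a (l, 0)).1 from h.fst ha1 hb2, ha2]
      one_mem' := ⟨one_mem _, one_mem _, by rw [h.one]; rfl⟩
      inv_mem' := by
        rintro a ⟨ha, ha1, ha2⟩
        refine ⟨inv_mem ha, inv_mem ha1, ?_⟩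
        rw [h.inv ha1]
        have h1 : pp M a ((pp M a)⁻¹ (l, 0)) = (l, 0) := (pp M a).apply_symm_apply _
        have h2 : (pp M a ((pp M a)⁻¹ (l, 0))).1 = (pp M a (l, 0)).1 := by rw [h1, ha2]
        exact (pp_fst_iff h.amb h.hm1 ha1 (M := M)).1 h2 }
  have hO1 : ∀ g, g ∈ O1 ↔ g ∈ O ∧ g ∈ P ∧ (pp M g (l, 0)).1 = l := fun g => Iff.rfl
  -- `O1` fixes a point of the summand
  obtain ⟨g, hg, hgS⟩ := Half.SymA.exists_conj_le S h.SP (hO.to_le (fun x hx => ((hO1 x).1 hx).1) : IsPGroup 2 O1)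
    fun x hx => ((hO1 x).1 hx).2.1
  set z : Pt k m := (pp M g)⁻¹ ((pp M g (l, 0)).1, 0) with hz
  have hgz : pp M g z = ((pp M g (l, 0)).1, 0) := (pp M g).apply_symm_apply _
  have hzl : z.1 = l := by
    have h1 : (pp M g z).1 = (pp M g (l, 0)).1 := by rw [hgz]
    exact (pp_fst_iff h.amb h.hm1 hg (M := M)).1 h1
  have hfix : ∀ x ∈ O1, pp M x z = z := by
    intro x hx
    obtain ⟨hx1, hx2, hx3⟩ := (hO1 x).1 hx
    have h1 := hgS x hx
    have h2 : pp M (g * x * g⁻¹) (pp M g z) = pp M g (pp M x z) := by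
      rw [h.conj hg hx2, Equiv.Perm.mul_apply, Equiv.Perm.mul_apply,
        show (pp M g)⁻¹ (pp M g z) = z from (pp M g).symm_apply_apply z]
    have h3 : (pp M g (pp M x z)).2 = 0 := by
      rw [← h2]
      exact (h.snd h1).2 (by rw [hgz])
    have h4 : (pp M g (pp M x z)).1 = (pp M g z).1 := by
      refine h.fst hg ?_
      rw [show (pp M x z).1 = (pp M x (l, 0)).1 from h.fst hx2 hzl, hx3, hzl]
    have h5 : pp M g (pp M x z) = pp M g z := Prod.ext h4 (by rw [h3, hgz])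
    exact (pp M g).injective h5
  have hyO : y ∈ O1 := (hO1 y).2 ⟨hy, hyP, hyl⟩
  by_contra hne
  have hzp : z ≠ p := by
    rintro h1
    exact hne (by rw [← h1]; exact hfix y hyO)
  have hswap : ∀ r : Pt k m, r.1 ≠ l → Equiv.swap z p r = r := fun r hr =>
    Equiv.swap_apply_of_ne_of_ne (fun h1 => hr (by rw [h1, hzl])) fun h1 => hr (by rw [h1, hp])
  obtain ⟨t, ht, hτ⟩ := h.exists_pp (π := Equiv.swap z p) (by
    intro r
    by_cases h1 : r = z
    · rw [h1, Equiv.swap_apply_left, hp, hzl]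
    · by_cases h2 : r = p
      · rw [h2, Equiv.swap_apply_right, hp, hzl]
      · rw [Equiv.swap_apply_of_ne_of_ne h1 h2])
  have htn : t ∈ normalizer (O : Set G) := hn t ht fun r hr => by rw [hτ]; exact hswap r hr
  have hz' : pp M (t * y * t⁻¹) z = Equiv.swap z p (pp M y p) := by
    rw [h.conj ht hyP, hτ, Equiv.Perm.mul_apply, Equiv.Perm.mul_apply, Equiv.swap_inv, Equiv.swap_apply_left]
  have h1 : t * y * t⁻¹ ∈ O1 := by
    refine (hO1 _).2 ⟨(mem_normalizer_iff.1 htn y).1 hy, mul_mem (mul_mem ht hyP) (inv_mem ht), ?_⟩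
    have hP : t * y * t⁻¹ ∈ P := mul_mem (mul_mem ht hyP) (inv_mem ht)
    rw [show (pp M (t * y * t⁻¹) (l, 0)).1 = (pp M (t * y * t⁻¹) z).1 from h.fst hP hzl.symm, hz', ← hτ,
      show (pp M t (pp M y p)).1 = (pp M t (l, 0)).1 from h.fst ht (by
        rw [show (pp M y p).1 = (pp M y (l, 0)).1 from h.fst hyP hp, hyl])]
    rw [show (pp M t (l, 0)).1 = (pp M t z).1 from h.fst ht hzl.symm, hτ, Equiv.swap_apply_left, hp]
  have h2 := hfix _ h1
  rw [hz', Equiv.swap_apply_of_ne_of_ne ?_ hne] at h2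
  · have h3 : pp M y p = pp M y z := by rw [h2, hfix y hyO]
    exact hzp ((pp M y).injective h3).symm
  · intro h3
    have h4 : pp M y p = pp M y z := by rw [h3, hfix y hyO]
    exact hzp ((pp M y).injective h4).symm

/-- **(HF)** (bb OMEGA #20414 (3)): a 2-subgroup normalised by all elements of `P` inside the summands is in `O₂(P)`. -/
theorem HF [Finite G] (h : Sit S P V M) (hZV : zc (o2 P) ≤ V) {O : Subgroup G} (hO : IsPGroup 2 O)
    (hn : ∀ g ∈ P, (∀ p : Pt k m, (pp M g p).1 = p.1) → g ∈ normalizer (O : Set G)) : O ≤ o2 P := by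
  have h1 : ∀ y ∈ O, y ∈ S0 h → y ∈ o2 P := by
    intro y hy hy0
    have hyP := h.SP (S0_le h hy0)
    rw [h.mem_Q_iff (S0_le h hy0)]
    ext1 p
    refine fix_block h hO p.1 (fun g hg hg1 => hn g hg fun r => ?_) hy hyP (S0_fst h hy0 _) rfl
    by_cases hr : r.1 = p.1
    · by_contra h2
      have h3 : (pp M g r).1 ≠ p.1 := by rw [← hr]; exact h2
      have h4 := hg1 _ h3
      exact h2 (congrArg Prod.fst ((pp M g).injective h4))
    · rw [hg1 r hr]
  have h2 : O ≤ S0 h := lemR_a h hZV hO (fun s hs => hn s (h.SP (S0_le h hs)) (S0_fst h hs)) h1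
  exact fun y hy => h1 y hy (h2 hy)

/-- (HF) for `O₂(M₀)`. -/
theorem HF_o2 [Finite G] (h : Sit S P V M) (hZV : zc (o2 P) ≤ V) {M₀ : Subgroup G}
    (hM : ∀ g ∈ P, (∀ p : Pt k m, (pp M g p).1 = p.1) → g ∈ M₀)
    (hc : M₀ ⊓ centralizer (o2 M₀ : Set G) ≤ o2 M₀) : o2 M₀ ≤ o2 P ∧ V ≤ zc (o2 M₀) := by
  have h1 : o2 M₀ ≤ o2 P := HF h hZV (o2_isPGroup M₀) fun g hg hg1 => le_normalizer_o2 M₀ (hM g hg hg1)
  have h2 : ∀ v ∈ V, ∀ g ∈ o2 M₀, g * v = v * g := fun v hv g hg =>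
    (mem_zc.1 (h.VZ hv)).2.1 g (h1 hg)
  refine ⟨h1, fun v hv => mem_zc.2 ⟨hc ⟨hM v (h.SP (h.VS hv)) fun p => ?_, mem_centralizer_iff.2 (h2 v hv)⟩, h2 v hv,
    h.amb.sq v hv⟩⟩
  rw [(h.eq_one_iff (h.SP (h.VS hv))).2 (mem_centralizer_iff.2 fun w hw => h.Vcomm hw hv)]
  rfl

/-- (HF) for a 2-local subgroup. -/
theorem HF_nor [Finite G] (hG : IsCharacteristicTwoType G) (h : Sit S P V M) (hZV : zc (o2 P) ≤ V) {B : Subgroup G}
    (hB : IsPGroup 2 B) (hB1 : B ≠ ⊥)
    (hM : ∀ g ∈ P, (∀ p : Pt k m, (pp M g p).1 = p.1) → g ∈ normalizer (B : Set G)) :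
    o2 (normalizer (B : Set G)) ≤ o2 P ∧ V ≤ zc (o2 (normalizer (B : Set G))) :=
  HF_o2 h hZV hM (MinSimple.Basic.char2_normalizer hG hB hB1)

end Cfsg.Agent.Omega.IId.SwB

end

section


/-!
# II.d, `SwBig`, `SwCv` (copy of `SymWr/HHApp.lean` for `D` arbitrary): (HH) of THEOREM L (bb OMEGA #17498) from (E) and the halving lemma

* `Yi h i` : the vectors of `Ω₁(Z(O₂(P)))` fixed by `C_S(V_i)`, a module for the symmetric group of the summand `i`;
* `HH_all` : `HH h F l` for every summand `l`.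
-/

set_option autoImplicit false

namespace Cfsg.Agent.Omega.IId.SymWrD

open Cfsg.Agent.Omega.IId.SymWr
open Subgroup Pointwise Cfsg Cfsg.Agent.ZN Cfsg.Agent.Omega.MinPar Cfsg.Agent.Omega.FFThm
open Cfsg.Agent.Omega.Half (Amb amb_of_loc)
open Cfsg.Agent.Omega.Half.SymA (Pt E Mv pm)
open Cfsg.Agent.MinSimple.VModule (mem_zc zc_le zc_comm zc_sq zc_le_zl le_normalizer_o2 o2_isPGroup o2_le
  normalizer_le_normalizer_zc le_normalizer_zl)
open Cfsg.Agent.Omega.S5.Of (hat hat_add hat_comp sum_hat hat_eq_zero_iff)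
open Cfsg.Agent.Omega.NSix.Match (Mod)

universe u

variable {G : Type u} [Group G] {P V : Subgroup G} {k m : ℕ} {S : Sylow 2 G} {M : SymK (S : Subgroup G) P V ⊥ k m}

theorem fix_iff' (h : Sit S P V M) (s : G) (hs : s ∈ P) (y : ZM P) :
    (⟨pp M s, mem_Gam h hs⟩ : Gam h) • y = y ↔ s * y.val = y.val * s := smul_eq_iff h hs rfl y

/-- the permutation `τ` of the summand `i` -/
def bk (i : Fin k) (τ : Equiv.Perm (Fin (2 ^ m + 1))) : Equiv.Perm (Pt k m) where
  toFun p := if p.1 = i then (p.1, τ p.2) else p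
  invFun p := if p.1 = i then (p.1, τ.symm p.2) else p
  left_inv p := by
    by_cases hp : p.1 = i
    · have h1 : (if p.1 = i then ((p.1, τ p.2) : Pt k m) else p) = (p.1, τ p.2) := if_pos hp
      simp only [h1]
      rw [if_pos hp, τ.symm_apply_apply]
    · have h1 : (if p.1 = i then ((p.1, τ p.2) : Pt k m) else p) = p := if_neg hp
      simp only [h1]
      rw [if_neg hp]
  right_inv p := by
    by_cases hp : p.1 = i
    · have h1 : (if p.1 = i then ((p.1, τ.symm p.2) : Pt k m) else p) = (p.1, τ.symm p.2) := if_pos hp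
      simp only [h1]
      rw [if_pos hp, τ.apply_symm_apply]
    · have h1 : (if p.1 = i then ((p.1, τ.symm p.2) : Pt k m) else p) = p := if_neg hp
      simp only [h1]
      rw [if_neg hp]

theorem bk_of (i : Fin k) (τ : Equiv.Perm (Fin (2 ^ m + 1))) {p : Pt k m} (hp : p.1 = i) :
    bk i τ p = (p.1, τ p.2) := if_pos hp

theorem bk_of_ne (i : Fin k) (τ : Equiv.Perm (Fin (2 ^ m + 1))) {p : Pt k m} (hp : p.1 ≠ i) :
    bk i τ p = p := if_neg hp

theorem bk_fst (i : Fin k) (τ : Equiv.Perm (Fin (2 ^ m + 1))) (p : Pt k m) : (bk i τ p).1 = p.1 := by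
  by_cases hp : p.1 = i
  · rw [bk_of i τ hp]
  · rw [bk_of_ne i τ hp]

theorem bk_mul (i : Fin k) (σ τ : Equiv.Perm (Fin (2 ^ m + 1))) : bk i (σ * τ) = bk i σ * bk i τ := by
  ext1 p
  rw [Equiv.Perm.mul_apply]
  by_cases hp : p.1 = i
  · rw [bk_of i _ hp, bk_of i τ hp, bk_of i σ (p := (p.1, τ p.2)) hp]
    rfl
  · rw [bk_of_ne i _ hp, bk_of_ne i τ hp, bk_of_ne i σ hp]

theorem bk_one (i : Fin k) : bk i (1 : Equiv.Perm (Fin (2 ^ m + 1))) = 1 := by
  ext1 p
  by_cases hp : p.1 = i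
  · rw [bk_of i _ hp]; rfl
  · rw [bk_of_ne i _ hp]; rfl

theorem bk_mem (h : Sit S P V M) (i : Fin k) (τ : Equiv.Perm (Fin (2 ^ m + 1))) : bk i τ ∈ Gam h := by
  obtain ⟨g, hg, h1⟩ := h.exists_pp (fun p => bk_fst i τ p)
  rw [← h1]
  exact mem_Gam h hg

/-- the permutation `τ` of the summand `i`, as a homomorphism -/
noncomputable def bh (h : Sit S P V M) (i : Fin k) : Equiv.Perm (Fin (2 ^ m + 1)) →* Gam h where
  toFun τ := ⟨bk i τ, bk_mem h i τ⟩
  map_one' := Subtype.ext (bk_one i)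
  map_mul' σ τ := Subtype.ext (bk_mul i σ τ)

theorem bh_coe (h : Sit S P V M) (i : Fin k) (τ : Equiv.Perm (Fin (2 ^ m + 1))) :
    ((bh h i τ : Gam h) : Equiv.Perm (Pt k m)) = bk i τ := rfl

theorem bh_mem (h : Sit S P V M) (i : Fin k) (τ : Equiv.Perm (Fin (2 ^ m + 1))) : bh h i τ ∈ BB h i :=
  fun _ hp => bk_of_ne i τ hp

/-- every element of `BB h i` is a permutation of the summand `i` -/
theorem exists_bh (h : Sit S P V M) {i : Fin k} {γ : Gam h} (hγ : γ ∈ BB h i) : ∃ τ, bh h i τ = γ := by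
  have hf := fun p => BB_fst h hγ p
  have hf' : ∀ p, ((γ : Equiv.Perm (Pt k m)).symm p).1 = p.1 := fun p => BB_fst h ((BB h i).inv_mem hγ) p
  let τ : Equiv.Perm (Fin (2 ^ m + 1)) :=
    { toFun := fun x => ((γ : Equiv.Perm (Pt k m)) (i, x)).2
      invFun := fun x => ((γ : Equiv.Perm (Pt k m)).symm (i, x)).2
      left_inv := fun x => by
        have h1 : ((i, ((γ : Equiv.Perm (Pt k m)) (i, x)).2) : Pt k m) = (γ : Equiv.Perm (Pt k m)) (i, x) :=
          Prod.ext (hf (i, x)).symm rfl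
        simp only [h1, Equiv.symm_apply_apply]
      right_inv := fun x => by
        have h1 : ((i, ((γ : Equiv.Perm (Pt k m)).symm (i, x)).2) : Pt k m) = (γ : Equiv.Perm (Pt k m)).symm (i, x) :=
          Prod.ext (hf' (i, x)).symm rfl
        simp only [h1, Equiv.apply_symm_apply] }
  refine ⟨τ, Subtype.ext ?_⟩
  ext1 p
  rw [bh_coe]
  by_cases hp : p.1 = i
  · rw [bk_of i τ hp]
    refine Prod.ext (hf p).symm ?_
    have h2 : p = (i, p.2) := Prod.ext hp rfl
    change ((γ : Equiv.Perm (Pt k m)) (i, p.2)).2 = _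
    rw [← h2]
  · rw [bk_of_ne i τ hp, hγ p hp]

/-- the elements of `S` fixing the points of the summand `i` -/
def SF (S : Sylow 2 G) (M : SymK (S : Subgroup G) P V ⊥ k m) (i : Fin k) (s : G) : Prop :=
  s ∈ (S : Subgroup G) ∧ ∀ p : Pt k m, p.1 = i → pp M s p = p

/-- the vectors fixed by `C_S(V_i)` -/
def Yi (h : Sit S P V M) (i : Fin k) : AddSubgroup (ZM P) where
  carrier := {y | ∀ s, SF S M i s → s * y.val = y.val * s}
  add_mem' := by
    intro a b ha hb s hs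
    rw [ZM.val_add, ← mul_assoc, ha s hs, mul_assoc, hb s hs, mul_assoc]
  zero_mem' := by
    intro s _
    rw [ZM.val_zero, mul_one, one_mul]
  neg_mem' := by
    intro a ha s hs
    have h1 : (-a).val = a.val := by
      rw [ZM.val_neg, inv_eq_of_mul_eq_one_left]
      exact Sit.zz_sq a.mem
    rw [h1]
    exact ha s hs

theorem mem_Yi (h : Sit S P V M) {i : Fin k} {y : ZM P} :
    y ∈ Yi h i ↔ ∀ s, SF S M i s → s * y.val = y.val * s := Iff.rfl

/-- `BB h i` acts on `Yi h i` -/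
theorem smul_mem_Yi (h : Sit S P V M) {i : Fin k} {γ : Gam h} (hγ : γ ∈ BB h i) {y : ZM P} (hy : y ∈ Yi h i) :
    γ • y ∈ Yi h i := by
  intro s hs
  have hsP := h.SP hs.1
  rw [← fix_iff' h s hsP]
  have h1 : (⟨pp M s, mem_Gam h hsP⟩ : Gam h) * γ = γ * ⟨pp M s, mem_Gam h hsP⟩ := by
    apply Subtype.ext
    ext1 p
    change pp M s ((γ : Equiv.Perm (Pt k m)) p) = (γ : Equiv.Perm (Pt k m)) (pp M s p)
    by_cases hp : p.1 = i
    · rw [hs.2 p hp, hs.2 _ ((BB_fst h hγ p).trans hp)]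
    · rw [hγ p hp, hγ]
      intro h2
      apply hp
      have h3 := hs.2 _ h2
      have h4 := (pp M s).injective h3
      rw [← h4]
      exact h2
  rw [← mul_smul, h1, mul_smul, (fix_iff' h s hsP y).2 (hy s hs)]

noncomputable instance actY (h : Sit S P V M) (i : Fin k) :
    DistribMulAction (Equiv.Perm (Fin (2 ^ m + 1))) (Yi h i) where
  smul τ y := ⟨bh h i τ • y.1, smul_mem_Yi h (bh_mem h i τ) y.2⟩
  one_smul y := by
    apply Subtype.ext
    change bh h i 1 • y.1 = y.1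
    rw [map_one, one_smul]
  mul_smul σ τ y := by
    apply Subtype.ext
    change bh h i (σ * τ) • y.1 = bh h i σ • bh h i τ • y.1
    rw [map_mul, mul_smul]
  smul_zero τ := Subtype.ext (smul_zero (bh h i τ))
  smul_add τ x y := Subtype.ext (smul_add (bh h i τ) x.1 y.1)

theorem coe_smulY (h : Sit S P V M) (i : Fin k) (τ : Equiv.Perm (Fin (2 ^ m + 1))) (y : Yi h i) :
    ((τ • y : Yi h i) : ZM P) = bh h i τ • (y : ZM P) := rfl

/-! ### The copy of the even-subset module -/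

theorem lab_Yi (h : Sit S P V M) (i : Fin k) (f : Fin (2 ^ m + 1) → ZMod 2) :
    (⟨LFour.SymF.lab M h.hm1 i f, h.VZ (LFour.SymF.lab_mem M h.hm1 i f)⟩ : ZM P) ∈ Yi h i := by
  intro s hs
  have h1 := LFour.SymF.lab_mem M h.hm1 i f
  change s * LFour.SymF.lab M h.hm1 i f = LFour.SymF.lab M h.hm1 i f * s
  rw [h.comm_iff (h.SP hs.1) h1]
  intro p
  by_cases hp : p.1 = i
  · rw [hs.2 p hp]
  · have h2 : (pp M s p).1 ≠ i := by
      intro h2
      have h3 := hs.2 _ h2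
      have h4 := (pp M s).injective h3
      apply hp
      rw [← h4]
      exact h2
    have h3 : ∀ q : Pt k m, q.1 ≠ i → E M (LFour.SymF.lab M h.hm1 i f) q = 0 := by
      intro q hq
      change M.e _ q.1 q.2 = 0
      rw [LFour.SymF.e_lab, Pi.single_eq_of_ne hq]
      rfl
    rw [h3 _ h2, h3 _ hp]

/-- the copy of the even-subset module -/
noncomputable def io (h : Sit S P V M) (i : Fin k) (f : Fin (2 ^ m + 1) → ZMod 2) : Yi h i :=
  ⟨⟨LFour.SymF.lab M h.hm1 i f, h.VZ (LFour.SymF.lab_mem M h.hm1 i f)⟩, lab_Yi h i f⟩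

theorem io_val (h : Sit S P V M) (i : Fin k) (f : Fin (2 ^ m + 1) → ZMod 2) :
    (io h i f : ZM P).val = LFour.SymF.lab M h.hm1 i f := rfl

theorem E_io (h : Sit S P V M) (i : Fin k) (f : Fin (2 ^ m + 1) → ZMod 2) (p : Pt k m) :
    E M (io h i f : ZM P).val p = if p.1 = i then hat f p.2 else 0 := by
  rw [io_val]
  change M.e _ p.1 p.2 = _
  rw [LFour.SymF.e_lab]
  by_cases hp : p.1 = i
  · rw [if_pos hp, hp, Pi.single_eq_same]
  · rw [if_neg hp, Pi.single_eq_of_ne hp]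
    rfl

theorem io_mod (h : Sit S P V M) (i : Fin k) : Mod (io h i) where
  two y := Subtype.ext (ZM.add_self _)
  add f g := by
    apply Subtype.ext
    apply ZM.ext
    exact LFour.SymF.lab_add M h.hm1 i f g
  act σ f := by
    apply Subtype.ext
    rw [coe_smulY]
    have h1 := (io h i f : ZM P)
    have h2 : (io h i f : ZM P).val ∈ V := LFour.SymF.lab_mem M h.hm1 i f
    refine eq_of_E h (smul_mem_V h _ h2) (LFour.SymF.lab_mem M h.hm1 i _) fun p => ?_
    rw [E_smul h _ h2, E_io]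
    have h3 := E_io h i (f ∘ σ.symm) p
    rw [h3, bh_coe]
    by_cases hp : p.1 = i
    · have h4 : (bk i σ).symm p = (p.1, σ.symm p.2) := if_pos hp
      rw [h4, if_pos hp, if_pos hp, hat_comp]
      rfl
    · have h4 : (bk i σ).symm p = p := if_neg hp
      rw [h4, if_neg hp, if_neg hp]
  ker f := by
    rw [Subtype.ext_iff, ZM.ext_iff]
    exact LFour.SymF.lab_eq_one_iff M h.hm1 i f

/-! ### The Sylow subgroup of the symmetric group of the summand -/

section sylow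

variable [Finite G]

/-- the permutations of the summand `i` which are induced by `S` -/
noncomputable def RS (h : Sit S P V M) (i : Fin k) : Subgroup (Equiv.Perm (Fin (2 ^ m + 1))) :=
  (SS h).comap (bh h i)

theorem range_bh (h : Sit S P V M) (i : Fin k) : (bh h i).range = BB h i := by
  ext γ
  constructor
  · rintro ⟨τ, rfl⟩
    exact bh_mem h i τ
  · intro hγ
    obtain ⟨τ, h1⟩ := exists_bh h hγ
    exact ⟨τ, h1⟩

theorem bh_inj (h : Sit S P V M) (i : Fin k) : Function.Injective (bh h i) := by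
  intro σ τ hst
  ext1 x
  have h1 := congrArg (fun γ : Gam h => (γ : Equiv.Perm (Pt k m)) (i, x)) hst
  change bk i σ (i, x) = bk i τ (i, x) at h1
  rw [bk_of i σ (p := (i, x)) rfl, bk_of i τ (p := (i, x)) rfl] at h1
  exact congrArg Prod.snd h1

theorem RS_isPGroup (h : Sit S P V M) (i : Fin k) : IsPGroup 2 (RS h i) :=
  (SS_two h).comap_of_injective _ (bh_inj h i)

theorem not_dvd_RS (h : Sit S P V M) (i : Fin k) : ¬ 2 ∣ (RS h i).index := by
  rw [RS, index_comap, range_bh, ← even_iff_two_dvd, Nat.not_even_iff_odd]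
  exact oddB h i

/-- the Sylow 2-subgroup of `Sym` of the summand `i` induced by `S` -/
noncomputable def RSyl (h : Sit S P V M) (i : Fin k) : Sylow 2 (Equiv.Perm (Fin (2 ^ m + 1))) :=
  (RS_isPGroup h i).toSylow (not_dvd_RS h i)

theorem mem_RSyl (h : Sit S P V M) (i : Fin k) {τ : Equiv.Perm (Fin (2 ^ m + 1))} :
    τ ∈ (RSyl h i : Subgroup (Equiv.Perm (Fin (2 ^ m + 1)))) ↔ bh h i τ ∈ SS h := Iff.rfl

/-- the elements of `S` fixing the summand `i` induce elements of `RSyl h i` on it -/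
theorem exists_RS (h : Sit S P V M) {i : Fin k} {s : Gam h} (hs : s ∈ SS h) (hsi : aa h s i = i) :
    ∃ τ, bh h i τ ∈ SS h ∧ ∀ p : Pt k m, p.1 = i → (s : Equiv.Perm (Pt k m)) p = bk i τ p := by
  classical
  -- the action of the stabiliser of `i` on the summand `i`
  let St : Subgroup (Gam h) :=
    { carrier := {γ | γ ∈ SS h ∧ ∀ p : Pt k m, p.1 = i → ((γ : Equiv.Perm (Pt k m)) p).1 = i}
      mul_mem' := by
        rintro a b ⟨ha, h1⟩ ⟨hb, h2⟩
        exact ⟨mul_mem ha hb, fun p hp => h1 _ (h2 p hp)⟩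
      one_mem' := ⟨one_mem _, fun p hp => hp⟩
      inv_mem' := by
        rintro a ⟨ha, h1⟩
        refine ⟨inv_mem ha, fun p hp => ?_⟩
        change ((a : Equiv.Perm (Pt k m)).symm p).1 = i
        have h2 : aa h a i = i := h1 (i, 0) rfl
        apply (aa h a).injective
        rw [aa_apply, Equiv.apply_symm_apply, hp, h2] }
  have hSt : ∀ γ ∈ St, ∀ p : Pt k m, p.1 = i → ((γ : Equiv.Perm (Pt k m)) p).1 = i := fun γ hγ => hγ.2
  have hSt' : ∀ γ ∈ St, ∀ p : Pt k m, p.1 = i → ((γ : Equiv.Perm (Pt k m)).symm p).1 = i := fun γ hγ =>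
    (St.inv_mem hγ).2
  let ρ : St →* Equiv.Perm (Fin (2 ^ m + 1)) :=
    { toFun := fun γ =>
        { toFun := fun x => ((γ : Gam h) : Equiv.Perm (Pt k m)) (i, x) |>.2
          invFun := fun x => ((γ : Gam h) : Equiv.Perm (Pt k m)).symm (i, x) |>.2
          left_inv := fun x => by
            have h1 : ((i, (((γ : Gam h) : Equiv.Perm (Pt k m)) (i, x)).2) : Pt k m) =
                ((γ : Gam h) : Equiv.Perm (Pt k m)) (i, x) := Prod.ext (hSt γ γ.2 _ rfl).symm rfl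
            simp only [h1, Equiv.symm_apply_apply]
          right_inv := fun x => by
            have h1 : ((i, (((γ : Gam h) : Equiv.Perm (Pt k m)).symm (i, x)).2) : Pt k m) =
                ((γ : Gam h) : Equiv.Perm (Pt k m)).symm (i, x) := Prod.ext (hSt' γ γ.2 _ rfl).symm rfl
            simp only [h1, Equiv.apply_symm_apply] }
      map_one' := rfl
      map_mul' := fun γ δ => by
        ext1 x
        have h1 : ((i, (((δ : Gam h) : Equiv.Perm (Pt k m)) (i, x)).2) : Pt k m) =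
            ((δ : Gam h) : Equiv.Perm (Pt k m)) (i, x) := Prod.ext (hSt δ δ.2 _ rfl).symm rfl
        change (((γ : Gam h) : Equiv.Perm (Pt k m)) (((δ : Gam h) : Equiv.Perm (Pt k m)) (i, x))).2 =
          (((γ : Gam h) : Equiv.Perm (Pt k m)) (i, (((δ : Gam h) : Equiv.Perm (Pt k m)) (i, x)).2)).2
        rw [h1] }
  have hρ : ∀ (γ : St) (p : Pt k m), p.1 = i → ((γ : Gam h) : Equiv.Perm (Pt k m)) p = bk i (ρ γ) p := by
    intro γ p hp
    rw [bk_of i _ hp]
    have h2 : p = (i, p.2) := Prod.ext hp rfl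
    refine Prod.ext ((hSt γ γ.2 p hp).trans hp.symm) ?_
    change _ = (((γ : Gam h) : Equiv.Perm (Pt k m)) (i, p.2)).2
    rw [← h2]
  have hr2 : IsPGroup 2 ρ.range := by
    have h1 : IsPGroup 2 St := (SS_two h).to_le fun γ hγ => hγ.1
    intro y
    obtain ⟨γ, hγ⟩ := y.2
    obtain ⟨n, hn⟩ := h1 γ
    refine ⟨n, Subtype.ext ?_⟩
    change (y : Equiv.Perm (Fin (2 ^ m + 1))) ^ 2 ^ n = 1
    rw [← hγ, ← map_pow, hn, map_one]
  have hle : (RSyl h i : Subgroup (Equiv.Perm (Fin (2 ^ m + 1)))) ≤ ρ.range := by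
    intro τ hτ
    have h1 : bh h i τ ∈ St := ⟨hτ, fun p hp => by rw [bh_coe, bk_fst, hp]⟩
    refine ⟨⟨bh h i τ, h1⟩, ?_⟩
    ext1 x
    change (bk i τ (i, x)).2 = τ x
    rw [bk_of i τ (p := (i, x)) rfl]
  have heq := (RSyl h i).is_maximal' hr2 hle
  have hsSt : s ∈ St := ⟨hs, fun p hp => by rw [← aa_apply, hp, hsi]⟩
  refine ⟨ρ ⟨s, hsSt⟩, ?_, fun p hp => hρ ⟨s, hsSt⟩ p hp⟩
  have h1 : ρ ⟨s, hsSt⟩ ∈ (RSyl h i : Subgroup (Equiv.Perm (Fin (2 ^ m + 1)))) := by
    rw [← heq]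
    exact ⟨_, rfl⟩
  exact h1

/-- a vector of `Yi h i` which is fixed by the Sylow subgroup is fixed by the stabiliser of `i` in `S` -/
theorem fix_stab (h : Sit S P V M) {i : Fin k} {y : ZM P} (hy : y ∈ Yi h i)
    (hR : ∀ τ, bh h i τ ∈ SS h → bh h i τ • y = y) {s : Gam h} (hs : s ∈ SS h) (hsi : aa h s i = i) : s • y = y := by
  obtain ⟨τ, hτ, h1⟩ := exists_RS h hs hsi
  have h2 : (bh h i τ)⁻¹ * s ∈ SS h := mul_mem (inv_mem hτ) hs
  obtain ⟨t, ht, h3⟩ := (mem_SS h).1 h2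
  have h4 : SF S M i t := by
    refine ⟨ht, fun p hp => ?_⟩
    rw [h3]
    change ((bh h i τ : Gam h) : Equiv.Perm (Pt k m)).symm ((s : Equiv.Perm (Pt k m)) p) = p
    rw [h1 p hp, bh_coe, Equiv.symm_apply_apply]
  have h5 : ((bh h i τ)⁻¹ * s) • y = y := (smul_eq_iff h (h.SP ht) h3 y).2 (hy t h4)
  have h6 : s = bh h i τ * ((bh h i τ)⁻¹ * s) := by group
  rw [h6, mul_smul, h5, hR τ hτ]

/-- **(HH)** for every summand. -/
theorem HH_all {D : Subgroup G} (hD : SitD S P V D M) {μ ν : Equiv.Perm (Pt k m)} (F : Fours M μ ν) (l : Fin k) :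
    HH hD.toSit F l := by
  have h : Sit S P V M := hD.toSit
  classical
  intro y hy hA hS
  set y' : ZM P := ⟨y, hy⟩ with hy'
  have hyY : y' ∈ Yi h l := fun s hs => hS s hs.1 hs.2
  -- the matching
  let μl : Equiv.Perm (Fin (2 ^ m + 1)) :=
    { toFun := fun x => (μ (l, x)).2
      invFun := fun x => (μ (l, x)).2
      left_inv := fun x => by
        have h1 : ((l, (μ (l, x)).2) : Pt k m) = μ (l, x) := Prod.ext (F.mfst (l, x)).symm rfl
        simp only [h1, F.msq]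
      right_inv := fun x => by
        have h1 : ((l, (μ (l, x)).2) : Pt k m) = μ (l, x) := Prod.ext (F.mfst (l, x)).symm rfl
        simp only [h1, F.msq] }
  have hμl : ∀ x, ((l, μl x) : Pt k m) = μ (l, x) := fun x => Prod.ext (F.mfst (l, x)).symm rfl
  have hμl0 : μl 0 = 0 := by
    have h1 := F.mzero (l, 0) rfl
    exact congrArg Prod.snd h1
  have hμlne : ∀ x, x ≠ 0 → μl x ≠ x := by
    intro x hx h0
    apply F.mne (l, x) hx
    rw [← hμl, h0]
  have hμl2 : ∀ x, μl (μl x) = x := by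
    intro x
    have h1 := F.msq (l, x)
    rw [← hμl x, ← hμl] at h1
    exact congrArg Prod.snd h1
  -- `sg h l = ι (single 0 1)`
  have hsg : ((io h l (Pi.single 0 1) : Yi h l) : ZM P) = sg h l := by
    have h2 : ((io h l (Pi.single 0 1) : Yi h l) : ZM P).val ∈ V := LFour.SymF.lab_mem M h.hm1 l _
    refine eq_of_E h h2 (sg_mem h l) fun p => ?_
    rw [E_io, E_sg]
    by_cases hp : p.1 = l
    · rw [if_pos hp, if_pos hp]
      change (Pi.single 0 1 : Fin (2 ^ m + 1) → ZMod 2) p.2 + ∑ j, (Pi.single 0 1 : Fin (2 ^ m + 1) → ZMod 2) j = _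
      rw [Finset.sum_pi_single', if_pos (Finset.mem_univ _)]
      by_cases hp2 : p.2 = 0
      · rw [if_pos hp2, hp2, Pi.single_eq_same]; rfl
      · rw [if_neg hp2, Pi.single_eq_of_ne hp2, zero_add]
    · rw [if_neg hp, if_neg hp]
  have hm1 := h.hm1
  obtain ⟨φ, g, hφ, hg0, hgμ, hyφ⟩ := Halve.halve (io_mod h l) hm1 (Fintype.card_fin _) 0 (RSyl h l) (by
      intro τ hτ
      have h1 : bh h l τ ∈ SS h := hτ
      have h2 := (SS_snd h h1 (l, 0)).2 rfl
      rw [bh_coe, bk_of l τ (p := (l, 0)) rfl] at h2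
      exact h2) (by
      intro w hw
      have h1 : ∀ τ, bh h l τ ∈ SS h → bh h l τ • (w : ZM P) = w := fun τ hτ => congrArg Subtype.val (hw τ hτ)
      obtain ⟨φ, h2, h3⟩ := E_main hD l (x := (w : ZM P)) fun s hs hsl => fix_stab h w.2 h1 hs hsl
      have h4 : φ ∈ Yi h l := by
        rcases h3 with h3 | h3
        · rw [← h3]; exact w.2
        · have h5 : φ = w - sg h l := by rw [h3, add_sub_cancel_right]
          rw [h5, ← hsg]
          exact sub_mem w.2 (io h l (Pi.single 0 1)).2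
      refine ⟨⟨φ, h4⟩, fun τ => Subtype.ext (h2 _ (bh_mem h l τ)), ?_⟩
      rcases h3 with h3 | h3
      · left; exact Subtype.ext h3
      · right
        apply Subtype.ext
        rw [h3, ← hsg]
        rfl) μl hμl0 hμlne hμl2 ⟨y', hyY⟩ (by
      intro x
      apply Subtype.ext
      rw [coe_smulY]
      have h1 : bk l (Equiv.swap x (μl x)) ∈ F.FA := by
        intro p
        by_cases hp : p.1 = l
        · rw [bk_of l _ hp]
          have h2 : p = (l, p.2) := Prod.ext hp rfl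
          by_cases h3 : p.2 = x
          · right
            rw [h3, Equiv.swap_apply_left, hp, hμl, h2, h3]
          · by_cases h4 : p.2 = μl x
            · right
              rw [h4, Equiv.swap_apply_right, hp]
              have h5 : p = μ (l, x) := by rw [h2, h4, hμl]
              rw [h5, F.msq]
            · left
              rw [Equiv.swap_apply_of_ne_of_ne h3 h4]
        · left; exact bk_of_ne l _ hp
      obtain ⟨t, ht, h2⟩ := Fours.exists_A h F h1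
      exact (smul_eq_iff h (h.SP ht.1) h2 y').2 (hA t ht))
  have hgsum : ∑ x, g x = 0 := by
    have h1 : ∑ x, g x = ∑ x ∈ (Finset.univ.filter fun x => x ≠ 0), g x := by
      rw [Finset.sum_filter]
      apply Finset.sum_congr rfl
      intro x _
      by_cases hx : x = 0
      · rw [if_neg (not_not.2 hx), hx, hg0]
      · rw [if_pos hx]
    rw [h1]
    refine Finset.sum_involution (fun x _ => μl x) ?_ ?_ ?_ ?_
    · intro x _
      rw [hgμ]
      exact CharTwo.add_self_eq_zero _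
    · intro x hx _
      exact hμlne x (Finset.mem_filter.1 hx).2
    · intro x hx
      refine Finset.mem_filter.2 ⟨Finset.mem_univ _, fun h2 => (Finset.mem_filter.1 hx).2 ?_⟩
      rw [← hμl2 x, h2, hμl0]
    · intro x _
      exact hμl2 x
  have hat_g : hat g = g := LFour.SymF.hat_of_even hgsum
  refine ⟨(io h l g : ZM P).val, LFour.SymF.lab_mem M h.hm1 l g, (φ : ZM P).val, (φ : ZM P).mem, ?_, ?_, ?_, ?_, ?_⟩
  · intro p hp
    rw [E_io, if_neg hp]
  · rw [E_io, if_pos rfl, hat_g, hg0]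
  · intro p
    rw [E_io, E_io, F.mfst]
    by_cases hp : p.1 = l
    · rw [if_pos hp, if_pos hp, hat_g]
      have h2 : p = (l, p.2) := Prod.ext hp rfl
      have h3 : (μ p).2 = μl p.2 := congrArg (fun q => (μ q).2) h2
      rw [h3, hgμ]
    · rw [if_neg hp, if_neg hp]
  · intro b hb hbl
    have h1 : (⟨pp M b, mem_Gam h hb⟩ : Gam h) ∈ BB h l := hbl
    obtain ⟨τ, h2⟩ := exists_bh h h1
    have h3 := congrArg Subtype.val (hφ τ)
    rw [coe_smulY, h2] at h3
    exact (fix_iff' h b hb _).1 h3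
  · have h1 := congrArg (fun w : Yi h l => (w : ZM P).val) hyφ
    have h2 : y = (φ : ZM P).val * (io h l g : ZM P).val := h1
    rw [h2]
    exact Sit.zz_comm (φ : ZM P).mem (io h l g : ZM P).mem

end sylow

end Cfsg.Agent.Omega.IId.SymWrD

end

section


/-!
# II.d, `SwBig`, `SwCv` (copy of `SymWr/LMain.lean` for `D` arbitrary): THEOREM L for all duads, from (T) (bb OMEGA #17498)

* `L_dual` : `O₂(C_G(n)) ≤ P` for every duad `n`, `m ≥ 3`, from `TT h F x` for all `x`;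
* the consequences of `O₂(C_G(n)) ≤ P` (`Perp`): `W = O₂(C_G(n))` acts on `V` inside `⟨t_n⟩`, the elements of `V`
  commuting with `t_n` lie in `Z(W)`, and `V ≤ W`, `[W, V] ≤ ⟨n⟩`.
-/

set_option autoImplicit false

namespace Cfsg.Agent.Omega.IId.SymWrD

open Cfsg.Agent.Omega.IId.SymWr
open Subgroup Pointwise Cfsg Cfsg.Agent.ZN Cfsg.Agent.Omega.MinPar Cfsg.Agent.Omega.FFThm
open Cfsg.Agent.Omega.Half (Amb amb_of_loc)
open Cfsg.Agent.Omega.Half.SymA (Pt E Mv pm)
open Cfsg.Agent.MinSimple.VModule (mem_zc zc_le zc_comm zc_sq zc_le_zl le_normalizer_o2 o2_isPGroup o2_le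
  normalizer_le_normalizer_zc le_normalizer_zl)

universe u

variable {G : Type u} [Group G] [Finite G] {P V : Subgroup G} {k m : ℕ} {S : Sylow 2 G}
  {M : SymK (S : Subgroup G) P V ⊥ k m}

/-- conjugates of `O₂(C_G(r))` -/
theorem conj_o2C (g r : G) {x : G} (hx : x ∈ o2 (centralizer ({r} : Set G))) :
    g * x * g⁻¹ ∈ o2 (centralizer ({g * r * g⁻¹} : Set G)) := by
  have h1 : o2 (centralizer ({g * r * g⁻¹} : Set G)) = (o2 (centralizer ({r} : Set G))).map
      (MulAut.conj g).toMonoidHom := by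
    have h2 : centralizer ({g * r * g⁻¹} : Set G) = (centralizer ({r} : Set G)).map (MulAut.conj g).toMonoidHom := by
      ext y
      rw [mem_centralizer_singleton_iff]
      constructor
      · intro hy
        refine ⟨g⁻¹ * y * g, ?_, by simp [mul_assoc]⟩
        change g⁻¹ * y * g ∈ centralizer ({r} : Set G)
        rw [mem_centralizer_singleton_iff]
        calc g⁻¹ * y * g * r = g⁻¹ * (y * (g * r * g⁻¹)) * g := by group
          _ = g⁻¹ * (g * r * g⁻¹ * y) * g := by rw [hy]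
          _ = r * (g⁻¹ * y * g) := by group
      · rintro ⟨a, ha, rfl⟩
        have ha' : a * r = r * a := mem_centralizer_singleton_iff.1 ha
        change g * a * g⁻¹ * (g * r * g⁻¹) = g * r * g⁻¹ * (g * a * g⁻¹)
        calc g * a * g⁻¹ * (g * r * g⁻¹) = g * (a * r) * g⁻¹ := by group
          _ = g * (r * a) * g⁻¹ := by rw [ha']
          _ = g * r * g⁻¹ * (g * a * g⁻¹) := by group
    rw [h2]
    exact MinSimple.CosetFam.o2_conj g _
  rw [h1]
  exact ⟨x, hx, rfl⟩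

/-- the duads are conjugate -/
theorem exists_conj_pr (h : Sit S P V M) {x y p q : Pt k m} (hxy : x.1 = y.1) (hne : x ≠ y) (hpq : p.1 = q.1)
    (hpq' : p ≠ q) : ∃ g ∈ P, g * pr M x y * g⁻¹ = pr M p q := by
  classical
  obtain ⟨t, ht, π, hπ, h1⟩ := Half.SymA.trans_sum (M := M) x.1 p.1
  have htP := h.SP ht
  have h2 : pp M t = π := pp_eq h.amb h.hm1 htP hπ
  have hx' : (pp M t x).1 = p.1 := by rw [h2]; exact h1 x rfl
  have hy' : (pp M t y).1 = p.1 := by rw [h2]; exact h1 y hxy.symm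
  have hne' : pp M t x ≠ pp M t y := fun h0 => hne ((pp M t).injective h0)
  -- swap in the summand
  have key : ∀ a b : Pt k m, a.1 = b.1 → ∀ r, (Equiv.swap a b r).1 = r.1 := by
    intro a b hab r
    rcases eq_or_ne r a with rfl | hr
    · rw [Equiv.swap_apply_left, hab]
    · rcases eq_or_ne r b with rfl | hr'
      · rw [Equiv.swap_apply_right, hab]
      · rw [Equiv.swap_apply_of_ne_of_ne hr hr']
  set y1 := Equiv.swap (pp M t x) p (pp M t y) with hy1
  have hy11 : y1.1 = p.1 := by rw [hy1, key _ _ hx', hy']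
  have hy1p : y1 ≠ p := by
    intro h0
    rw [hy1] at h0
    have h3 := congrArg (Equiv.swap (pp M t x) p) h0
    rw [Equiv.swap_apply_self, Equiv.swap_apply_right] at h3
    exact hne' h3.symm
  obtain ⟨g, hg, h3⟩ := h.exists_pp (π := Equiv.swap y1 q * Equiv.swap (pp M t x) p) (by
    intro r
    rw [Equiv.Perm.mul_apply, key _ _ (hy11.trans hpq), key _ _ hx'])
  refine ⟨g * t, P.mul_mem hg htP, ?_⟩
  rw [h.conj_pr (P.mul_mem hg htP) hxy, h.mul hg htP, Equiv.Perm.mul_apply, Equiv.Perm.mul_apply, h3,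
    Equiv.Perm.mul_apply, Equiv.Perm.mul_apply, Equiv.swap_apply_left, ← hy1, Equiv.swap_apply_left,
    Equiv.swap_apply_of_ne_of_ne hy1p.symm hpq']

/-- **THEOREM L** for all duads, from (T) -/
theorem L_dual {D : Subgroup G} (hD : SitD S P V D M) (hm : 3 ≤ m)
    (hTT : ∀ (μ ν : Equiv.Perm (Pt k m)) (F : Fours M μ ν) (x : Pt k m), x.2 ≠ 0 → TT hD.toSit F x) {p q : Pt k m}
    (hpq : p.1 = q.1) (hne : p ≠ q) : o2 (centralizer ({pr M p q} : Set G)) ≤ P := by
  have h : Sit S P V M := hD.toSit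
  obtain ⟨μ, ν, F⟩ := exists_fours h
  obtain ⟨c, -, hc⟩ := Half.SymA.exists_third h.hm1 0 0
  set x : Pt k m := (p.1, c) with hx
  have hL := L_of h F hm (x := x) hc (hTT μ ν F x hc) (HH_all hD F _)
  obtain ⟨g, hg, h1⟩ := exists_conj_pr h (F.mfst x).symm (F.mne x hc).symm hpq hne
  intro y hy
  rw [← h1] at hy
  have h2 := conj_o2C g⁻¹ _ hy
  have h3 : g⁻¹ * (g * pr M x (μ x) * g⁻¹) * g⁻¹⁻¹ = pr M x (μ x) := by group
  rw [h3] at h2
  have h4 := P.mul_mem (P.mul_mem hg (hL h2)) (P.inv_mem hg)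
  have h5 : g * (g⁻¹ * y * g⁻¹⁻¹) * g⁻¹ = y := by group
  rwa [h5] at h4

end Cfsg.Agent.Omega.IId.SymWrD

end
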