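import Cfsg.Agent.Mrg.Omega.IId.SymWrD.Base
import Cfsg.Agent.Mrg.Omega.IId.SymWrD.RankAbs
import Cfsg.Agent.Mrg.Omega.VP

section


/-!
# II.d, `SwBig`, `SwCv`: the rank arguments (R0), (R1) of THEOREM L (bb OMEGA #17498, #17636)

* `R0` : `X` a 2-group normalised by `A` with `X ∩ A ≤ O₂(P)` lies in `O₂(P)`;
* `R1` : `X` a 2-group normalised by `D` with `X ∩ D ≤ A` lies in `A`.
-/

set_option autoImplicit false

namespace Cfsg.Agent.Omega.IId.SymWrD

open Subgroup Pointwise Cfsg Cfsg.Agent.ZN Cfsg.Agent.Omega.MinPar Cfsg.Agent.Omega.FFThm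
open Cfsg.Agent.Omega.Half.SymA (Pt E Mv pm Amb0)
open Cfsg.Agent.MinSimple.VModule (mem_zc zc_le zc_comm zc_sq zc_le_zl le_normalizer_o2 o2_isPGroup o2_le
  normalizer_le_normalizer_zc le_normalizer_zl le_centralizer_zc)

universe u

variable {G : Type u} [Group G] {P V : Subgroup G} {k m : ℕ}

section basic

variable {S : Sylow 2 G} {M : SymK (S : Subgroup G) P V ⊥ k m} (h : Sit S P V M)

include h

theorem Sit.exists_nz (i : Fin k) : ∃ p : Pt k m, p.1 = i ∧ p.2 ≠ 0 := by
  obtain ⟨c, hc, -⟩ := Half.SymA.exists_third h.hm1 0 0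
  exact ⟨(i, c), rfl, hc⟩

/-- an element of `S` which fixes the summands fixes the zero points -/
theorem Sit.fix_zero {s : G} (hs : s ∈ (S : Subgroup G)) (h1 : ∀ p : Pt k m, p.2 ≠ 0 → (pp M s p).1 = p.1)
    {p : Pt k m} (hp : p.2 = 0) : pp M s p = p := by
  obtain ⟨q, hq, hq0⟩ := h.exists_nz p.1
  have h2 : (pp M s p).1 = (pp M s q).1 := h.fst (h.SP hs) hq.symm
  rw [h1 q hq0, hq] at h2
  exact Prod.ext h2 (((h.snd hs).2 hp).trans hp.symm)

theorem Sit.mul_apply {g g' : G} (hg : g ∈ P) (hg' : g' ∈ P) (p : Pt k m) :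
    pp M (g * g') p = pp M g (pp M g' p) := by
  rw [h.mul hg hg', Equiv.Perm.mul_apply]

end basic

section R0

variable {S : Sylow 2 G} {M : SymK (S : Subgroup G) P V ⊥ k m}

/-- the action of `S` on the points `≠ 0` -/
noncomputable def actNz (h : Sit S P V M) : (S : Subgroup G) →* Equiv.Perm {p : Pt k m // p.2 ≠ 0} where
  toFun s := (pp M (s : G)).subtypePerm fun _ => not_congr (h.snd s.2)
  map_one' := by
    ext1 p
    apply Subtype.ext
    change pp M ((1 : (S : Subgroup G)) : G) p = p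
    rw [OneMemClass.coe_one, h.one]
    rfl
  map_mul' s t := by
    ext1 p
    apply Subtype.ext
    change pp M ((s * t : (S : Subgroup G)) : G) p = pp M s (pp M t p)
    rw [MulMemClass.coe_mul, h.mul_apply (h.SP s.2) (h.SP t.2)]

theorem actNz_apply (h : Sit S P V M) (s : (S : Subgroup G)) (p : {p : Pt k m // p.2 ≠ 0}) :
    ((actNz h s p : {p : Pt k m // p.2 ≠ 0}) : Pt k m) = pp M (s : G) p := rfl

theorem actNz_eq_one (h : Sit S P V M) (s : (S : Subgroup G)) : actNz h s = 1 ↔ (s : G) ∈ o2 P := by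
  rw [h.mem_Q_iff s.2]
  constructor
  · intro h1
    have h2 : ∀ p : Pt k m, p.2 ≠ 0 → pp M (s : G) p = p := by
      intro p hp
      have h3 := actNz_apply h s ⟨p, hp⟩
      rw [h1] at h3
      exact h3.symm
    ext1 p
    by_cases hp : p.2 = 0
    · exact h.fix_zero s.2 (fun q hq => by rw [h2 q hq]) hp
    · exact h2 p hp
  · intro h1
    ext1 p
    apply Subtype.ext
    rw [actNz_apply, h1]
    rfl

variable [Finite G]

open scoped Classical in
/-- **(R0)** -/
theorem R0 {μ ν : Equiv.Perm (Pt k m)} (h : Sit S P V M) (F : Fours M μ ν) {X : Subgroup G} (hX : IsPGroup 2 X)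
    (hAX : Fours.A h F ≤ normalizer (X : Set G)) (hXA : X ⊓ Fours.A h F ≤ o2 P) : X ≤ o2 P := by
  refine RankAbs.le_of_normalises S (B := o2 P) (C := Fours.A h F) (E := zc (o2 P)) (Fours.Q_le_A h F)
    (Fours.A_le h F) (h.SP.trans (le_normalizer_o2 P)) (normalizer_le_normalizer_zc _) ?_ ?_ ?_ hX hAX hXA
  · refine le_antisymm ?_ (le_inf h.QS (le_centralizer_zc _))
    conv_rhs => rw [h.Q_eq]
    exact inf_le_inf_left _ (centralizer_le h.VZ)
  · intro c hc
    rw [h.mem_Q_iff (mul_mem hc.1 hc.1), h.mul (h.SP hc.1) (h.SP hc.1)]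
    exact F.FA_sq hc.2
  · intro U hU1 hU2 hU3
    refine RankAbs.card_le_of_rank (actNz h) (actNz_eq_one h)
      (μ.subtypePerm fun _ => not_congr F.mnz) (fun x => Subtype.ext (F.msq x))
      (fun x hx => F.mne x x.2 (congrArg Subtype.val hx)) (Fours.Q_le_A h F) (Fours.A_le h F) ?_ hU1 hU2 hU3
    intro π hπ
    have h1 : ∀ p : Pt k m, ∀ hp : p.2 ≠ 0, Equiv.Perm.ofSubtype π p = π ⟨p, hp⟩ := fun p hp =>
      Equiv.Perm.ofSubtype_apply_of_mem π hp
    obtain ⟨s, hs, h2⟩ := Fours.exists_A h F (π := Equiv.Perm.ofSubtype π) (by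
      intro p
      by_cases hp : p.2 = 0
      · left
        exact Equiv.Perm.ofSubtype_apply_of_not_mem π (not_not.2 hp)
      · rcases hπ ⟨p, hp⟩ with h3 | h3
        · left
          rw [h1 p hp, h3]
        · right
          rw [h1 p hp, h3]
          rfl)
    refine ⟨⟨s, hs.1⟩, hs, ?_⟩
    ext1 p
    apply Subtype.ext
    rw [actNz_apply]
    change pp M s p = _
    rw [h2, h1 p p.2]

end R0

/-! ### The action on the pairs -/

section R1

variable {S : Sylow 2 G} {M : SymK (S : Subgroup G) P V ⊥ k m} {μ ν : Equiv.Perm (Pt k m)}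

/-- `p` and `q` belong to the same pair -/
def pst (F : Fours M μ ν) : Setoid {p : Pt k m // p.2 ≠ 0} where
  r p q := (q : Pt k m) = p ∨ (q : Pt k m) = μ p
  iseqv :=
    { refl := fun _ => Or.inl rfl
      symm := by
        rintro p q (h | h)
        · exact Or.inl h.symm
        · right
          rw [h, F.msq]
      trans := by
        rintro p q r (h | h) (h' | h')
        · left; rw [h', h]
        · right; rw [h', h]
        · right; rw [h', h]
        · left; rw [h', h, F.msq] }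

/-- the pairs -/
abbrev Prs (F : Fours M μ ν) := Quotient (pst F)

/-- the pair of `p` -/
def mkp (F : Fours M μ ν) (p : Pt k m) (hp : p.2 ≠ 0) : Prs F := Quotient.mk (pst F) ⟨p, hp⟩

theorem mkp_eq {F : Fours M μ ν} {p q : Pt k m} {hp : p.2 ≠ 0} {hq : q.2 ≠ 0} :
    mkp F p hp = mkp F q hq ↔ q = p ∨ q = μ p := by
  rw [mkp, mkp, Quotient.eq]
  rfl

theorem exists_mkp {F : Fours M μ ν} (x : Prs F) : ∃ p hp, x = mkp F p hp := by
  obtain ⟨⟨p, hp⟩, rfl⟩ := Quotient.exists_rep x
  exact ⟨p, hp, rfl⟩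

/-- the action of a permutation on the pairs -/
def onPrs (F : Fours M μ ν) (π : Equiv.Perm (Pt k m)) (h0 : ∀ p, (π p).2 = 0 ↔ p.2 = 0)
    (h1 : ∀ p, π (μ p) = μ (π p)) : Prs F → Prs F :=
  Quotient.map' (fun p => ⟨π p, fun h => p.2 ((h0 _).1 h)⟩) (by
    rintro p q (h | h)
    · left
      change π q = π p
      rw [h]
    · right
      change π q = μ (π p)
      rw [h, h1])

theorem onPrs_mkp {F : Fours M μ ν} {π : Equiv.Perm (Pt k m)} {h0 : ∀ p, (π p).2 = 0 ↔ p.2 = 0}
    {h1 : ∀ p, π (μ p) = μ (π p)} {p : Pt k m} {hp : p.2 ≠ 0} :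
    onPrs F π h0 h1 (mkp F p hp) = mkp F (π p) (fun h => hp ((h0 _).1 h)) := rfl

/-- the action of `S` on the pairs -/
@[implicit_reducible] noncomputable def actPr (h : Sit S P V M) (F : Fours M μ ν) : MulAction (S : Subgroup G) (Prs F) where
  smul s := onPrs F (pp M (s : G)) (fun _ => h.snd s.2) (F.meqv s s.2)
  one_smul x := by
    obtain ⟨p, hp, rfl⟩ := exists_mkp x
    change mkp F (pp M ((1 : (S : Subgroup G)) : G) p) _ = _
    rw [mkp_eq]
    left
    rw [OneMemClass.coe_one, h.one]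
    rfl
  mul_smul s t x := by
    obtain ⟨p, hp, rfl⟩ := exists_mkp x
    change mkp F (pp M ((s * t : (S : Subgroup G)) : G) p) _ = mkp F (pp M (s : G) (pp M (t : G) p)) _
    rw [mkp_eq]
    left
    rw [MulMemClass.coe_mul, h.mul_apply (h.SP s.2) (h.SP t.2)]

/-- the homomorphism -/
noncomputable def homPr (h : Sit S P V M) (F : Fours M μ ν) : (S : Subgroup G) →* Equiv.Perm (Prs F) :=
  @MulAction.toPermHom (S : Subgroup G) (Prs F) _ (actPr h F)

theorem homPr_mkp (h : Sit S P V M) (F : Fours M μ ν) (s : (S : Subgroup G)) {p : Pt k m} {hp : p.2 ≠ 0} :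
    homPr h F s (mkp F p hp) = mkp F (pp M (s : G) p) (fun h0 => hp ((h.snd s.2).1 h0)) := rfl

theorem homPr_eq_one (h : Sit S P V M) (F : Fours M μ ν) (s : (S : Subgroup G)) :
    homPr h F s = 1 ↔ (s : G) ∈ Fours.A h F := by
  constructor
  · intro h1
    have h2 : ∀ p : Pt k m, p.2 ≠ 0 → pp M (s : G) p = p ∨ pp M (s : G) p = μ p := by
      intro p hp
      have h3 := homPr_mkp h F s (hp := hp)
      rw [h1] at h3
      exact mkp_eq.1 h3
    refine ⟨s.2, fun p => ?_⟩
    by_cases hp : p.2 = 0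
    · left
      refine h.fix_zero s.2 (fun q hq => ?_) hp
      rcases h2 q hq with h3 | h3
      · rw [h3]
      · rw [h3, F.mfst]
    · exact h2 p hp
  · rintro ⟨-, h1⟩
    ext1 x
    obtain ⟨p, hp, rfl⟩ := exists_mkp x
    rw [homPr_mkp, Equiv.Perm.one_apply, mkp_eq]
    rcases h1 p with h2 | h2
    · left; rw [h2]
    · right; rw [h2, F.msq]

/-- the involution of the pairs -/
def nuPr (F : Fours M μ ν) : Equiv.Perm (Prs F) where
  toFun := onPrs F ν (fun _ => F.nnz) (fun p => (F.comm p).symm)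
  invFun := onPrs F ν (fun _ => F.nnz) (fun p => (F.comm p).symm)
  left_inv x := by
    obtain ⟨p, hp, rfl⟩ := exists_mkp x
    rw [onPrs_mkp, onPrs_mkp, mkp_eq]
    left; rw [F.nsq]
  right_inv x := by
    obtain ⟨p, hp, rfl⟩ := exists_mkp x
    rw [onPrs_mkp, onPrs_mkp, mkp_eq]
    left; rw [F.nsq]

theorem nuPr_mkp {F : Fours M μ ν} {p : Pt k m} {hp : p.2 ≠ 0} :
    nuPr F (mkp F p hp) = mkp F (ν p) (fun h => hp (F.nnz.1 h)) := rfl

theorem nuPr_ne {F : Fours M μ ν} (x : Prs F) : nuPr F x ≠ x := by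
  obtain ⟨p, hp, rfl⟩ := exists_mkp x
  rw [nuPr_mkp, Ne, mkp_eq]
  rintro (h1 | h1)
  · exact F.nne p hp h1.symm
  · have h2 : μ p = ν p := by
      conv_lhs => rw [h1]
      exact F.msq _
    exact F.nmu p hp h2.symm

theorem nuPr_sq {F : Fours M μ ν} (x : Prs F) : nuPr F (nuPr F x) = x := (nuPr F).left_inv x

open scoped Classical in
/-- an element of `FD` inducing a permutation of the pairs which preserves all 4-blocks -/
theorem exists_FD (F : Fours M μ ν) (π : Equiv.Perm (Prs F)) (hπ : ∀ x, π x = x ∨ π x = nuPr F x) :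
    ∃ δ ∈ F.FD, ∀ p, ∀ hp : p.2 ≠ 0, ∀ hp' : (δ p).2 ≠ 0, mkp F (δ p) hp' = π (mkp F p hp) := by
  obtain ⟨f, hf⟩ : ∃ f : Pt k m → Pt k m, ∀ p, f p =
      if hp : p.2 = 0 then p else if π (mkp F p hp) = mkp F p hp then p else ν p := ⟨_, fun _ => rfl⟩
  have f0 : ∀ p, p.2 = 0 → f p = p := fun p hp => by rw [hf, dif_pos hp]
  have f1 : ∀ p, ∀ hp : p.2 ≠ 0, π (mkp F p hp) = mkp F p hp → f p = p := fun p hp h1 => by
    rw [hf, dif_neg hp, if_pos h1]
  have f2 : ∀ p, ∀ hp : p.2 ≠ 0, π (mkp F p hp) ≠ mkp F p hp → f p = ν p := fun p hp h1 => by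
    rw [hf, dif_neg hp, if_neg h1]
  have hff : ∀ p, f (f p) = p := by
    intro p
    by_cases hp : p.2 = 0
    · rw [f0 p hp, f0 p hp]
    · by_cases h1 : π (mkp F p hp) = mkp F p hp
      · rw [f1 p hp h1, f1 p hp h1]
      · have h2 : (ν p).2 ≠ 0 := fun h0 => hp (F.nnz.1 h0)
        rw [f2 p hp h1, f2 (ν p) h2, F.nsq]
        intro h3
        have h4 : π (mkp F p hp) = mkp F (ν p) h2 := by
          rcases hπ (mkp F p hp) with h5 | h5
          · exact absurd h5 h1
          · rw [h5, nuPr_mkp]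
        have h5 := π.injective (h3.trans h4.symm)
        rw [← nuPr_mkp (hp := hp)] at h5
        exact nuPr_ne _ h5
  refine ⟨⟨f, f, hff, hff⟩, ⟨fun p => ?_, fun p => ?_⟩, ?_⟩
  · change Fours.Cl μ ν p (f p)
    by_cases hp : p.2 = 0
    · left; exact f0 p hp
    · by_cases h1 : π (mkp F p hp) = mkp F p hp
      · left; exact f1 p hp h1
      · right; right; left; exact f2 p hp h1
  · change f (μ p) = μ (f p)
    by_cases hp : p.2 = 0
    · rw [F.mzero p hp, f0 p hp, F.mzero p hp]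
    · have hp' : (μ p).2 ≠ 0 := fun h0 => hp (F.mnz.1 h0)
      have e : mkp F (μ p) hp' = mkp F p hp := mkp_eq.2 (Or.inr (F.msq p).symm)
      by_cases h1 : π (mkp F p hp) = mkp F p hp
      · rw [f1 p hp h1, f1 (μ p) hp' (by rw [e, h1])]
      · rw [f2 p hp h1, f2 (μ p) hp' (by rw [e]; exact h1), F.comm]
  · intro p hp hp'
    change (f p).2 ≠ 0 at hp'
    change mkp F (f p) hp' = _
    by_cases h1 : π (mkp F p hp) = mkp F p hp
    · rw [h1, mkp_eq, f1 p hp h1]
      exact Or.inl rfl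
    · have h4 : π (mkp F p hp) = nuPr F (mkp F p hp) := by
        rcases hπ (mkp F p hp) with h5 | h5
        · exact absurd h5 h1
        · exact h5
      rw [h4, nuPr_mkp, mkp_eq, f2 p hp h1]
      exact Or.inl rfl

/-- `p.1 = (μ p).1`, so there is an element of `V` with support `{p, μ p}` -/
theorem exists_e (F : Fours M μ ν) (p : Pt k m) (hp : p.2 ≠ 0) :
    ∃ v ∈ V, ∀ r, E M v r = 1 ↔ r = p ∨ r = μ p := by
  classical
  obtain ⟨v, hv, h1⟩ := Half.SymA.exists_pair M (F.mfst p).symm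
  refine ⟨v, hv, fun r => ?_⟩
  rw [h1]
  by_cases h2 : r = p
  · subst h2
    rw [if_pos rfl, if_neg (F.mne r hp).symm, add_zero]
    exact ⟨fun _ => Or.inl rfl, fun _ => rfl⟩
  · by_cases h3 : r = μ p
    · rw [if_neg h2, if_pos h3, zero_add]
      exact ⟨fun _ => Or.inr h3, fun _ => rfl⟩
    · rw [if_neg h2, if_neg h3, add_zero]
      exact ⟨fun h4 => absurd h4.symm one_ne_zero, fun h4 => (h4.elim h2 h3).elim⟩

/-- `g ∈ P` commutes with `v ∈ V` iff it preserves the support of `v` -/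
theorem Sit.comm_iff' (h : Sit S P V M) {g : G} (hg : g ∈ P) {v : G} (hv : v ∈ V) :
    g * v = v * g ↔ ∀ p, E M v (pp M g p) = E M v p := by
  constructor
  · intro h1 p
    have h2 := E_conj (M := M) hg hv p
    rwa [h1, mul_inv_cancel_right] at h2
  · intro h1
    have h2 : g * v * g⁻¹ = v := by
      refine Half.SymA.inj M (h.amb.conj_mem hg hv) hv fun r => ?_
      have h3 := h1 ((pp M g)⁻¹ r)
      rw [E_conj' hg hv, ← h3]
      congr 1
      exact (pp M g).apply_symm_apply r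
    rwa [mul_inv_eq_iff_eq_mul] at h2

theorem Sit.comm_iff_mem (h : Sit S P V M) {g : G} (hg : g ∈ P) {v : G} (hv : v ∈ V) :
    g * v = v * g ↔ ∀ p, E M v (pp M g p) = 1 ↔ E M v p = 1 := by
  rw [h.comm_iff' hg hv]
  refine forall_congr' fun p => ?_
  have : ∀ a b : ZMod 2, a = b ↔ (a = 1 ↔ b = 1) := by decide
  exact this _ _

variable [Finite G]

omit [Finite G] in
theorem inf_centralizer_zc_A (h : Sit S P V M) (F : Fours M μ ν) :
    (S : Subgroup G) ⊓ centralizer (zc (Fours.A h F) : Set G) = Fours.A h F := by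
  refine le_antisymm ?_ (le_inf (Fours.A_le h F) (le_centralizer_zc _))
  rintro s ⟨hs, hsC⟩
  have h2 : ∀ p : Pt k m, p.2 ≠ 0 → pp M s p = p ∨ pp M s p = μ p := by
    intro p hp
    obtain ⟨v, hv, h1⟩ := exists_e F p hp
    have hvA : v ∈ zc (Fours.A h F) := by
      refine mem_zc.2 ⟨Fours.Q_le_A h F (zc_le _ (h.VZ hv)), fun a ha => ?_, h.amb.sq v hv⟩
      rw [h.comm_iff_mem (h.SP ha.1) hv]
      intro r
      have e1 : E M v (μ r) = 1 ↔ E M v r = 1 := by
        rw [h1, h1]
        constructor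
        · rintro (h3 | h3)
          · right; rw [← h3, F.msq]
          · left; exact μ.injective h3
        · rintro (h3 | h3)
          · right; rw [h3]
          · left; rw [h3, F.msq]
      rcases ha.2 r with h3 | h3
      · rw [h3]
      · rw [h3, e1]
    have h3 : s * v = v * s := (mem_centralizer_iff.1 hsC v hvA).symm
    rw [h.comm_iff_mem (h.SP hs) hv] at h3
    have h4 := (h3 p).2 ((h1 p).2 (Or.inl rfl))
    exact (h1 _).1 h4
  refine ⟨hs, fun p => ?_⟩
  by_cases hp : p.2 = 0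
  · left
    refine h.fix_zero hs (fun q hq => ?_) hp
    rcases h2 q hq with h3 | h3
    · rw [h3]
    · rw [h3, F.mfst]
  · exact h2 p hp

/-- **(R1)** -/
theorem R1 (h : Sit S P V M) (F : Fours M μ ν) {X : Subgroup G} (hX : IsPGroup 2 X)
    (hDX : Fours.D h F ≤ normalizer (X : Set G)) (hXD : X ⊓ Fours.D h F ≤ Fours.A h F) : X ≤ Fours.A h F := by
  refine RankAbs.le_of_normalises S (B := Fours.A h F) (C := Fours.D h F) (E := zc (Fours.A h F)) (Fours.A_le_D h F)
    (Fours.D_le h F) (Fours.S_le_normalizer_A h F) (normalizer_le_normalizer_zc _) (inf_centralizer_zc_A h F) ?_ ?_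
    hX hDX hXD
  · intro c hc
    refine ⟨mul_mem hc.1 hc.1, ?_⟩
    rw [h.mul (h.SP hc.1) (h.SP hc.1)]
    exact F.FD_sq hc.2
  · intro U hU1 hU2 hU3
    refine RankAbs.card_le_of_rank (homPr h F) (homPr_eq_one h F) (nuPr F) nuPr_sq nuPr_ne (Fours.A_le_D h F)
      (Fours.D_le h F) ?_ hU1 hU2 hU3
    intro π hπ
    obtain ⟨δ, hδ, h1⟩ := exists_FD F π hπ
    obtain ⟨s, hs, h2⟩ := Fours.exists_D h F hδ
    refine ⟨⟨s, hs.1⟩, hs, ?_⟩
    ext1 x
    obtain ⟨p, hp, rfl⟩ := exists_mkp x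
    rw [homPr_mkp]
    have h3 : (δ p).2 ≠ 0 := by
      rw [← h2]
      exact fun h0 => hp ((h.snd hs.1).1 h0)
    rw [← h1 p hp h3, mkp_eq]
    left
    change δ p = pp M s p
    rw [h2]

end R1

end Cfsg.Agent.Omega.IId.SymWrD

end

section


/-!
# II.d, `SwBig`, `SwCv`: (F0), (T) of THEOREM L (bb OMEGA #17498, #17636)

`F0` : `m ≥ 3`; the rest: `m ≥ 2`.

* `Sit.mem_Q_of_two` : a 2-element of `P` which acts trivially on the points lies in `O₂(P)`;
* `fix_of_core` : the elements of `O₂(C(T)) ∩ P` (`T ⊆ V`) fix all points of a summand outside a set `B`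
  if `T` does not separate these points;
* `F0` : `O₂(C(σ)) ≤ O₂(P)` for `σ` with support the points `≠ 0` of a summand;
* `T_two` : `W ∩ P` acts inside `⟨(x μx)⟩`, `W = O₂(C(n))`, `n = {x, μ x}`; `T_inf_le` : `W ∩ P ≤ A`;
* `T_le` : `C_W(p) ≤ A`, `p = {ν x, μ ν x}`; `T_mem` : `C_W(q) ≤ A` for all pairs `q` in the summand of `x`, disjoint
  from `n`.
-/

set_option autoImplicit false

namespace Cfsg.Agent.Omega.IId.SymWrD

open Subgroup Pointwise Cfsg Cfsg.Agent.ZN Cfsg.Agent.Omega.MinPar Cfsg.Agent.Omega.FFThm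
open Cfsg.Agent.Omega.Half.SymA (Pt E Mv pm Amb0)
open Cfsg.Agent.MinSimple.VModule (mem_zc zc_le zc_comm zc_sq zc_le_zl le_normalizer_o2 o2_isPGroup o2_le
  normalizer_le_normalizer_zc le_normalizer_zl le_centralizer_zc le_o2)

universe u

variable {G : Type u} [Group G] {P V : Subgroup G} {k m : ℕ}

section fix

variable {S : Sylow 2 G} {M : SymK (S : Subgroup G) P V ⊥ k m} (h : Sit S P V M)

theorem Sit.isPGroup_Q (_h : Sit S P V M) : IsPGroup 2 (o2 P) := o2_isPGroup P

theorem Sit.conj_Q (_h : Sit S P V M) {g x : G} (hg : g ∈ P) (hx : x ∈ o2 P) : g * x * g⁻¹ ∈ o2 P :=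
  (mem_normalizer_iff.1 (le_normalizer_o2 P hg) x).1 hx

/-- a 2-element of `P` which acts trivially on the points lies in `O₂(P)` -/
theorem Sit.mem_Q_of_two [Finite G] (h : Sit S P V M) {X : Subgroup G} (hX : IsPGroup 2 X) (hXP : X ≤ P) {x : G} (hx : x ∈ X)
    (h1 : pp M x = 1) : x ∈ o2 P := by
  obtain ⟨g, hg, hgX⟩ := S5.TT.exists_conj_le_sylow S P X h.SP hX hXP
  have h2 : g * x * g⁻¹ ∈ o2 P := by
    rw [h.mem_Q_iff (hgX x hx), h.conj hg (hXP hx), h1, mul_one, mul_inv_cancel]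
  have h3 := h.conj_Q (inv_mem hg) h2
  have e : g⁻¹ * (g * x * g⁻¹) * g⁻¹⁻¹ = x := by group
  rwa [e] at h3

/-- the points outside `B` of a summand -/
theorem card_filter_ge (i : Fin k) (B : Finset (Pt k m)) {n : ℕ} (hB : B.card + n ≤ 2 ^ m + 1) :
    n ≤ ((Finset.univ : Finset (Pt k m)).filter fun p => p.1 = i ∧ p ∉ B).card := by
  have h1 : ((Finset.univ : Finset (Fin (2 ^ m + 1))).map ⟨fun y => ((i, y) : Pt k m), fun a b hab =>
      (Prod.ext_iff.1 hab).2⟩) \ B ⊆ (Finset.univ : Finset (Pt k m)).filter fun p => p.1 = i ∧ p ∉ B := by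
    intro p hp
    rw [Finset.mem_sdiff, Finset.mem_map] at hp
    obtain ⟨⟨y, -, rfl⟩, h2⟩ := hp
    exact Finset.mem_filter.2 ⟨Finset.mem_univ _, rfl, h2⟩
  refine le_trans ?_ (Finset.card_le_card h1)
  have h3 := Finset.le_card_sdiff B ((Finset.univ : Finset (Fin (2 ^ m + 1))).map ⟨fun y => ((i, y) : Pt k m),
    fun a b hab => (Prod.ext_iff.1 hab).2⟩)
  rw [Finset.card_map, Finset.card_univ, Fintype.card_fin] at h3
  omega

/-- the points outside `B` of a summand, `B` contained in the summand -/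
theorem card_filter_le (i : Fin k) (B : Finset (Pt k m)) (hB : ∀ p ∈ B, p.1 = i) :
    ((Finset.univ : Finset (Pt k m)).filter fun p => p.1 = i ∧ p ∉ B).card + B.card ≤ 2 ^ m + 1 := by
  have h1 : ((Finset.univ : Finset (Pt k m)).filter fun p => p.1 = i ∧ p ∉ B) ∪ B ⊆
      ((Finset.univ : Finset (Fin (2 ^ m + 1))).map ⟨fun y => ((i, y) : Pt k m), fun a b hab =>
        (Prod.ext_iff.1 hab).2⟩) := by
    intro p hp
    rw [Finset.mem_map]
    rcases Finset.mem_union.1 hp with h2 | h2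
    · exact ⟨p.2, Finset.mem_univ _, Prod.ext (Finset.mem_filter.1 h2).2.1.symm rfl⟩
    · exact ⟨p.2, Finset.mem_univ _, Prod.ext (hB p h2).symm rfl⟩
  have h2 := Finset.card_le_card h1
  rw [Finset.card_map, Finset.card_univ, Fintype.card_fin, Finset.card_union_of_disjoint] at h2
  · exact h2
  · rw [Finset.disjoint_left]
    intro p hp
    exact (Finset.mem_filter.1 hp).2.2

include h

theorem Sit.exists_swap {p q : Pt k m} (hpq : p.1 = q.1) :
    ∃ t ∈ P, pp M t = Equiv.swap p q := by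
  apply h.exists_pp
  intro r
  by_cases h1 : r = p
  · rw [h1, Equiv.swap_apply_left, hpq]
  · by_cases h2 : r = q
    · rw [h2, Equiv.swap_apply_right, hpq]
    · rw [Equiv.swap_apply_of_ne_of_ne h1 h2]

/-- **the 2-groups `X ≤ P` which are normalised by `C_P(T)`** -/
theorem fix_of_norm' {T : Set G} (hT : ∀ v ∈ T, v ∈ V) {X : Subgroup G} (hX : IsPGroup 2 X) (hXP : X ≤ P)
    (hn : ∀ t ∈ P, t ∈ centralizer T → t ∈ normalizer (X : Set G)) {i : Fin k} {Γ : Finset (Pt k m)}
    (hi : ∀ p ∈ Γ, p.1 = i) (hc : 5 ≤ Γ.card ∨ (Γ.card = 3 ∧ ∀ x ∈ X, ∀ p ∈ Γ, pp M x p ∈ Γ))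
    (hE : ∀ v ∈ T, ∀ p ∈ Γ, ∀ q ∈ Γ, E M v p = E M v q) {x : G} (hx : x ∈ X) {p : Pt k m} (hp : p ∈ Γ) :
    pp M x p = p := by
  set N : Subgroup (Equiv.Perm (Pt k m)) := (X.subgroupOf P).map (hom h.amb h.hm1 M) with hN
  have hmem : ∀ y ∈ X, pp M y ∈ N := fun y hy => ⟨⟨y, hXP hy⟩, mem_subgroupOf.2 hy, rfl⟩
  have hN2 : IsPGroup 2 N := hX.comap_subtype.map _
  have hsw : ∀ q ∈ Γ, ∀ r ∈ Γ, ∀ π ∈ N, Equiv.swap q r * π * Equiv.swap q r ∈ N := by
    intro q hq r hr π hπ
    obtain ⟨y, hy, rfl⟩ := hπ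
    have hyX : (y : G) ∈ X := mem_subgroupOf.1 hy
    change Equiv.swap q r * pp M (y : G) * Equiv.swap q r ∈ N
    obtain ⟨t, ht, htE⟩ := h.exists_swap ((hi q hq).trans (hi r hr).symm)
    have htC : t ∈ centralizer T := by
      rw [mem_centralizer_iff]
      intro v hv
      refine ((h.comm_iff' ht (hT v hv)).2 fun s => ?_).symm
      rw [htE]
      have h1 := hE v hv q hq r hr
      by_cases h2 : s = q
      · rw [h2, Equiv.swap_apply_left, h1]
      · by_cases h3 : s = r
        · rw [h3, Equiv.swap_apply_right, h1]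
        · rw [Equiv.swap_apply_of_ne_of_ne h2 h3]
    have h1 : t * y * t⁻¹ ∈ X := (mem_normalizer_iff.1 (hn t ht htC) _).1 hyX
    have h2 := hmem _ h1
    rwa [h.conj ht y.2, htE, Equiv.swap_inv] at h2
  rcases hc with hc | ⟨hc, hc'⟩
  · exact RankAbs.fix_of_swaps hN2 Γ hc hsw (hmem x hx) hp
  · refine RankAbs.fix_of_swaps_three hN2 Γ hc hsw ?_ (hmem x hx) hp
    rintro _ ⟨y, hy, rfl⟩ q hq
    exact hc' y (mem_subgroupOf.1 hy) q hq

/-- the same, for the points of a summand outside `B` -/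
theorem fix_of_norm {T : Set G} (hT : ∀ v ∈ T, v ∈ V) {X : Subgroup G} (hX : IsPGroup 2 X) (hXP : X ≤ P)
    (hn : ∀ t ∈ P, t ∈ centralizer T → t ∈ normalizer (X : Set G)) {i : Fin k} {B : Finset (Pt k m)}
    (hB : B.card + 5 ≤ 2 ^ m + 1)
    (hE : ∀ v ∈ T, ∀ p q : Pt k m, p.1 = i → q.1 = i → p ∉ B → q ∉ B → E M v p = E M v q) {x : G} (hx : x ∈ X)
    {p : Pt k m} (hp : p.1 = i) (hpB : p ∉ B) : pp M x p = p := by
  refine fix_of_norm' h hT hX hXP hn (i := i) (Γ := (Finset.univ : Finset (Pt k m)).filter fun p => p.1 = i ∧ p ∉ B)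
    (fun p hp => (Finset.mem_filter.1 hp).2.1) (Or.inl (card_filter_ge i B hB)) ?_ hx
    (Finset.mem_filter.2 ⟨Finset.mem_univ _, hp, hpB⟩)
  intro v hv q hq r hr
  obtain ⟨-, hq1, hq2⟩ := Finset.mem_filter.1 hq
  obtain ⟨-, hr1, hr2⟩ := Finset.mem_filter.1 hr
  exact hE v hv q r hq1 hr1 hq2 hr2

omit h in
theorem inf_norm {T : Set G} {t : G} (ht : t ∈ P) (htC : t ∈ centralizer T) :
    t ∈ normalizer ((o2 (centralizer T) ⊓ P : Subgroup G) : Set G) :=
  inf_normalizer_le_normalizer_inf ⟨le_normalizer_o2 _ htC, le_normalizer ht⟩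

/-- the same for `X = O₂(C(T)) ∩ P` -/
theorem fix_of_core {T : Set G} (hT : ∀ v ∈ T, v ∈ V) {i : Fin k} {B : Finset (Pt k m)}
    (hB : B.card + 5 ≤ 2 ^ m + 1)
    (hE : ∀ v ∈ T, ∀ p q : Pt k m, p.1 = i → q.1 = i → p ∉ B → q ∉ B → E M v p = E M v q) {x : G}
    (hx : x ∈ o2 (centralizer T)) (hxP : x ∈ P) {p : Pt k m} (hp : p.1 = i) (hpB : p ∉ B) : pp M x p = p :=
  fix_of_norm h hT (X := o2 (centralizer T) ⊓ P) ((o2_isPGroup _).to_le inf_le_left) inf_le_right
    (fun _ ht htC => inf_norm ht htC) hB hE ⟨hx, hxP⟩ hp hpB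

end fix

section T

variable [Finite G] {S : Sylow 2 G} {M : SymK (S : Subgroup G) P V ⊥ k m} (h : Sit S P V M)

theorem eight_le (h3 : 3 ≤ m) : 8 ≤ 2 ^ m := by
  calc 8 = 2 ^ 3 := by norm_num
    _ ≤ 2 ^ m := Nat.pow_le_pow_right (by norm_num) h3

include h in
omit [Finite G] in
theorem four_le : 4 ≤ 2 ^ m := by
  calc 4 = 2 ^ 2 := by norm_num
    _ ≤ 2 ^ m := Nat.pow_le_pow_right (by norm_num) h.hm

include h

/-- **(F0)** -/
theorem F0 (h3 : 3 ≤ m) {l : Fin k} {σ : G} (hσ : σ ∈ V) (hE : ∀ p, E M σ p = 1 ↔ p.1 = l ∧ p.2 ≠ 0) :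
    o2 (centralizer ({σ} : Set G)) ≤ o2 P := by
  classical
  obtain ⟨μ, ν, F⟩ := exists_fours h
  have h8 := eight_le h3
  have hz : ∀ a : ZMod 2, a ≠ 1 → a = 0 := by decide
  refine R0 h F (o2_isPGroup _) ?_ ?_
  · have h1 : Fours.A h F ≤ centralizer ({σ} : Set G) := by
      intro a ha
      rw [mem_centralizer_singleton_iff, h.comm_iff_mem (h.SP ha.1) hσ]
      intro p
      rw [hE, hE, F.FA_fst ha.2, Ne, h.snd ha.1]
    exact h1.trans (le_normalizer_o2 _)
  · rintro x ⟨hx, hxA⟩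
    rw [h.mem_Q_iff hxA.1]
    have key : ∀ p : Pt k m, p ≠ (l, 0) → pp M x p = p := by
      intro p hp
      refine fix_of_core h (T := {σ}) (fun v hv => by rw [Set.mem_singleton_iff.1 hv]; exact hσ) (i := p.1)
        (B := {(l, 0)}) (by rw [Finset.card_singleton]; omega) ?_ hx (h.SP hxA.1) rfl
        (fun h1 => hp (Finset.mem_singleton.1 h1))
      rintro v hv q r hq hr hqB hrB
      rw [Set.mem_singleton_iff.1 hv]
      rw [Finset.mem_singleton] at hqB hrB
      by_cases h1 : p.1 = l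
      · rw [(hE q).2 ⟨hq.trans h1, fun h0 => hqB (Prod.ext (hq.trans h1) h0)⟩,
          (hE r).2 ⟨hr.trans h1, fun h0 => hrB (Prod.ext (hr.trans h1) h0)⟩]
      · rw [hz _ fun h2 => h1 (hq.symm.trans ((hE q).1 h2).1), hz _ fun h2 => h1 (hr.symm.trans ((hE r).1 h2).1)]
    ext1 p
    by_cases hp : p = (l, 0)
    · by_contra h1
      have h2 : pp M x p ≠ (l, 0) := by
        rw [← hp]
        exact h1
      exact h1 ((pp M x).injective (key _ h2))
    · exact key p hp

section pair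

variable {μ ν : Equiv.Perm (Pt k m)} (F : Fours M μ ν) {x : Pt k m} (hx : x.2 ≠ 0) {n : G} (hn : n ∈ V)
  (hnE : ∀ r, E M n r = 1 ↔ r = x ∨ r = μ x)

include F hx hn hnE

omit [Finite G] in
/-- the elements of `W ∩ P` fix all points outside `{x, μ x}` -/
theorem fix_T {g : G} (hg : g ∈ o2 (centralizer ({n} : Set G))) (hgP : g ∈ P) {r : Pt k m} (hr : r ≠ x)
    (hr' : r ≠ μ x) : pp M g r = r := by
  have h4 := four_le h
  have hz : ∀ a : ZMod 2, a ≠ 1 → a = 0 := by decide
  have hTV : ∀ v ∈ ({n} : Set G), v ∈ V := fun v hv => by rw [Set.mem_singleton_iff.1 hv]; exact hn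
  have hfst : (μ x).1 = x.1 := F.mfst x
  by_cases hrx : r.1 = x.1
  · rcases Nat.lt_or_ge m 3 with hm | hm
    · have hm2 : 2 ^ m = 4 := by
        have : m = 2 := by have := h.hm; omega
        rw [this]; norm_num
      have hcB : ({x, μ x} : Finset (Pt k m)).card = 2 := Finset.card_pair (F.mne x hx).symm
      have hc1 := card_filter_ge x.1 ({x, μ x} : Finset (Pt k m)) (n := 3) (by omega)
      have hc2 := card_filter_le x.1 ({x, μ x} : Finset (Pt k m)) (by
        intro p hp
        simp only [Finset.mem_insert, Finset.mem_singleton] at hp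
        rcases hp with rfl | rfl
        · rfl
        · exact hfst)
      refine fix_of_norm' h hTV (X := o2 (centralizer {n}) ⊓ P) ((o2_isPGroup _).to_le inf_le_left) inf_le_right
        (fun _ ht htC => inf_norm ht htC) (i := x.1)
        (Γ := (Finset.univ : Finset (Pt k m)).filter fun p => p.1 = x.1 ∧ p ∉ ({x, μ x} : Finset (Pt k m)))
        (fun p hp => (Finset.mem_filter.1 hp).2.1) (Or.inr ⟨by omega, ?_⟩) ?_ ⟨hg, hgP⟩
        (Finset.mem_filter.2 ⟨Finset.mem_univ _, hrx, fun h1 => ?_⟩)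
      · rintro y ⟨hy, hyP⟩ p hp
        obtain ⟨-, hp1, hp2⟩ := Finset.mem_filter.1 hp
        have h1 : y * n = n * y := mem_centralizer_singleton_iff.1 (o2_le _ hy)
        rw [h.comm_iff_mem hyP hn] at h1
        have h2 : (pp M y x).1 = x.1 := by
          rcases (hnE _).1 ((h1 x).2 ((hnE x).2 (Or.inl rfl))) with h5 | h5
          · rw [h5]
          · rw [h5, hfst]
        refine Finset.mem_filter.2 ⟨Finset.mem_univ _, (h.fst hyP hp1).trans h2, fun h5 => hp2 ?_⟩
        simp only [Finset.mem_insert, Finset.mem_singleton] at h5 ⊢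
        exact (hnE _).1 ((h1 p).1 ((hnE _).2 h5))
      · rintro v hv q hq s hs
        rw [Set.mem_singleton_iff.1 hv]
        have hqB := (Finset.mem_filter.1 hq).2.2
        have hsB := (Finset.mem_filter.1 hs).2.2
        simp only [Finset.mem_insert, Finset.mem_singleton] at hqB hsB
        rw [hz _ fun h2 => hqB ((hnE q).1 h2), hz _ fun h2 => hsB ((hnE s).1 h2)]
      · simp only [Finset.mem_insert, Finset.mem_singleton] at h1
        exact h1.elim hr hr'
    · have h8 := eight_le hm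
      refine fix_of_core h hTV (i := r.1) (B := {x, μ x}) ?_ ?_ hg hgP rfl (fun h1 => ?_)
      · have := Finset.card_le_two (a := x) (b := μ x)
        omega
      · rintro v hv q s hq hs hqB hsB
        rw [Set.mem_singleton_iff.1 hv]
        simp only [Finset.mem_insert, Finset.mem_singleton] at hqB hsB
        rw [hz _ fun h2 => hqB ((hnE q).1 h2), hz _ fun h2 => hsB ((hnE s).1 h2)]
      · simp only [Finset.mem_insert, Finset.mem_singleton] at h1
        exact h1.elim hr hr'
  · refine fix_of_core h hTV (i := r.1) (B := ∅) ?_ ?_ hg hgP rfl (Finset.notMem_empty _)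
    · rw [Finset.card_empty]; omega
    · rintro v hv q s hq hs - -
      rw [Set.mem_singleton_iff.1 hv]
      have key : ∀ t : Pt k m, t.1 = r.1 → E M n t = 0 := by
        intro t ht
        apply hz
        intro h2
        rcases (hnE t).1 h2 with h5 | h5
        · exact hrx (by rw [← ht, h5])
        · exact hrx (by rw [← ht, h5, hfst])
      rw [key q hq, key s hs]

omit [Finite G] in
/-- **(T), second half** : `W ∩ P` acts inside `⟨(x μx)⟩` -/
theorem T_two {g : G} (hg : g ∈ o2 (centralizer ({n} : Set G))) (hgP : g ∈ P) :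
    pp M g = 1 ∨ pp M g = Equiv.swap x (μ x) := by
  have hfix : ∀ r, r ≠ x → r ≠ μ x → pp M g r = r := fun r h1 h2 => fix_T h F hx hn hnE hg hgP h1 h2
  have hpres : ∀ r, r = x ∨ r = μ x → pp M g r = x ∨ pp M g r = μ x := by
    intro r hr
    have h1 : g * n = n * g := mem_centralizer_singleton_iff.1 (o2_le _ hg)
    rw [h.comm_iff_mem hgP hn] at h1
    exact (hnE _).1 ((h1 r).2 ((hnE r).2 hr))
  rcases hpres x (Or.inl rfl) with h1 | h1
  · left
    have h2 : pp M g (μ x) = μ x := by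
      rcases hpres (μ x) (Or.inr rfl) with h2 | h2
      · have h4 : μ x = x := (pp M g).injective (h2.trans h1.symm)
        rw [h4, h1]
      · exact h2
    ext1 r
    rw [Equiv.Perm.one_apply]
    by_cases h4 : r = x
    · rw [h4, h1]
    · by_cases h5 : r = μ x
      · rw [h5, h2]
      · exact hfix r h4 h5
  · by_cases hxx : x = μ x
    · left
      ext1 r
      rw [Equiv.Perm.one_apply]
      by_cases h4 : r = x
      · rw [h4, h1, ← hxx]
      · exact hfix r h4 (by rw [← hxx]; exact h4)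
    · right
      have h2 : pp M g (μ x) = x := by
        rcases hpres (μ x) (Or.inr rfl) with h2 | h2
        · exact h2
        · exact absurd ((pp M g).injective (h1.trans h2.symm)) hxx
      ext1 r
      by_cases h4 : r = x
      · rw [h4, h1, Equiv.swap_apply_left]
      · by_cases h5 : r = μ x
        · rw [h5, h2, Equiv.swap_apply_right]
        · rw [hfix r h4 h5, Equiv.swap_apply_of_ne_of_ne h4 h5]

/-- `W ∩ P ≤ A` -/
theorem T_inf_le : o2 (centralizer ({n} : Set G)) ⊓ P ≤ Fours.A h F := by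
  classical
  rintro g ⟨hg, hgP⟩
  have hWP : IsPGroup 2 (o2 (centralizer ({n} : Set G)) ⊓ P : Subgroup G) := (o2_isPGroup _).to_le inf_le_left
  rcases T_two h F hx hn hnE hg hgP with h1 | h1
  · exact Fours.Q_le_A h F (h.mem_Q_of_two hWP inf_le_right ⟨hg, hgP⟩ h1)
  · -- the transposition is induced by `A`
    obtain ⟨a, ha, h2⟩ := Fours.exists_A h F (π := Equiv.swap x (μ x)) (by
      intro p
      by_cases h4 : p = x
      · right; rw [h4, Equiv.swap_apply_left]
      · by_cases h5 : p = μ x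
        · right; rw [h5, Equiv.swap_apply_right, F.msq]
        · left; exact Equiv.swap_apply_of_ne_of_ne h4 h5)
    have haP := h.SP ha.1
    have haC : a ∈ centralizer ({n} : Set G) := by
      rw [mem_centralizer_singleton_iff, h.comm_iff_mem haP hn]
      intro r
      rw [hnE, hnE, h2]
      by_cases h4 : r = x
      · rw [h4, Equiv.swap_apply_left]
        exact ⟨fun _ => Or.inl rfl, fun _ => Or.inr rfl⟩
      · by_cases h5 : r = μ x
        · rw [h5, Equiv.swap_apply_right]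
          exact ⟨fun _ => Or.inr rfl, fun _ => Or.inl rfl⟩
        · rw [Equiv.swap_apply_of_ne_of_ne h4 h5]
    have h5 : zpowers a ≤ normalizer ((o2 (centralizer ({n} : Set G)) ⊓ P : Subgroup G) : Set G) := by
      rw [zpowers_le]
      exact inf_normalizer_le_normalizer_inf ⟨le_normalizer_o2 _ haC, le_normalizer haP⟩
    have : Fact (Nat.Prime 2) := ⟨Nat.prime_two⟩
    have h6 : IsPGroup 2 (zpowers a ⊔ (o2 (centralizer ({n} : Set G)) ⊓ P) : Subgroup G) :=
      (S.isPGroup'.to_le (zpowers_le.2 ha.1)).to_sup_of_normal_right' hWP h5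
    have h7 : g * a⁻¹ ∈ o2 P := by
      refine h.mem_Q_of_two h6 (sup_le (zpowers_le.2 haP) inf_le_right)
        (mul_mem (mem_sup_right ⟨hg, hgP⟩) (inv_mem (mem_sup_left (mem_zpowers a)))) ?_
      rw [h.mul hgP (inv_mem haP), h.inv haP, h1, h2, mul_inv_cancel]
    have h8 : g = g * a⁻¹ * a := by group
    rw [h8]
    exact mul_mem (Fours.Q_le_A h F h7) ha

variable {p : G} (hp : p ∈ V) (hpE : ∀ r, E M p r = 1 ↔ r = ν x ∨ r = μ (ν x))

include hp hpE

/-- `O₂(C(n) ∩ C(p)) ≤ A` for the two pairs `n`, `p` of a 4-block -/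
theorem o2_pair_le : o2 (centralizer ({n, p} : Set G)) ≤ Fours.A h F := by
  classical
  have hf4 := four_le h
  have hz : ∀ a : ZMod 2, a ≠ 1 → a = 0 := by decide
  have hTV : ∀ v ∈ ({n, p} : Set G), v ∈ V := by
    rintro v (rfl | hv)
    · exact hn
    · rw [Set.mem_singleton_iff.1 hv]; exact hp
  -- `D` permutes `n`, `p`
  have hDn : ∀ d ∈ Fours.D h F, ∀ v ∈ ({n, p} : Set G), d * v * d⁻¹ ∈ ({n, p} : Set G) := by
    intro d hd v hv
    have hdP := h.SP hd.1
    obtain ⟨hd1, hd2⟩ := hd.2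
    have hvE : ∃ y, Fours.Cl μ ν x y ∧ ∀ r, E M v r = 1 ↔ r = y ∨ r = μ y := by
      rcases hv with rfl | hv
      · exact ⟨x, Or.inl rfl, hnE⟩
      · rw [Set.mem_singleton_iff.1 hv]
        exact ⟨ν x, Or.inr (Or.inr (Or.inl rfl)), hpE⟩
    obtain ⟨y, hy, hvE⟩ := hvE
    have hcj : ∀ r, E M (d * v * d⁻¹) r = 1 ↔ r = pp M d y ∨ r = μ (pp M d y) := by
      intro r
      rw [E_conj' hdP (hTV v hv), hvE, Equiv.Perm.inv_eq_iff_eq, Equiv.Perm.inv_eq_iff_eq, hd2]
    have hz2 : ∀ a b : ZMod 2, (a = 1 ↔ b = 1) → a = b := by decide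
    have hmem : d * v * d⁻¹ ∈ V := h.amb.conj_mem hdP (hTV v hv)
    rcases Fours.Cl.trans F hy (hd1 y) with h1 | h1 | h1 | h1
    · left
      refine Half.SymA.inj M hmem hn fun r => hz2 _ _ ?_
      rw [hcj, hnE, h1]
    · left
      refine Half.SymA.inj M hmem hn fun r => hz2 _ _ ?_
      rw [hcj, hnE, h1, F.msq, or_comm]
    · right
      rw [Set.mem_singleton_iff]
      refine Half.SymA.inj M hmem hp fun r => hz2 _ _ ?_
      rw [hcj, hpE, h1]
    · right
      rw [Set.mem_singleton_iff]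
      refine Half.SymA.inj M hmem hp fun r => hz2 _ _ ?_
      rw [hcj, hpE, h1, F.msq, or_comm]
  refine R1 h F (o2_isPGroup _) ?_ ?_
  · refine le_trans ?_ (normalizer_le_normalizer_o2' _)
    intro d hd
    refine MinSimple.VModule.mem_normalizer_of_map_le ?_
    rintro _ ⟨c, hc, rfl⟩
    rw [SetLike.mem_coe, mem_centralizer_iff] at hc
    rw [mem_centralizer_iff]
    intro v hv
    have h1 := hc _ (hDn d⁻¹ (inv_mem hd) v hv)
    rw [inv_inv] at h1
    change v * (d * c * d⁻¹) = d * c * d⁻¹ * v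
    calc v * (d * c * d⁻¹) = d * (d⁻¹ * v * d * c) * d⁻¹ := by group
      _ = d * (c * (d⁻¹ * v * d)) * d⁻¹ := by rw [h1]
      _ = d * c * d⁻¹ * v := by group
  · rintro g ⟨hg, hgD⟩
    have hgP := h.SP hgD.1
    refine ⟨hgD.1, fun r => ?_⟩
    have hpres : ∀ v ∈ ({n, p} : Set G), ∀ r, E M v (pp M g r) = 1 ↔ E M v r = 1 := by
      intro v hv
      have h1 := (mem_centralizer_iff.1 (o2_le _ hg) v hv).symm
      rwa [h.comm_iff_mem hgP (hTV v hv)] at h1
    by_cases h1 : r = x ∨ r = μ x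
    · have h2 := (hnE _).1 ((hpres n (Or.inl rfl) r).2 ((hnE r).2 h1))
      rcases h1 with rfl | rfl
      · exact h2
      · rw [F.msq]
        exact h2.symm
    · by_cases h2 : r = ν x ∨ r = μ (ν x)
      · have h4 := (hpE _).1 ((hpres p (Or.inr rfl) r).2 ((hpE r).2 h2))
        rcases h2 with rfl | rfl
        · exact h4
        · rw [F.msq]
          exact h4.symm
      · left
        have hr1 : r ≠ x := fun h4 => h1 (Or.inl h4)
        have hr2 : r ≠ μ x := fun h4 => h1 (Or.inr h4)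
        have hr3 : r ≠ ν x := fun h4 => h2 (Or.inl h4)
        have hr4 : r ≠ μ (ν x) := fun h4 => h2 (Or.inr h4)
        have key : ∀ v ∈ ({n, p} : Set G), ∀ t : Pt k m, ¬ t = x → ¬ t = μ x → ¬ t = ν x → ¬ t = μ (ν x) →
            E M v t = 0 := by
          intro v hv t t1 t2 t3 t4
          rcases hv with rfl | hv
          · exact hz _ fun h5 => ((hnE t).1 h5).elim t1 t2
          · rw [Set.mem_singleton_iff.1 hv]
            exact hz _ fun h5 => ((hpE t).1 h5).elim t3 t4
        by_cases hrx : r.1 = x.1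
        · rcases Nat.lt_or_ge m 3 with hm | hm
          · -- `m = 2`: `r` is the zero point
            have hm2 : 2 ^ m = 4 := by
              have : m = 2 := by have := h.hm; omega
              rw [this]; norm_num
            have hn1 := F.nne x hx
            have hn2 := F.nmu x hx
            have hn3 : μ (ν x) ≠ ν x := F.mne _ (fun h0 => hx (F.nnz.1 h0))
            have hn4 : μ (ν x) ≠ x := by
              intro h0
              apply hn2
              rw [← F.msq (ν x), h0]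
            have hn5 : μ (ν x) ≠ μ x := fun h0 => hn1 (μ.injective h0)
            have hc : ({x, μ x, ν x, μ (ν x)} : Finset (Pt k m)).card = 4 := by
              rw [Finset.card_insert_of_notMem, Finset.card_insert_of_notMem, Finset.card_pair hn3.symm]
              · simp only [Finset.mem_insert, Finset.mem_singleton, not_or]
                exact ⟨hn2.symm, hn5.symm⟩
              · simp only [Finset.mem_insert, Finset.mem_singleton, not_or]
                exact ⟨(F.mne x hx).symm, hn1.symm, hn4.symm⟩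
            have hc2 := card_filter_le x.1 ({x, μ x, ν x, μ (ν x)} : Finset (Pt k m)) (by
              intro p hp
              simp only [Finset.mem_insert, Finset.mem_singleton] at hp
              rcases hp with rfl | rfl | rfl | rfl
              · rfl
              · exact F.mfst _
              · exact F.nfst _
              · rw [F.mfst, F.nfst])
            have hnot : ∀ t : Pt k m, t ≠ x → t ≠ μ x → t ≠ ν x → t ≠ μ (ν x) →
                t ∉ ({x, μ x, ν x, μ (ν x)} : Finset (Pt k m)) := by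
              intro t t1 t2 t3 t4 h5
              simp only [Finset.mem_insert, Finset.mem_singleton] at h5
              rcases h5 with h5 | h5 | h5 | h5
              · exact t1 h5
              · exact t2 h5
              · exact t3 h5
              · exact t4 h5
            have hone : ((Finset.univ : Finset (Pt k m)).filter fun p => p.1 = x.1 ∧
                p ∉ ({x, μ x, ν x, μ (ν x)} : Finset (Pt k m))).card ≤ 1 := by omega
            have hr0 : r = (x.1, 0) := by
              refine Finset.card_le_one.1 hone r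
                (Finset.mem_filter.2 ⟨Finset.mem_univ _, hrx, hnot r hr1 hr2 hr3 hr4⟩) _
                (Finset.mem_filter.2 ⟨Finset.mem_univ _, rfl, hnot _ ?_ ?_ ?_ ?_⟩)
              · intro h5; exact hx (by rw [← h5])
              · intro h5; exact hx (F.mnz.1 (by rw [← h5]))
              · intro h5; exact hx (F.nnz.1 (by rw [← h5]))
              · intro h5; exact hx (F.nnz.1 (F.mnz.1 (by rw [← h5])))
            have hr02 : r.2 = 0 := by rw [hr0]
            rcases hgD.2.1 r with h5 | h5 | h5 | h5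
            · exact h5
            · rw [h5, F.mzero r hr02]
            · rw [h5, F.nzero r hr02]
            · rw [h5, F.nzero r hr02, F.mzero r hr02]
          · have h8 := eight_le hm
            refine fix_of_core h hTV (i := r.1) (B := {x, μ x, ν x, μ (ν x)}) ?_ ?_ hg hgP rfl (fun h4 => ?_)
            · have := Finset.card_le_four (a := x) (b := μ x) (c := ν x) (d := μ (ν x))
              omega
            · rintro v hv q s hq hs hqB hsB
              simp only [Finset.mem_insert, Finset.mem_singleton, not_or] at hqB hsB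
              rw [key v hv q hqB.1 hqB.2.1 hqB.2.2.1 hqB.2.2.2, key v hv s hsB.1 hsB.2.1 hsB.2.2.1 hsB.2.2.2]
            · simp only [Finset.mem_insert, Finset.mem_singleton] at h4
              rcases h4 with h4 | h4 | h4 | h4
              · exact h1 (Or.inl h4)
              · exact h1 (Or.inr h4)
              · exact h2 (Or.inl h4)
              · exact h2 (Or.inr h4)
        · refine fix_of_core h hTV (i := r.1) (B := ∅) ?_ ?_ hg hgP rfl (Finset.notMem_empty _)
          · rw [Finset.card_empty]; omega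
          · rintro v hv q s hq hs - -
            have hne : ∀ t : Pt k m, t.1 = r.1 → E M v t = 0 := by
              intro t ht
              refine key v hv t ?_ ?_ ?_ ?_
              · intro h5; exact hrx (by rw [← ht, h5])
              · intro h5; exact hrx (by rw [← ht, h5, F.mfst])
              · intro h5; exact hrx (by rw [← ht, h5, F.nfst])
              · intro h5; exact hrx (by rw [← ht, h5, F.mfst, F.nfst])
            rw [hne q hq, hne s hs]

/-- **(T), first half, the sibling pair** -/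
theorem T_le : o2 (centralizer ({n} : Set G)) ⊓ centralizer ({p} : Set G) ≤ Fours.A h F := by
  refine le_trans (le_o2 ?_ ((o2_isPGroup _).to_le inf_le_left) ?_) (o2_pair_le h F hx hn hnE hp hpE)
  · rintro g ⟨hg, hgp⟩
    rw [mem_centralizer_iff]
    rintro v (rfl | hv)
    · exact (mem_centralizer_singleton_iff.1 (o2_le _ hg)).symm
    · rw [Set.mem_singleton_iff.1 hv]
      exact (mem_centralizer_singleton_iff.1 hgp).symm
  · intro c hc
    rw [mem_centralizer_iff] at hc
    have h1 : c ∈ centralizer ({n} : Set G) := mem_centralizer_singleton_iff.2 (hc n (Or.inl rfl)).symm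
    have h2 : c ∈ centralizer ({p} : Set G) := mem_centralizer_singleton_iff.2 (hc p (Or.inr rfl)).symm
    exact inf_normalizer_le_normalizer_inf ⟨le_normalizer_o2 _ h1, le_normalizer h2⟩

omit hp hpE

/-- **(T), first half** : for a pair `q = {y, y'}` in the summand of `x`, disjoint from `n = {x, μ x}`:
`C_W(q) ≤ A`. -/
theorem T_mem {q : G} (hq : q ∈ V) {y y' : Pt k m} (hyy : y ≠ y') (hy : y.1 = x.1) (hy' : y'.1 = x.1)
    (h1 : y ≠ x) (h2 : y ≠ μ x) (h1' : y' ≠ x) (h2' : y' ≠ μ x)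
    (hqE : ∀ r, E M q r = 1 ↔ r = y ∨ r = y') {g : G} (hg : g ∈ o2 (centralizer ({n} : Set G)))
    (hgq : g * q = q * g) : g ∈ Fours.A h F := by
  classical
  obtain ⟨p, hp, hpE⟩ := exists_e F (ν x) (fun h0 => hx (F.nnz.1 h0))
  have hz2 : ∀ a b : ZMod 2, (a = 1 ↔ b = 1) → a = b := by decide
  have hn1 := F.nne x hx
  have hn2 := F.nmu x hx
  have hn3 : μ (ν x) ≠ ν x := F.mne _ (fun h0 => hx (F.nnz.1 h0))
  have hn4 : μ (ν x) ≠ x := by
    intro h0
    apply hn2
    rw [← F.msq (ν x), h0]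
  have hn5 : μ (ν x) ≠ μ x := fun h0 => hn1 (μ.injective h0)
  -- the permutation
  set y₂ := Equiv.swap y (ν x) y' with hy₂
  have e1 : ν x ≠ y₂ := by
    intro h0
    apply hyy
    have h4 : Equiv.swap y (ν x) y = Equiv.swap y (ν x) y' := by rw [Equiv.swap_apply_left, ← hy₂, ← h0]
    exact (Equiv.swap y (ν x)).injective h4
  have e2 : y₂ ≠ x := by
    intro h0
    have h4 : Equiv.swap y (ν x) x = Equiv.swap y (ν x) y' := by
      rw [Equiv.swap_apply_of_ne_of_ne h1.symm hn1.symm, ← hy₂, h0]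
    exact h1' ((Equiv.swap y (ν x)).injective h4).symm
  have e3 : y₂ ≠ μ x := by
    intro h0
    have h4 : Equiv.swap y (ν x) (μ x) = Equiv.swap y (ν x) y' := by
      rw [Equiv.swap_apply_of_ne_of_ne h2.symm hn2.symm, ← hy₂, h0]
    exact h2' ((Equiv.swap y (ν x)).injective h4).symm
  have hsw : ∀ a b : Pt k m, a.1 = b.1 → ∀ r, (Equiv.swap a b r).1 = r.1 := by
    intro a b hab r
    by_cases h4 : r = a
    · rw [h4, Equiv.swap_apply_left, hab]
    · by_cases h5 : r = b
      · rw [h5, Equiv.swap_apply_right, hab]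
      · rw [Equiv.swap_apply_of_ne_of_ne h4 h5]
  have e4 : y₂.1 = x.1 := by rw [hy₂, hsw _ _ (by rw [hy, F.nfst]), hy']
  obtain ⟨c, hc, hcE⟩ := h.exists_pp (π := Equiv.swap y₂ (μ (ν x)) * Equiv.swap y (ν x)) (by
    intro r
    rw [Equiv.Perm.mul_apply, hsw _ _ (by rw [e4, F.mfst, F.nfst]), hsw _ _ (by rw [hy, F.nfst])])
  have c1 : pp M c y = ν x := by
    rw [hcE, Equiv.Perm.mul_apply, Equiv.swap_apply_left, Equiv.swap_apply_of_ne_of_ne e1 hn3.symm]
  have c2 : pp M c y' = μ (ν x) := by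
    rw [hcE, Equiv.Perm.mul_apply, ← hy₂, Equiv.swap_apply_left]
  have c3 : pp M c x = x := by
    rw [hcE, Equiv.Perm.mul_apply, Equiv.swap_apply_of_ne_of_ne h1.symm hn1.symm,
      Equiv.swap_apply_of_ne_of_ne e2.symm hn4.symm]
  have c4 : pp M c (μ x) = μ x := by
    rw [hcE, Equiv.Perm.mul_apply, Equiv.swap_apply_of_ne_of_ne h2.symm hn2.symm,
      Equiv.swap_apply_of_ne_of_ne e3.symm hn5.symm]
  have hcn : c ∈ centralizer ({n} : Set G) := by
    have h4 : c * n * c⁻¹ = n := by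
      refine Half.SymA.inj M (h.amb.conj_mem hc hn) hn fun r => hz2 _ _ ?_
      rw [E_conj' hc hn, hnE, hnE, Equiv.Perm.inv_eq_iff_eq, Equiv.Perm.inv_eq_iff_eq, c3, c4]
    rw [mem_centralizer_singleton_iff]
    rwa [mul_inv_eq_iff_eq_mul] at h4
  have hcq : c * q * c⁻¹ = p := by
    refine Half.SymA.inj M (h.amb.conj_mem hc hq) hp fun r => hz2 _ _ ?_
    rw [E_conj' hc hq, hqE, hpE, Equiv.Perm.inv_eq_iff_eq, Equiv.Perm.inv_eq_iff_eq, c1, c2]
  have hW : c * g * c⁻¹ ∈ o2 (centralizer ({n} : Set G)) :=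
    (mem_normalizer_iff.1 (le_normalizer_o2 _ hcn) g).1 hg
  have hCp : c * g * c⁻¹ ∈ centralizer ({p} : Set G) := by
    rw [mem_centralizer_singleton_iff, ← hcq]
    calc c * g * c⁻¹ * (c * q * c⁻¹) = c * (g * q) * c⁻¹ := by group
      _ = c * (q * g) * c⁻¹ := by rw [hgq]
      _ = c * q * c⁻¹ * (c * g * c⁻¹) := by group
  have h4 := h.SP (Fours.A_le h F (T_le h F hx hn hnE hp hpE ⟨hW, hCp⟩))
  have h5 : g = c⁻¹ * (c * g * c⁻¹) * c := by group
  have h6 : g ∈ P := by
    rw [h5]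
    exact mul_mem (mul_mem (inv_mem hc) h4) hc
  exact T_inf_le h F hx hn hnE ⟨hg, h6⟩

end pair

end T

end Cfsg.Agent.Omega.IId.SymWrD

end

section


/-!
# II.d, `SwBig`, `SwCv`: (T) of THEOREM L (bb OMEGA #17498), `D` arbitrary, all `m ≥ 2`

`tt` : `TT h F x`.
-/

set_option autoImplicit false

namespace Cfsg.Agent.Omega.IId.SymWrD

open Subgroup Pointwise Cfsg Cfsg.Agent.ZN Cfsg.Agent.Omega.MinPar Cfsg.Agent.Omega.FFThm
open Cfsg.Agent.Omega.Half.SymA (Pt E Mv pm Amb0)

universe u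

variable {G : Type u} [Group G] {P V : Subgroup G} {k m : ℕ}

theorem E_pr_iff {S : Subgroup G} (M : SymK S P V ⊥ k m) {p q : Pt k m} (h : p.1 = q.1) (hne : p ≠ q) (r : Pt k m) :
    E M (pr M p q) r = 1 ↔ r = p ∨ r = q := by
  constructor
  · intro h1
    by_contra h2
    rw [not_or] at h2
    rw [E_pr_of_ne M h h2.1 h2.2] at h1
    exact zero_ne_one h1
  · rintro (rfl | rfl)
    · exact E_pr_left M h hne
    · exact E_pr_right M h hne

/-- **(T)** -/
theorem tt [Finite G] {S : Sylow 2 G} {M : SymK (S : Subgroup G) P V ⊥ k m} {μ ν : Equiv.Perm (Pt k m)}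
    (h : Sit S P V M) (F : Fours M μ ν) {x : Pt k m} (hx : x.2 ≠ 0) : TT h F x := by
  have hn := pr_mem M x (μ x)
  have hnE := E_pr_iff M (F.mfst x).symm (F.mne x hx).symm
  refine ⟨fun g hg a b ha hb hab ha1 ha2 hb1 hb2 hgq => ?_, fun g hg hgP => ?_⟩
  · exact T_mem h F hx hn hnE (pr_mem M a b) hab ha hb ha1 ha2 hb1 hb2 (E_pr_iff M (ha.trans hb.symm) hab) hg hgq
  · exact T_two h F hx hn hnE hg hgP

end Cfsg.Agent.Omega.IId.SymWrD

end
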