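import Cfsg.Agent.Mrg.Omega.IId.SymWrD.Main
import Cfsg.Agent.Mrg.Omega.IId.SymWrD.Rank
import Cfsg.Agent.Mrg.Omega.IId.SymWr.Fours

section


/-!
# II.d, `SwBig` and `SwCv`: F1 for all `m ≥ 2`, all `k ≥ 1`, `D = C_V(O²(P))` arbitrary (bb OMEGA #17498)

* `ttAll`  : (T) for every fours structure and every point;
* `L_dat`  : `O₂(C_G({p,q})) ≤ P` and its action on the points, for every duad `{p,q}` of a block;
* `fOne_all` : **F1**.
-/

set_option autoImplicit false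

namespace Cfsg.Agent.Omega.IId.SymWrD

open Subgroup Cfsg Cfsg.Agent.ZN Cfsg.Agent.Omega.MinPar Cfsg.Agent.Omega.FFThm
open Cfsg.Agent.Omega.FrameFF (cv)
open Cfsg.Agent.Omega.Half.SymA (Pt)
open Cfsg.Agent.Omega.IId.SwCv (Lb du FOne)

universe u

variable {G : Type u} [Group G] [Finite G] {P V : Subgroup G} {k m : ℕ} {S : Sylow 2 G}

/-- **(T)** -/
theorem ttAll {M : SymK (S : Subgroup G) P V ⊥ k m} (h : Sit S P V M) : TTAll h :=
  fun _ _ F _ hx => tt h F hx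

/-- the duads of one block -/
theorem L_dat {M : SymK (S : Subgroup G) P V ⊥ k m} {D : Subgroup G} (hD : SitD S P V D M) {p q : Pt k m}
    (hpq : p.1 = q.1) (hne : p ≠ q) :
    ∀ g ∈ o2 (centralizer ({pr M p q} : Set G)), g ∈ P ∧ (pp M g = 1 ∨ pp M g = Equiv.swap p q) :=
  L_all hD (ttAll hD.toSit) hpq hne

/-- **F1** -/
theorem fOne_all {M : SymK (S : Subgroup G) P (zl (S : Subgroup G) P) (cv (S : Subgroup G) P) k m}
    {ε : Fin k → (Fin (2 ^ m + 1) → ZMod 2) → G} (hG : IsCharacteristicTwoType G) (hP : IsParS (S : Subgroup G) P)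
    (hL : Lb M ε) (hk : 0 < k) (hm : 2 ≤ m) : FOne M ε :=
  fOne_of hG hP hL hk hm (ttAll _)

end Cfsg.Agent.Omega.IId.SymWrD

end

section


/-!
# II.d, `SwBig`: F1 for all duads, `D = 1`, all `k ≥ 1`, `m ≥ 2` (bb OMEGA #17498)

`Sit.qle` : `O₂(C_G(n)) ≤ P`; `Sit.qpp` : it acts on the points inside `⟨(p q)⟩`, `n = pr M p q`.
-/

set_option autoImplicit false

namespace Cfsg.Agent.Omega.IId.SymWr

open Subgroup Pointwise Cfsg Cfsg.Agent.ZN Cfsg.Agent.Omega.MinPar Cfsg.Agent.Omega.FFThm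
open Cfsg.Agent.Omega.Half.SymA (Pt E Mv pm Amb0)

universe u

variable {G : Type u} [Group G] [Finite G] {P V : Subgroup G} {k m : ℕ} {S : Sylow 2 G}
  {M : SymK (S : Subgroup G) P V ⊥ k m}

/-- **F1** for all duads -/
theorem Sit.fOne (h : Sit S P V M) {p q : Pt k m} (hpq : p.1 = q.1) (hne : p ≠ q) :
    ∀ g ∈ o2 (centralizer ({pr M p q} : Set G)), g ∈ P ∧ (pp M g = 1 ∨ pp M g = Equiv.swap p q) :=
  SymWrD.L_dat (SymWrD.SitD.of_sit h) hpq hne

/-- `O₂(C_G(n)) ≤ P` -/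
theorem Sit.qle (h : Sit S P V M) {p q : Pt k m} (hpq : p.1 = q.1) (hne : p ≠ q) :
    o2 (centralizer ({pr M p q} : Set G)) ≤ P := fun g hg => (h.fOne hpq hne g hg).1

/-- `O₂(C_G(n))` acts inside `⟨(p q)⟩` -/
theorem Sit.qpp (h : Sit S P V M) {p q : Pt k m} (hpq : p.1 = q.1) (hne : p ≠ q) {g : G}
    (hg : g ∈ o2 (centralizer ({pr M p q} : Set G))) : pp M g = 1 ∨ pp M g = Equiv.swap p q :=
  (h.fOne hpq hne g hg).2

end Cfsg.Agent.Omega.IId.SymWr

end
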