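import Cfsg.Agent.Mrg.Omega.IId.SymWrD.Pts
import Cfsg.Agent.Mrg.Omega.IId.SymWr.Base
import Cfsg.Agent.MinSimple.Choice97

section


/-!
# II.d, `SwBig`, `SwCv` (copy of `SymWr/Base.lean` for `D` arbitrary): the interface for THEOREM L (bb OMEGA #17498, helper142)

`M : SymK S P V ⊥ k m`: `V` is the sum of `k` even-subset modules of degree `2 ^ m + 1`.

* `pp M g` : the permutation of the points induced by `g ∈ P` (`pp_mul`, `pp_inv`, `pp_fst`, `pp_snd`, `exists_pp`);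
* `Sit S P V M` : the situation (`V ≤ Ω₁Z(O₂(P))`, `O₂(P) = C_S(V)`, `C_G(O₂(P)) ≤ O₂(P)`);
* `Sit.induced` : a 2-group of permutations of the points inside the summands which is normalised by `S` is induced
  by `S`.
-/

set_option autoImplicit false

namespace Cfsg.Agent.Omega.IId.SymWrD

open Subgroup Pointwise Cfsg Cfsg.Agent.ZN Cfsg.Agent.Omega.MinPar Cfsg.Agent.Omega.FFThm
open Cfsg.Agent.Omega.Half (Amb amb_of_loc)
open Cfsg.Agent.Omega.Half.SymA (Pt E Mv pm Amb0)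
open Cfsg.Agent.MinSimple.VModule (mem_zc zc_le zc_comm zc_sq zc_le_zl le_normalizer_o2 o2_isPGroup o2_le
  normalizer_le_normalizer_zc le_normalizer_zl)

universe u

variable {G : Type u} [Group G] {T P V : Subgroup G} {k m : ℕ}

section pp

variable (M : SymK T P V ⊥ k m)

open scoped Classical in
/-- the permutation of the points induced by `g` -/
noncomputable def pp (g : G) : Equiv.Perm (Pt k m) := if h : ∃ π, Mv M g π then h.choose else 1

variable {M}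

theorem mv_pp {g : G} (hg : g ∈ P) : Mv M g (pp M g) := by
  obtain ⟨π, hπ, -⟩ := Half.SymA.exists_mv (M := M) hg
  have h : ∃ π, Mv M g π := ⟨π, hπ⟩
  rw [pp, dif_pos h]
  exact h.choose_spec

/-- the characteristic function of a conjugate -/
theorem E_conj {g : G} (hg : g ∈ P) {v : G} (hv : v ∈ V) (p : Pt k m) :
    E M (g * v * g⁻¹) (pp M g p) = E M v p := mv_pp hg v hv p

section amb

variable (hA : Amb0 T P V) (hm : 1 ≤ m)

include hA hm

theorem pp_eq {g : G} (hg : g ∈ P) {π : Equiv.Perm (Pt k m)} (hπ : Mv M g π) : pp M g = π :=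
  (mv_pp hg).unique0 hA hm hπ hg

theorem pp_one : pp M 1 = 1 := pp_eq hA hm (one_mem P) (Half.SymA.Mv_one M)

theorem pp_mul {g h : G} (hg : g ∈ P) (hh : h ∈ P) : pp M (g * h) = pp M g * pp M h :=
  pp_eq hA hm (mul_mem hg hh) ((mv_pp hg).mul0 hA (mv_pp hh) hh)

theorem pp_inv {g : G} (hg : g ∈ P) : pp M g⁻¹ = (pp M g)⁻¹ :=
  pp_eq hA hm (inv_mem hg) ((mv_pp hg).inv0 hA hg)

theorem pp_conj {g h : G} (hg : g ∈ P) (hh : h ∈ P) : pp M (g * h * g⁻¹) = pp M g * pp M h * (pp M g)⁻¹ := by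
  rw [pp_mul hA hm (mul_mem hg hh) (inv_mem hg), pp_mul hA hm hg hh, pp_inv hA hm hg]

theorem pp_fst {g : G} (hg : g ∈ P) {p q : Pt k m} (hpq : p.1 = q.1) : (pp M g p).1 = (pp M g q).1 :=
  (mv_pp hg).fst0 hA hm hg hpq

theorem pp_fst_iff {g : G} (hg : g ∈ P) {p q : Pt k m} : (pp M g p).1 = (pp M g q).1 ↔ p.1 = q.1 := by
  refine ⟨fun h => ?_, pp_fst hA hm hg⟩
  have h1 := pp_fst hA hm (M := M) (inv_mem hg) h
  rw [pp_inv hA hm hg] at h1
  have h2 : ∀ r, (pp M g)⁻¹ (pp M g r) = r := fun r => (pp M g).symm_apply_apply r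
  rwa [h2, h2] at h1

theorem pp_snd {t : G} (ht : t ∈ T) {p : Pt k m} : (pp M t p).2 = 0 ↔ p.2 = 0 :=
  (mv_pp (hA.TH ht)).snd0 hA hm ht

omit hA hm in
theorem E_conj' {g : G} (hg : g ∈ P) {v : G} (hv : v ∈ V) (p : Pt k m) :
    E M (g * v * g⁻¹) p = E M v ((pp M g)⁻¹ p) := by
  have h := E_conj (M := M) hg hv ((pp M g)⁻¹ p)
  rwa [show pp M g ((pp M g)⁻¹ p) = p from (pp M g).apply_symm_apply p] at h

/-- the kernel of the action -/
theorem pp_eq_one_iff {g : G} (hg : g ∈ P) : pp M g = 1 ↔ g ∈ centralizer (V : Set G) := by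
  constructor
  · intro h
    rw [mem_centralizer_iff]
    intro v hv
    have h1 : g * v * g⁻¹ = v := by
      refine Half.SymA.inj M (hA.conj_mem hg hv) hv fun p => ?_
      have := E_conj (M := M) hg hv p
      rwa [h] at this
    rw [mul_inv_eq_iff_eq_mul] at h1
    exact h1.symm
  · intro h
    refine pp_eq hA hm hg fun v hv p => ?_
    rw [mem_centralizer_iff] at h
    have h1 : g * v * g⁻¹ = v := by rw [← h v hv, mul_inv_cancel_right]
    rw [h1]
    rfl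

theorem pp_eq_iff {g h : G} (hg : g ∈ P) (hh : h ∈ P) : pp M g = pp M h ↔ g⁻¹ * h ∈ centralizer (V : Set G) := by
  rw [← pp_eq_one_iff hA hm (M := M) (mul_mem (inv_mem hg) hh), pp_mul hA hm (inv_mem hg) hh, pp_inv hA hm hg,
    inv_mul_eq_one]

end amb

/-- every permutation inside the summands is induced by an element of `P` -/
theorem exists_mv_of_fst (M : SymK T P V ⊥ k m) {π : Equiv.Perm (Pt k m)} (h : ∀ p, (π p).1 = p.1) :
    ∃ g ∈ P, Mv M g π := by
  have hsymm : ∀ p, (π.symm p).1 = p.1 := fun p => by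
    have := h (π.symm p)
    rw [π.apply_symm_apply] at this
    exact this.symm
  let τ : Fin k → Equiv.Perm (Fin (2 ^ m + 1)) := fun i =>
    { toFun := fun x => (π (i, x)).2
      invFun := fun x => (π.symm (i, x)).2
      left_inv := fun x => by
        have h1 : ((i, (π (i, x)).2) : Pt k m) = π (i, x) := Prod.ext (h (i, x)).symm rfl
        simp only [h1, π.symm_apply_apply]
      right_inv := fun x => by
        have h1 : ((i, (π.symm (i, x)).2) : Pt k m) = π.symm (i, x) := Prod.ext (hsymm (i, x)).symm rfl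
        simp only [h1, π.apply_symm_apply] }
  obtain ⟨g, hg, h1, -⟩ := M.lift τ
  refine ⟨g, hg, ?_⟩
  have h2 := Half.SymA.mv_pm M h1
  have h3 : pm 1 τ = π := by
    ext1 p
    exact Prod.ext (h p).symm rfl
  rwa [h3] at h2

theorem exists_pp (hA : Amb0 T P V) (hm : 1 ≤ m) (M : SymK T P V ⊥ k m) {π : Equiv.Perm (Pt k m)}
    (h : ∀ p, (π p).1 = p.1) : ∃ g ∈ P, pp M g = π := by
  obtain ⟨g, hg, h1⟩ := exists_mv_of_fst M h
  exact ⟨g, hg, pp_eq hA hm hg h1⟩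

/-- the action as a homomorphism -/
noncomputable def hom (hA : Amb0 T P V) (hm : 1 ≤ m) (M : SymK T P V ⊥ k m) : P →* Equiv.Perm (Pt k m) where
  toFun g := pp M g
  map_one' := pp_one hA hm
  map_mul' a b := pp_mul hA hm a.2 b.2

theorem hom_apply (hA : Amb0 T P V) (hm : 1 ≤ m) (M : SymK T P V ⊥ k m) (g : P) : hom hA hm M g = pp M g := rfl

end pp

/-- **The situation.** -/
structure Sit (S : Sylow 2 G) (P V : Subgroup G) {k m : ℕ} (M : SymK (S : Subgroup G) P V ⊥ k m) : Prop where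
  amb : Amb0 (S : Subgroup G) P V
  hm : 2 ≤ m
  hk : 0 < k
  VZ : V ≤ zc (o2 P)
  Q_eq : o2 P = (S : Subgroup G) ⊓ centralizer (V : Set G)
  cQ : centralizer (o2 P : Set G) ≤ o2 P
  cZ : P ⊓ centralizer (V : Set G) ≤ centralizer (zc (o2 P) : Set G)

/-- the case `D = 1` -/
theorem Sit.of_sit {S : Sylow 2 G} {M : SymK (S : Subgroup G) P V ⊥ k m} (h : SymWr.Sit S P V M) : Sit S P V M :=
  ⟨h.amb.to0, h.hm, h.hk, h.VZ, h.Q_eq, h.cQ, h.cZ⟩

/-- **The situation, `D` arbitrary**: `V_P = V × D`, `D` is centralised by `P`. -/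
structure SitD (S : Sylow 2 G) (P V D : Subgroup G) {k m : ℕ} (M : SymK (S : Subgroup G) P V ⊥ k m) : Prop extends
    Sit S P V M where
  DZ : D ≤ zc (o2 P)
  cenD : ∀ g ∈ P, ∀ d ∈ D, g * d = d * g
  disj : V ⊓ D = ⊥
  zcVD : zc (S : Subgroup G) ≤ V ⊔ D

/-- the case `D = 1` -/
theorem SitD.of_sit {S : Sylow 2 G} {M : SymK (S : Subgroup G) P V ⊥ k m} (h : SymWr.Sit S P V M) :
    SitD S P V ⊥ M where
  toSit := Sit.of_sit h
  DZ := bot_le
  cenD := fun g _ d hd => by rw [mem_bot.1 hd, mul_one, one_mul]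
  disj := inf_bot_eq V
  zcVD := h.amb.zc.trans le_sup_left

namespace Sit

variable {S : Sylow 2 G} {M : SymK (S : Subgroup G) P V ⊥ k m} (h : Sit S P V M)

include h

theorem hm1 : 1 ≤ m := (by norm_num : 1 ≤ 2).trans h.hm

theorem SP : (S : Subgroup G) ≤ P := h.amb.TH

theorem VS : V ≤ (S : Subgroup G) := h.amb.VT

theorem QS : o2 P ≤ (S : Subgroup G) := h.Q_eq.le.trans inf_le_left

theorem mul {g h' : G} (hg : g ∈ P) (hh : h' ∈ P) : pp M (g * h') = pp M g * pp M h' := pp_mul h.amb h.hm1 hg hh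

theorem inv {g : G} (hg : g ∈ P) : pp M g⁻¹ = (pp M g)⁻¹ := pp_inv h.amb h.hm1 hg

theorem one : pp M 1 = 1 := pp_one h.amb h.hm1

theorem conj {g h' : G} (hg : g ∈ P) (hh : h' ∈ P) : pp M (g * h' * g⁻¹) = pp M g * pp M h' * (pp M g)⁻¹ :=
  pp_conj h.amb h.hm1 hg hh

theorem fst {g : G} (hg : g ∈ P) {p q : Pt k m} (hpq : p.1 = q.1) : (pp M g p).1 = (pp M g q).1 :=
  pp_fst h.amb h.hm1 hg hpq

theorem snd {t : G} (ht : t ∈ (S : Subgroup G)) {p : Pt k m} : (pp M t p).2 = 0 ↔ p.2 = 0 :=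
  pp_snd h.amb h.hm1 ht

theorem eq_one_iff {g : G} (hg : g ∈ P) : pp M g = 1 ↔ g ∈ centralizer (V : Set G) := pp_eq_one_iff h.amb h.hm1 hg

theorem mem_Q_iff {s : G} (hs : s ∈ (S : Subgroup G)) : s ∈ o2 P ↔ pp M s = 1 := by
  rw [h.Q_eq, mem_inf, h.eq_one_iff (h.SP hs)]
  exact ⟨fun h1 => h1.2, fun h1 => ⟨hs, h1⟩⟩

theorem exists_pp {π : Equiv.Perm (Pt k m)} (hπ : ∀ p, (π p).1 = p.1) : ∃ g ∈ P, pp M g = π :=
  SymWrD.exists_pp h.amb h.hm1 M hπ

variable [Finite G]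

theorem trans {p q : Pt k m} (hp : p.2 ≠ 0) (hq : q.2 ≠ 0) : ∃ s ∈ (S : Subgroup G), pp M s p = q := by
  obtain ⟨t, ht, π, hπ, h1⟩ := Half.SymA.trans_pts0 S h.amb h.hm1 (M := M) hp hq
  exact ⟨t, ht, by rw [pp_eq h.amb h.hm1 (h.SP ht) hπ, h1]⟩

/-- the image of `S` in the permutations of the points -/
theorem induced {D : Subgroup (Equiv.Perm (Pt k m))} (hD : IsPGroup 2 D)
    (hfst : ∀ δ ∈ D, ∀ p, (δ p).1 = p.1)
    (hn : ∀ s ∈ (S : Subgroup G), ∀ δ ∈ D, pp M s * δ * (pp M s)⁻¹ ∈ D) {δ : Equiv.Perm (Pt k m)} (hδ : δ ∈ D) :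
    ∃ s ∈ (S : Subgroup G), pp M s = δ := by
  have : Fact (Nat.Prime 2) := ⟨Nat.prime_two⟩
  set φ := (hom h.amb h.hm1 M).rangeRestrict with hφ
  have hsurj : Function.Surjective φ := MonoidHom.rangeRestrict_surjective _
  set S1 : Sylow 2 P := S.subtype h.SP with hS1
  set S2 : Sylow 2 (hom h.amb h.hm1 M).range := S1.mapSurjective hsurj with hS2
  -- `D ≤ range`
  have hle : D ≤ (hom h.amb h.hm1 M).range := by
    intro d hd
    obtain ⟨g, hg, h1⟩ := h.exists_pp (hfst d hd)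
    exact ⟨⟨g, hg⟩, h1⟩
  set D' : Subgroup (hom h.amb h.hm1 M).range := D.subgroupOf _ with hD'
  have hD2 : IsPGroup 2 D' := hD.comap_of_injective _ Subtype.coe_injective
  have hmem : ∀ x : (hom h.amb h.hm1 M).range, x ∈ (S2 : Subgroup _) → ∃ s ∈ (S : Subgroup G), pp M s = x := by
    intro x hx
    have h1 : x ∈ (S1 : Subgroup P).map φ := hx
    obtain ⟨s, hs, rfl⟩ := h1
    have h2 : s ∈ (S : Subgroup G).subgroupOf P := hs
    exact ⟨s, mem_subgroupOf.1 h2, rfl⟩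
  have hnorm : (S2 : Subgroup _) ≤ normalizer (D' : Set (hom h.amb h.hm1 M).range) := by
    intro x hx
    obtain ⟨s, hs, h1⟩ := hmem x hx
    refine MinSimple.VModule.mem_normalizer_of_map_le ?_
    rintro _ ⟨d, hd, rfl⟩
    have h2 : (d : Equiv.Perm (Pt k m)) ∈ D := mem_subgroupOf.1 hd
    change ((MulAut.conj x) d) ∈ D'
    rw [hD', mem_subgroupOf]
    have h3 : (((MulAut.conj x) d : (hom h.amb h.hm1 M).range) : Equiv.Perm (Pt k m)) =
        pp M s * (d : Equiv.Perm (Pt k m)) * (pp M s)⁻¹ := by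
      rw [MulAut.conj_apply, Subgroup.coe_mul, Subgroup.coe_mul, Subgroup.coe_inv, ← h1]
    rw [h3]
    exact hn s hs _ h2
  have hsup : IsPGroup 2 ((S2 : Subgroup _) ⊔ D' : Subgroup (hom h.amb h.hm1 M).range) :=
    S2.isPGroup'.to_sup_of_normal_right' hD2 hnorm
  have heq := S2.is_maximal' hsup le_sup_left
  have h1 : (⟨δ, hle hδ⟩ : (hom h.amb h.hm1 M).range) ∈ (S2 : Subgroup _) := by
    rw [← heq]
    exact mem_sup_right (mem_subgroupOf.2 hδ)
  exact hmem _ h1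

end Sit

end Cfsg.Agent.Omega.IId.SymWrD

end

section


/-!
# II.d, `SwBig`, `SwCv` (copy of `SymWr/Fours.lean` for `D` arbitrary): the pairs and the 4-blocks of `S` on the points (THEOREM L, bb OMEGA #17498)

`Fours M μ ν` : `μ`, `ν` are commuting involutions of the points; the `{p, μ p}` (`p.2 ≠ 0`) are the `S`-pairs and the
`{p, μ p, ν p, μ (ν p)}` the 4-blocks.

* `exists_fours` : existence;
* `Fours.FA`, `Fours.FD` : the group of the permutations preserving all pairs, and the group of the permutations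
  preserving all 4-blocks and permuting the pairs; 2-groups (`FA_isPGroup`, `FD_isPGroup`) normalised by `S`;
* `Fours.A`, `Fours.D` : their preimages in `S`; `exists_A`, `exists_D` : all of `FA`, `FD` is induced by `S`.
-/

set_option autoImplicit false

namespace Cfsg.Agent.Omega.IId.SymWrD

open Cfsg.Agent.Omega.IId.SymWr
open Subgroup Pointwise Cfsg Cfsg.Agent.ZN Cfsg.Agent.Omega.MinPar Cfsg.Agent.Omega.FFThm
open Cfsg.Agent.Omega.Half (Amb amb_of_loc)
open Cfsg.Agent.Omega.Half.SymA (Pt E Mv pm)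

universe u

variable {G : Type u} [Group G] {P V : Subgroup G} {k m : ℕ}

/-- The pairs `{p, μ p}` and the 4-blocks `{p, μ p, ν p, μ (ν p)}` of `S`. -/
structure Fours {S : Subgroup G} (M : SymK S P V ⊥ k m) (μ ν : Equiv.Perm (Pt k m)) : Prop where
  mfst : ∀ p, (μ p).1 = p.1
  nfst : ∀ p, (ν p).1 = p.1
  mzero : ∀ p, p.2 = 0 → μ p = p
  nzero : ∀ p, p.2 = 0 → ν p = p
  mne : ∀ p, p.2 ≠ 0 → μ p ≠ p
  nne : ∀ p, p.2 ≠ 0 → ν p ≠ p
  nmu : ∀ p, p.2 ≠ 0 → ν p ≠ μ p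
  msq : ∀ p, μ (μ p) = p
  nsq : ∀ p, ν (ν p) = p
  comm : ∀ p, μ (ν p) = ν (μ p)
  meqv : ∀ s ∈ S, ∀ p, pp M s (μ p) = μ (pp M s p)
  neqv : ∀ s ∈ S, ∀ p, pp M s (ν p) = ν (pp M s p) ∨ pp M s (ν p) = μ (ν (pp M s p))

namespace Fours

section basic

variable {S : Subgroup G} {M : SymK S P V ⊥ k m} {μ ν : Equiv.Perm (Pt k m)} (F : Fours M μ ν)

include F

theorem mnz {p : Pt k m} : (μ p).2 = 0 ↔ p.2 = 0 := by
  constructor
  · intro h
    by_contra h0
    have h1 := F.mzero _ h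
    rw [F.msq] at h1
    exact F.mne p h0 h1.symm
  · intro h
    rw [F.mzero p h, h]

theorem nnz {p : Pt k m} : (ν p).2 = 0 ↔ p.2 = 0 := by
  constructor
  · intro h
    by_contra h0
    have h1 := F.nzero _ h
    rw [F.nsq] at h1
    exact F.nne p h0 h1.symm
  · intro h
    rw [F.nzero p h, h]

end basic

end Fours

section exist

variable [Finite G] {S : Sylow 2 G} {M : SymK (S : Subgroup G) P V ⊥ k m} (h : Sit S P V M)

/-- the stabiliser of a point in `S` -/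
noncomputable def stab (h : Sit S P V M) (x : Pt k m) : Subgroup G where
  carrier := {s | s ∈ (S : Subgroup G) ∧ pp M s x = x}
  mul_mem' := by
    rintro a b ⟨ha, h1⟩ ⟨hb, h2⟩
    refine ⟨mul_mem ha hb, ?_⟩
    rw [h.mul (h.SP ha) (h.SP hb), Equiv.Perm.mul_apply, h2, h1]
  one_mem' := ⟨one_mem _, by rw [h.one]; rfl⟩
  inv_mem' := by
    rintro a ⟨ha, h1⟩
    refine ⟨inv_mem ha, ?_⟩
    rw [h.inv (h.SP ha), Equiv.Perm.inv_eq_iff_eq, h1]

/-- the stabiliser of a summand in `S` -/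
noncomputable def stabB (h : Sit S P V M) (x : Pt k m) : Subgroup G where
  carrier := {s | s ∈ (S : Subgroup G) ∧ (pp M s x).1 = x.1}
  mul_mem' := by
    rintro a b ⟨ha, h1⟩ ⟨hb, h2⟩
    refine ⟨mul_mem ha hb, ?_⟩
    rw [h.mul (h.SP ha) (h.SP hb), Equiv.Perm.mul_apply, h.fst (h.SP ha) h2, h1]
  one_mem' := ⟨one_mem _, by rw [h.one]; rfl⟩
  inv_mem' := by
    rintro a ⟨ha, h1⟩
    refine ⟨inv_mem ha, ?_⟩
    have h2 := h.fst (inv_mem (h.SP ha)) h1
    rw [h.inv (h.SP ha), show (pp M a)⁻¹ (pp M a x) = x from (pp M a).symm_apply_apply x] at h2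
    rw [h.inv (h.SP ha)]
    exact h2.symm

omit [Finite G] in
theorem mem_stab {h : Sit S P V M} {x : Pt k m} {s : G} : s ∈ stab h x ↔ s ∈ (S : Subgroup G) ∧ pp M s x = x := Iff.rfl

omit [Finite G] in
theorem mem_stabB {h : Sit S P V M} {x : Pt k m} {s : G} :
    s ∈ stabB h x ↔ s ∈ (S : Subgroup G) ∧ (pp M s x).1 = x.1 := Iff.rfl

omit [Finite G] in
theorem card_mul_relIndex {A K : Subgroup G} (h : A ≤ K) : Nat.card A * A.relIndex K = Nat.card K := by
  have h1 := relIndex_mul_relIndex (⊥ : Subgroup G) A K bot_le h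
  rwa [relIndex_bot_left, relIndex_bot_left] at h1

/-- two proper subgroups between a subgroup of index `≥ 4` and a 2-group -/
theorem exists_chain {A T : Subgroup G} (hT : IsPGroup 2 T) (hAT : A ≤ T) (h4 : 4 ∣ A.relIndex T) :
    ∃ K L : Subgroup G, A ≤ K ∧ K ≤ L ∧ L ≤ T ∧ A.relIndex K = 2 ∧ K.relIndex L = 2 := by
  have : Fact (Nat.Prime 2) := ⟨Nat.prime_two⟩
  obtain ⟨n, hn⟩ := IsPGroup.iff_card.1 hT
  obtain ⟨a, ha⟩ := IsPGroup.iff_card.1 (hT.to_le hAT)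
  have hmul : Nat.card A * A.relIndex T = Nat.card T := card_mul_relIndex hAT
  have han : a + 2 ≤ n := by
    obtain ⟨c, hc⟩ := h4
    have h1 : 2 ^ (a + 2) ∣ 2 ^ n := ⟨c, by rw [← hn, ← hmul, ha, hc, pow_add]; ring⟩
    exact (Nat.pow_dvd_pow_iff_le_right (by norm_num)).1 h1
  have hA' : Nat.card (A.subgroupOf T) = 2 ^ a := by
    rw [← ha]
    exact Nat.card_congr (Subgroup.subgroupOfEquivOfLe hAT).toEquiv
  obtain ⟨K', hK', hAK⟩ := Sylow.exists_subgroup_card_pow_prime_le (G := T) 2 (n := a) (m := a + 1)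
    (by rw [hn]; exact pow_dvd_pow 2 (by omega)) _ hA' (by omega)
  obtain ⟨L', hL', hKL⟩ := Sylow.exists_subgroup_card_pow_prime_le (G := T) 2 (n := a + 1) (m := a + 2)
    (by rw [hn]; exact pow_dvd_pow 2 (by omega)) _ hK' (by omega)
  have hcard : ∀ R : Subgroup T, Nat.card (R.map T.subtype) = Nat.card R := fun R =>
    (Nat.card_congr (Subgroup.equivMapOfInjective R _ T.subtype_injective).toEquiv).symm
  have hAK' : A ≤ K'.map T.subtype := fun x hx => ⟨⟨x, hAT hx⟩, hAK (mem_subgroupOf.2 hx), rfl⟩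
  have hKL' : K'.map T.subtype ≤ L'.map T.subtype := Subgroup.map_mono hKL
  refine ⟨K'.map T.subtype, L'.map T.subtype, hAK', hKL', map_subtype_le _, ?_, ?_⟩
  · have h1 := card_mul_relIndex hAK'
    rw [hcard, hK', ha, pow_succ] at h1
    exact Nat.eq_of_mul_eq_mul_left (by positivity) h1
  · have h1 := card_mul_relIndex hKL'
    rw [hcard, hcard, hK', hL', pow_succ] at h1
    exact Nat.eq_of_mul_eq_mul_left (by positivity) h1

omit [Finite G] in
theorem stab_le (x : Pt k m) : stab h x ≤ stabB h x := fun s hs => ⟨hs.1, by rw [hs.2]⟩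

theorem relIndex_stab {x : Pt k m} (hx : x.2 ≠ 0) : (stab h x).relIndex (stabB h x) = 2 ^ m := by
  let f : stabB h x →* Equiv.Perm (Pt k m) :=
    { toFun := fun s => pp M s
      map_one' := h.one
      map_mul' := fun a b => h.mul (h.SP a.2.1) (h.SP b.2.1) }
  letI : MulAction (stabB h x) (Pt k m) := MulAction.compHom _ f
  have hsm : ∀ (s : stabB h x) (y : Pt k m), s • y = pp M s y := fun _ _ => rfl
  have h1 : (stab h x).subgroupOf (stabB h x) = MulAction.stabilizer (stabB h x) x := by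
    ext s
    rw [mem_subgroupOf, MulAction.mem_stabilizer_iff, hsm, mem_stab]
    exact ⟨fun h1 => h1.2, fun h1 => ⟨s.2.1, h1⟩⟩
  rw [relIndex, h1, MulAction.index_stabilizer]
  have h2 : MulAction.orbit (stabB h x) x = (fun y : Fin (2 ^ m + 1) => ((x.1, y) : Pt k m)) '' {y | y ≠ 0} := by
    ext q
    constructor
    · rintro ⟨s, rfl⟩
      refine ⟨(pp M s x).2, fun h0 => hx ((h.snd s.2.1).1 h0), ?_⟩
      exact Prod.ext s.2.2.symm rfl
    · rintro ⟨y, hy, rfl⟩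
      obtain ⟨s, hs, h3⟩ := h.trans (p := x) (q := (x.1, y)) hx hy
      exact ⟨⟨s, hs, by rw [h3]⟩, h3⟩
  rw [h2, Set.ncard_image_of_injective _ (fun a b hab => (Prod.ext_iff.1 hab).2)]
  have h3 : {y : Fin (2 ^ m + 1) | y ≠ 0} = ((Finset.univ.erase 0 : Finset (Fin (2 ^ m + 1))) : Set _) := by
    ext y
    simp
  rw [h3, Set.ncard_coe_finset, Finset.card_erase_of_mem (Finset.mem_univ _), Finset.card_univ, Fintype.card_fin]
  rfl

set_option maxHeartbeats 2000000 in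
include h in
/-- **Existence of the pairs and the 4-blocks.** -/
theorem exists_fours : ∃ μ ν, Fours M μ ν := by
  classical
  have hne : ((1 : Fin (2 ^ m + 1)) : Fin (2 ^ m + 1)) ≠ 0 := by
    have h2 : 2 ≤ 2 ^ m := by
      calc 2 = 2 ^ 1 := by norm_num
        _ ≤ 2 ^ m := Nat.pow_le_pow_right (by norm_num) h.hm1
    intro h0
    have h1 := congrArg Fin.val h0
    rw [Fin.val_zero, Fin.val_one', Nat.mod_eq_of_lt (by omega)] at h1
    exact one_ne_zero h1
  set x₀ : Pt k m := (⟨0, h.hk⟩, 1) with hx₀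
  have hx : x₀.2 ≠ 0 := hne
  have h4 : 4 ∣ (stab h x₀).relIndex (stabB h x₀) := by
    rw [relIndex_stab h hx]
    exact (Nat.pow_dvd_pow_iff_le_right (x := 2) (by norm_num)).2 h.hm
  have hT1 : stabB h x₀ ≤ (S : Subgroup G) := fun s hs => hs.1
  obtain ⟨K, L, hStK, hKL, hLT, hK2, hL2⟩ := exists_chain (S.isPGroup'.to_le hT1) (stab_le h x₀) h4
  have hLS : L ≤ (S : Subgroup G) := hLT.trans hT1
  have hKS : K ≤ (S : Subgroup G) := hKL.trans hLS
  have hStS : stab h x₀ ≤ (S : Subgroup G) := hStK.trans hKS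
  obtain ⟨t, htK, htSt⟩ : ∃ t ∈ K, t ∉ stab h x₀ := by
    by_contra h0
    push Not at h0
    have : (stab h x₀).relIndex K = 1 := relIndex_eq_one.2 h0
    omega
  obtain ⟨u, huL, huK⟩ : ∃ u ∈ L, u ∉ K := by
    by_contra h0
    push Not at h0
    have : K.relIndex L = 1 := relIndex_eq_one.2 h0
    omega
  have htS := hKS htK
  have huS := hLS huL
  -- products
  have hmul : ∀ a ∈ (S : Subgroup G), ∀ b ∈ (S : Subgroup G), ∀ p, pp M (a * b) p = pp M a (pp M b p) := by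
    intro a ha b hb p
    rw [h.mul (h.SP ha) (h.SP hb), Equiv.Perm.mul_apply]
  have heq : ∀ a ∈ (S : Subgroup G), ∀ b ∈ (S : Subgroup G), (pp M a x₀ = pp M b x₀ ↔ a⁻¹ * b ∈ stab h x₀) := by
    intro a ha b hb
    rw [mem_stab, hmul _ (inv_mem ha) _ hb, h.inv (h.SP ha), Equiv.Perm.inv_eq_iff_eq]
    exact ⟨fun h1 => ⟨mul_mem (inv_mem ha) hb, h1.symm⟩, fun h1 => h1.2.symm⟩
  have hK : ∀ a ∈ K, ∀ b ∈ K, a ∉ stab h x₀ → b ∉ stab h x₀ → pp M a x₀ = pp M b x₀ := by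
    intro a ha b hb h1 h2
    rw [heq a (hKS ha) b (hKS hb), Half.mul_mem_of_index_two hK2 (inv_mem ha) hb, inv_mem_iff]
    exact iff_of_false h1 h2
  have hnz : ∀ s ∈ (S : Subgroup G), (pp M s x₀).2 ≠ 0 := fun s hs h0 => hx ((h.snd hs).1 h0)
  have hbase : ∀ p : Pt k m, p.2 ≠ 0 → ∃ s ∈ (S : Subgroup G), pp M s x₀ = p := fun p hp => h.trans hx hp
  choose! c hcS hc using hbase
  -- `μ`
  obtain ⟨μ, hμd⟩ : ∃ μ : Pt k m → Pt k m, ∀ p, μ p = if p.2 = 0 then p else pp M (c p * t) x₀ := ⟨_, fun _ => rfl⟩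
  have hμ0 : ∀ p, p.2 = 0 → μ p = p := fun p hp => by rw [hμd, if_pos hp]
  have hμ1 : ∀ p, p.2 ≠ 0 → μ p = pp M (c p * t) x₀ := fun p hp => by rw [hμd, if_neg hp]
  have hμ : ∀ s ∈ (S : Subgroup G), μ (pp M s x₀) = pp M (s * t) x₀ := by
    intro s hs
    have h1 : μ (pp M s x₀) = pp M (c (pp M s x₀) * t) x₀ := hμ1 _ (hnz s hs)
    rw [h1]
    have h2 := hc _ (hnz s hs)
    have h3 := hcS _ (hnz s hs)
    set s' := c (pp M s x₀) with hs'
    rw [heq s' h3 s hs] at h2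
    rw [hmul s' h3 t htS, hmul s hs t htS]
    have h4 : pp M s (pp M t x₀) = pp M s' (pp M (s'⁻¹ * s * t) x₀) := by
      rw [← hmul s hs t htS, ← hmul s' h3 _ (mul_mem (mul_mem (inv_mem h3) hs) htS)]
      congr 2
      group
    rw [h4]
    congr 1
    refine hK t htK _ (mul_mem (hStK h2) htK) htSt ?_
    intro h5
    exact htSt ((Subgroup.mul_mem_cancel_left _ h2).1 h5)
  have htt : t * t ∈ stab h x₀ := (Half.mul_mem_of_index_two hK2 htK htK).2 Iff.rfl
  have hfix : ∀ s ∈ (S : Subgroup G), ∀ a ∈ stab h x₀, pp M (s * a) x₀ = pp M s x₀ := by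
    intro s hs a ha
    rw [hmul s hs a (hStS ha), ha.2]
  have hμμ : ∀ p, μ (μ p) = p := by
    intro p
    by_cases hp : p.2 = 0
    · rw [hμ0 p hp, hμ0 p hp]
    · conv_lhs => rw [← hc p hp]
      rw [hμ _ (hcS p hp), hμ _ (mul_mem (hcS p hp) htS), mul_assoc, hfix _ (hcS p hp) _ htt, hc p hp]
  have hμne : ∀ p, p.2 ≠ 0 → μ p ≠ p := by
    intro p hp h0
    have h1 : μ p = pp M (c p * t) x₀ := hμ1 p hp
    rw [h1] at h0
    conv_rhs at h0 => rw [← hc p hp]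
    rw [eq_comm, heq _ (hcS p hp) _ (mul_mem (hcS p hp) htS), inv_mul_cancel_left] at h0
    exact htSt h0
  have hμeqv : ∀ s ∈ (S : Subgroup G), ∀ p, pp M s (μ p) = μ (pp M s p) := by
    intro s hs p
    by_cases hp : p.2 = 0
    · rw [hμ0 p hp, hμ0 _ ((h.snd hs).2 hp)]
    · have h1 : μ p = pp M (c p * t) x₀ := hμ1 p hp
      rw [h1, ← hmul s hs _ (mul_mem (hcS p hp) htS), ← mul_assoc, ← hμ _ (mul_mem hs (hcS p hp)),
        hmul s hs _ (hcS p hp), hc p hp]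
  have hμfst : ∀ p, (μ p).1 = p.1 := by
    intro p
    by_cases hp : p.2 = 0
    · rw [hμ0 p hp]
    · have h1 : μ p = pp M (c p * t) x₀ := hμ1 p hp
      rw [h1, hmul _ (hcS p hp) _ htS]
      conv_rhs => rw [← hc p hp]
      exact h.fst (h.SP (hcS p hp)) (hLT (hKL htK)).2
  have hμnz : ∀ p, p.2 ≠ 0 → (μ p).2 ≠ 0 := by
    intro p hp h0
    have h1 := hμ0 _ h0
    rw [hμμ] at h1
    exact hμne p hp h1.symm
  -- the 4-blocks
  obtain ⟨β, hβd⟩ : ∃ β : Pt k m → Pt k m → Prop, ∀ p q, β p q ↔ ∃ s ∈ (S : Subgroup G), ∃ l ∈ L,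
      pp M s x₀ = p ∧ pp M (s * l) x₀ = q := ⟨_, fun _ _ => Iff.rfl⟩
  have hβs : ∀ s ∈ (S : Subgroup G), ∀ q, β (pp M s x₀) q ↔ ∃ l ∈ L, pp M (s * l) x₀ = q := by
    intro s hs q
    rw [hβd]
    constructor
    · rintro ⟨s', hs', l, hl, h1, h2⟩
      have h3 := (heq s hs s' hs').1 h1.symm
      refine ⟨s⁻¹ * s' * l, mul_mem (hKL (hStK h3)) hl, ?_⟩
      rw [← h2]
      congr 2
      group
    · rintro ⟨l, hl, h1⟩
      exact ⟨s, hs, l, hl, rfl, h1⟩
  have hβsymm : ∀ p q, β p q → β q p := by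
    intro p q hpq
    obtain ⟨s, hs, l, hl, rfl, rfl⟩ := (hβd p q).1 hpq
    exact (hβd _ _).2 ⟨s * l, mul_mem hs (hLS hl), l⁻¹, inv_mem hl, rfl, by rw [mul_inv_cancel_right]⟩
  have hβtrans : ∀ p q r, β p q → β q r → β p r := by
    intro p q r hpq h1
    obtain ⟨s, hs, l, hl, rfl, rfl⟩ := (hβd p q).1 hpq
    obtain ⟨l', hl', h2⟩ := (hβs _ (mul_mem hs (hLS hl)) r).1 h1
    exact (hβd _ _).2 ⟨s, hs, l * l', mul_mem hl hl', rfl, by rw [← mul_assoc, h2]⟩
  have hβeqv : ∀ s ∈ (S : Subgroup G), ∀ p q, β p q → β (pp M s p) (pp M s q) := by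
    intro s hs p q hpq
    obtain ⟨s', hs', l, hl, rfl, rfl⟩ := (hβd p q).1 hpq
    refine (hβd _ _).2 ⟨s * s', mul_mem hs hs', l, hl, hmul s hs s' hs' _, ?_⟩
    rw [mul_assoc, hmul s hs _ (mul_mem hs' (hLS hl))]
  have hβrefl : ∀ p, p.2 ≠ 0 → β p p := fun p hp => (hβd _ _).2 ⟨c p, hcS p hp, 1, one_mem L, hc p hp, by rw [mul_one, hc p hp]⟩
  have hβnz : ∀ p q, β p q → p.2 ≠ 0 ∧ q.2 ≠ 0 := by
    intro p q hpq
    obtain ⟨s, hs, l, hl, rfl, rfl⟩ := (hβd p q).1 hpq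
    exact ⟨hnz s hs, hnz _ (mul_mem hs (hLS hl))⟩
  have hβfst : ∀ p q, β p q → q.1 = p.1 := by
    intro p q hpq
    obtain ⟨s, hs, l, hl, rfl, rfl⟩ := (hβd p q).1 hpq
    rw [hmul s hs l (hLS hl)]
    exact h.fst (h.SP hs) (hLT hl).2
  -- the four points
  have hcls : ∀ s ∈ (S : Subgroup G), ∀ q, β (pp M s x₀) q ↔ q = pp M s x₀ ∨ q = μ (pp M s x₀) ∨
      q = pp M (s * u) x₀ ∨ q = μ (pp M (s * u) x₀) := by
    intro s hs q
    rw [hβs s hs q, hμ s hs, hμ _ (mul_mem hs huS)]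
    constructor
    · rintro ⟨l, hl, rfl⟩
      have hin : ∀ a ∈ K, ∀ s' ∈ (S : Subgroup G), pp M (s' * a) x₀ = pp M s' x₀ ∨ pp M (s' * a) x₀ = pp M (s' * t) x₀ := by
        intro a ha s' hs'
        by_cases h1 : a ∈ stab h x₀
        · left; exact hfix s' hs' a h1
        · right
          rw [hmul s' hs' a (hKS ha), hmul s' hs' t htS, hK a ha t htK h1 htSt]
      by_cases h1 : l ∈ K
      · rcases hin l h1 s hs with h2 | h2
        · left; exact h2
        · right; left; exact h2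
      · have h2 : u⁻¹ * l ∈ K := by
          rw [Half.mul_mem_of_index_two hL2 (inv_mem huL) hl, inv_mem_iff]
          exact iff_of_false huK h1
        have h3 := hin _ h2 (s * u) (mul_mem hs huS)
        have h4 : s * u * (u⁻¹ * l) = s * l := by group
        rw [h4] at h3
        rcases h3 with h3 | h3
        · right; right; left; exact h3
        · right; right; right; exact h3
    · rintro (rfl | rfl | rfl | rfl)
      · exact ⟨1, one_mem L, by rw [mul_one]⟩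
      · exact ⟨t, hKL htK, rfl⟩
      · exact ⟨u, huL, rfl⟩
      · exact ⟨u * t, mul_mem huL (hKL htK), by rw [mul_assoc]⟩
  have hne1 : ∀ s ∈ (S : Subgroup G), pp M (s * u) x₀ ≠ pp M s x₀ := by
    intro s hs h0
    rw [eq_comm, heq s hs _ (mul_mem hs huS), inv_mul_cancel_left] at h0
    exact huK (hStK h0)
  have hne2 : ∀ s ∈ (S : Subgroup G), pp M (s * u) x₀ ≠ μ (pp M s x₀) := by
    intro s hs h0
    rw [hμ s hs, eq_comm, heq _ (mul_mem hs htS) _ (mul_mem hs huS)] at h0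
    have h1 : t * ((s * t)⁻¹ * (s * u)) ∈ K := mul_mem htK (hStK h0)
    have h2 : t * ((s * t)⁻¹ * (s * u)) = u := by group
    rw [h2] at h1
    exact huK h1
  -- representatives
  have : Nonempty (Pt k m) := ⟨x₀⟩
  obtain ⟨ρ, hρd⟩ : ∃ ρ : Pt k m → Pt k m, ∀ p, ρ p = Classical.epsilon (fun q => β p q) := ⟨_, fun _ => rfl⟩
  have hρ : ∀ p, p.2 ≠ 0 → β p (ρ p) := fun p hp => by
    rw [hρd]
    exact Classical.epsilon_spec (p := fun q => β p q) ⟨p, hβrefl p hp⟩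
  have hρeq : ∀ p q, β p q → ρ p = ρ q := by
    intro p q hpq
    have h1 : (fun r => β p r) = fun r => β q r := by
      funext r
      exact propext ⟨fun h2 => hβtrans _ _ _ (hβsymm _ _ hpq) h2, fun h2 => hβtrans _ _ _ hpq h2⟩
    rw [hρd, hρd, h1]
  have hρnz : ∀ p, p.2 ≠ 0 → (ρ p).2 ≠ 0 := fun p hp => (hβnz _ _ (hρ p hp)).2
  obtain ⟨r', hrd⟩ : ∃ r' : Pt k m → Pt k m, ∀ p, r' p = pp M (c (ρ p) * u) x₀ := ⟨_, fun _ => rfl⟩
  have hr' : ∀ p q, β p q → r' p = r' q := by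
    intro p q hpq
    rw [hrd, hrd, hρeq p q hpq]
  have hfour : ∀ p, p.2 ≠ 0 → ∀ q, β p q ↔ q = ρ p ∨ q = μ (ρ p) ∨ q = r' p ∨ q = μ (r' p) := by
    intro p hp q
    have h1 := hcls _ (hcS _ (hρnz p hp)) q
    rw [hc _ (hρnz p hp), ← hrd] at h1
    rw [← h1]
    exact ⟨fun h2 => hβtrans _ _ _ (hβsymm _ _ (hρ p hp)) h2, fun h2 => hβtrans _ _ _ (hρ p hp) h2⟩
  have hd1 : ∀ p, p.2 ≠ 0 → r' p ≠ ρ p := by
    intro p hp
    have h1 := hne1 _ (hcS _ (hρnz p hp))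
    rwa [hc _ (hρnz p hp), ← hrd] at h1
  have hd2 : ∀ p, p.2 ≠ 0 → r' p ≠ μ (ρ p) := by
    intro p hp
    have h1 := hne2 _ (hcS _ (hρnz p hp))
    rwa [hc _ (hρnz p hp), ← hrd] at h1
  have hr'nz : ∀ p, p.2 ≠ 0 → (r' p).2 ≠ 0 := fun p hp => by
    rw [hrd]
    exact hnz _ (mul_mem (hcS _ (hρnz p hp)) huS)
  have hβr : ∀ p, p.2 ≠ 0 → β p (r' p) := fun p hp => (hfour p hp _).2 (Or.inr (Or.inr (Or.inl rfl)))
  have hβμ : ∀ p, p.2 ≠ 0 → β p (μ p) := by
    intro p hp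
    have h1 := (hcls _ (hcS p hp) (μ (pp M (c p) x₀))).2 (Or.inr (Or.inl rfl))
    rwa [hc p hp] at h1
  -- `ν`
  obtain ⟨ν, hνd⟩ : ∃ ν : Pt k m → Pt k m, ∀ p, ν p = if p.2 = 0 then p else if p = ρ p then r' p else
    if p = μ (ρ p) then μ (r' p) else if p = r' p then ρ p else μ (ρ p) := ⟨_, fun _ => rfl⟩
  have hν0 : ∀ p, p.2 = 0 → ν p = p := fun p hp => by rw [hνd, if_pos hp]
  have hμinj : ∀ p q, μ p = μ q → p = q := fun p q hpq => by rw [← hμμ p, hpq, hμμ]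
  have hν1 : ∀ p, p.2 ≠ 0 → p = ρ p → ν p = r' p := fun p hp h1 => by
    rw [hνd, if_neg hp, if_pos h1]
  have hν2 : ∀ p, p.2 ≠ 0 → p = μ (ρ p) → ν p = μ (r' p) := fun p hp h1 => by
    rw [hνd, if_neg hp, if_neg fun h2 => hμne _ (hρnz p hp) (h1.symm.trans h2), if_pos h1]
  have hν3 : ∀ p, p.2 ≠ 0 → p = r' p → ν p = ρ p := fun p hp h1 => by
    rw [hνd, if_neg hp, if_neg fun h2 => hd1 p hp (h1.symm.trans h2), if_neg fun h2 => hd2 p hp (h1.symm.trans h2),
      if_pos h1]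
  have hν4 : ∀ p, p.2 ≠ 0 → p = μ (r' p) → ν p = μ (ρ p) := fun p hp h1 => by
    rw [hνd, if_neg hp, if_neg, if_neg, if_neg]
    · intro h2
      exact hμne _ (hr'nz p hp) (h1.symm.trans h2)
    · intro h2
      exact hd1 p hp (hμinj _ _ (h1.symm.trans h2))
    · intro h2
      apply hd2 p hp
      rw [← h2, ← hμμ (r' p), ← h1]
  -- the value of `ν`, in general
  have hνβ : ∀ p, p.2 ≠ 0 → β p (ν p) ∧ ν p ≠ p ∧ ν p ≠ μ p ∧ ν (ν p) = p ∧ μ (ν p) = ν (μ p) := by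
    intro p hp
    have hb := (hfour p hp p).1 (hβrefl p hp)
    have hμp := hμnz p hp
    have e1 : ρ (μ p) = ρ p := (hρeq _ _ (hβμ p hp)).symm
    have e2 : r' (μ p) = r' p := (hr' _ _ (hβμ p hp)).symm
    have e3 : ρ (r' p) = ρ p := (hρeq _ _ (hβr p hp)).symm
    have e4 : r' (r' p) = r' p := (hr' _ _ (hβr p hp)).symm
    have hb2 : β p (μ (r' p)) := (hfour p hp _).2 (Or.inr (Or.inr (Or.inr rfl)))
    have e5 : ρ (μ (r' p)) = ρ p := (hρeq _ _ hb2).symm
    have e6 : r' (μ (r' p)) = r' p := (hr' _ _ hb2).symm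
    have e7 : ρ (ρ p) = ρ p := (hρeq _ _ (hρ p hp)).symm
    have e8 : r' (ρ p) = r' p := (hr' _ _ (hρ p hp)).symm
    have hb3 : β p (μ (ρ p)) := (hfour p hp _).2 (Or.inr (Or.inl rfl))
    have e9 : ρ (μ (ρ p)) = ρ p := (hρeq _ _ hb3).symm
    have e10 : r' (μ (ρ p)) = r' p := (hr' _ _ hb3).symm
    have n1 := hρnz p hp
    have n2 := hr'nz p hp
    have n3 := hμnz _ n1
    have n4 := hμnz _ n2
    have v1 : ν (ρ p) = r' p := by rw [hν1 _ n1 e7.symm, e8]
    have v2 : ν (μ (ρ p)) = μ (r' p) := by rw [hν2 _ n3 (by rw [e9]), e10]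
    have v3 : ν (r' p) = ρ p := by rw [hν3 _ n2 e4.symm, e3]
    have v4 : ν (μ (r' p)) = μ (ρ p) := by rw [hν4 _ n4 (by rw [e6]), e5]
    have key : ∀ x, (x = ρ p ∨ x = μ (ρ p) ∨ x = r' p ∨ x = μ (r' p)) →
        β p (ν x) ∧ ν x ≠ x ∧ ν x ≠ μ x ∧ ν (ν x) = x ∧ μ (ν x) = ν (μ x) := by
      intro x hx
      rcases hx with hx | hx | hx | hx
      · subst hx
        refine ⟨?_, ?_, ?_, ?_, ?_⟩
        · rw [v1]; exact hβr p hp
        · rw [v1]; exact hd1 p hp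
        · rw [v1]; exact hd2 p hp
        · rw [v1, v3]
        · rw [v1, v2]
      · subst hx
        refine ⟨?_, ?_, ?_, ?_, ?_⟩
        · rw [v2]; exact hb2
        · rw [v2]
          intro h2
          exact hd1 p hp (hμinj _ _ h2)
        · rw [v2, hμμ]
          intro h2
          apply hd2 p hp
          rw [← h2, hμμ]
        · rw [v2, v4]
        · rw [v2, hμμ, hμμ, v1]
      · subst hx
        refine ⟨?_, ?_, ?_, ?_, ?_⟩
        · rw [v3]; exact hρ p hp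
        · rw [v3]; exact (hd1 p hp).symm
        · rw [v3]
          intro h2
          apply hd2 p hp
          rw [h2, hμμ]
        · rw [v3, v1]
        · rw [v3, v4]
      · subst hx
        refine ⟨?_, ?_, ?_, ?_, ?_⟩
        · rw [v4]; exact hb3
        · rw [v4]
          intro h2
          exact hd1 p hp (hμinj _ _ h2).symm
        · rw [v4, hμμ]; exact (hd2 p hp).symm
        · rw [v4, v2]
        · rw [v4, hμμ, hμμ, v3]
    exact key p hb
  have hν2' : ∀ p, ν (ν p) = p := by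
    intro p
    by_cases hp : p.2 = 0
    · rw [hν0 p hp, hν0 p hp]
    · exact (hνβ p hp).2.2.2.1
  refine ⟨⟨μ, μ, hμμ, hμμ⟩, ⟨ν, ν, hν2', hν2'⟩, ?_⟩
  exact {
    mfst := hμfst
    nfst := by
      intro p
      by_cases hp : p.2 = 0
      · exact congrArg Prod.fst (hν0 p hp)
      · exact hβfst _ _ (hνβ p hp).1
    mzero := hμ0
    nzero := hν0
    mne := hμne
    nne := fun p hp => (hνβ p hp).2.1
    nmu := fun p hp => (hνβ p hp).2.2.1
    msq := hμμ
    nsq := hν2'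
    comm := by
      intro p
      by_cases hp : p.2 = 0
      · change μ (ν p) = ν (μ p)
        rw [hν0 p hp, hμ0 p hp, hν0 p hp]
      · exact (hνβ p hp).2.2.2.2
    meqv := hμeqv
    neqv := by
      intro s hs p
      change pp M s (ν p) = ν (pp M s p) ∨ pp M s (ν p) = μ (ν (pp M s p))
      by_cases hp : p.2 = 0
      · left
        rw [hν0 p hp, hν0 _ ((h.snd hs).2 hp)]
      · obtain ⟨b1, b2, b3, -, -⟩ := hνβ p hp
        have c1 := hβeqv s hs _ _ b1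
        have hq : (pp M s p).2 ≠ 0 := fun h0 => hp ((h.snd hs).1 h0)
        obtain ⟨d1, d2, d3, d4, d5⟩ := hνβ _ hq
        have hinj := (pp M s).injective
        have f1 : pp M s (ν p) ≠ pp M s p := fun h0 => b2 (hinj h0)
        have f2 : pp M s (ν p) ≠ μ (pp M s p) := by
          rw [← hμeqv s hs]
          exact fun h0 => b3 (hinj h0)
        -- the class of `q = pp M s p`
        have hcq := hcls _ (hcS _ hq) (pp M s (ν p))
        rw [hc _ hq] at hcq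
        have c2 := hcq.1 c1
        have hcq' := hcls _ (hcS _ hq) (ν (pp M s p))
        rw [hc _ hq] at hcq'
        have c3 := hcq'.1 d1
        rcases c2 with c2 | c2 | c2 | c2
        · exact absurd c2 f1
        · exact absurd c2 f2
        · rcases c3 with c3 | c3 | c3 | c3
          · exact absurd c3 d2
          · exact absurd c3 d3
          · left; rw [c2, c3]
          · right; rw [c2, c3, hμμ]
        · rcases c3 with c3 | c3 | c3 | c3
          · exact absurd c3 d2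
          · exact absurd c3 d3
          · right; rw [c2, c3]
          · left; rw [c2, c3] }

end exist

/-! ### The groups of permutations preserving the pairs, resp. the 4-blocks -/

namespace Fours

section grp

variable {S : Subgroup G} {M : SymK S P V ⊥ k m} {μ ν : Equiv.Perm (Pt k m)} (F : Fours M μ ν)

/-- the permutations preserving all pairs -/
def FA (F : Fours M μ ν) : Subgroup (Equiv.Perm (Pt k m)) where
  carrier := {π | ∀ p, π p = p ∨ π p = μ p}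
  mul_mem' := by
    intro π ρ h1 h2 p
    rw [Equiv.Perm.mul_apply]
    rcases h2 p with h3 | h3
    · rw [h3]; exact h1 p
    · rw [h3]
      rcases h1 (μ p) with h4 | h4
      · right; exact h4
      · left; rw [h4, F.msq]
  one_mem' := fun p => Or.inl rfl
  inv_mem' := by
    intro π h1 p
    have h3 : π (π⁻¹ p) = p := π.apply_symm_apply p
    rcases h1 (π⁻¹ p) with h2 | h2
    · left
      rw [← h2, h3]
    · right
      rw [h3] at h2
      rw [h2, F.msq, ← h2]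

theorem mem_FA {π : Equiv.Perm (Pt k m)} : π ∈ F.FA ↔ ∀ p, π p = p ∨ π p = μ p := Iff.rfl

/-- `q` lies in the 4-block of `p` -/
def Cl (μ ν : Equiv.Perm (Pt k m)) (p q : Pt k m) : Prop := q = p ∨ q = μ p ∨ q = ν p ∨ q = μ (ν p)

include F in
theorem Cl.symm {p q : Pt k m} (h : Cl μ ν p q) : Cl μ ν q p := by
  rcases h with rfl | rfl | rfl | rfl
  · exact Or.inl rfl
  · right; left; rw [F.msq]
  · right; right; left; rw [F.nsq]
  · right; right; right; rw [← F.comm, F.nsq, F.msq]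

include F in
theorem Cl.trans {p q r : Pt k m} (h : Cl μ ν p q) (h' : Cl μ ν q r) : Cl μ ν p r := by
  rcases h with rfl | rfl | rfl | rfl
  · exact h'
  · rcases h' with rfl | rfl | rfl | rfl
    · exact Or.inr (Or.inl rfl)
    · left; rw [F.msq]
    · right; right; right; rw [F.comm]
    · right; right; left; rw [← F.comm, F.msq]
  · rcases h' with rfl | rfl | rfl | rfl
    · exact Or.inr (Or.inr (Or.inl rfl))
    · exact Or.inr (Or.inr (Or.inr rfl))
    · left; rw [F.nsq]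
    · right; left; rw [F.nsq]
  · rcases h' with rfl | rfl | rfl | rfl
    · exact Or.inr (Or.inr (Or.inr rfl))
    · right; right; left; rw [F.msq]
    · right; left; rw [← F.comm, F.nsq]
    · left; rw [← F.comm, F.nsq, F.msq]

/-- the permutations preserving the 4-blocks and permuting the pairs -/
def FD (F : Fours M μ ν) : Subgroup (Equiv.Perm (Pt k m)) where
  carrier := {π | (∀ p, Cl μ ν p (π p)) ∧ ∀ p, π (μ p) = μ (π p)}
  mul_mem' := by
    rintro π ρ ⟨h1, h1'⟩ ⟨h2, h2'⟩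
    refine ⟨fun p => ?_, fun p => ?_⟩
    · exact Cl.trans F (h2 p) (h1 (ρ p))
    · rw [Equiv.Perm.mul_apply, Equiv.Perm.mul_apply, h2', h1']
  one_mem' := ⟨fun p => Or.inl rfl, fun p => rfl⟩
  inv_mem' := by
    rintro π ⟨h1, h1'⟩
    refine ⟨fun p => ?_, fun p => ?_⟩
    · have h3 : π (π⁻¹ p) = p := π.apply_symm_apply p
      have h2 := h1 (π⁻¹ p)
      rw [h3] at h2
      exact h2.symm F
    · rw [Equiv.Perm.inv_eq_iff_eq, h1', show π (π⁻¹ p) = p from π.apply_symm_apply p]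

theorem mem_FD {π : Equiv.Perm (Pt k m)} :
    π ∈ F.FD ↔ (∀ p, Cl μ ν p (π p)) ∧ ∀ p, π (μ p) = μ (π p) := Iff.rfl

theorem FA_sq {π : Equiv.Perm (Pt k m)} (h : π ∈ F.FA) : π * π = 1 := by
  ext1 p
  rw [Equiv.Perm.mul_apply]
  change π (π p) = p
  rcases h p with h1 | h1
  · rw [h1, h1]
  · rw [h1]
    rcases h (μ p) with h2 | h2
    · have h3 := π.injective (h1.trans h2.symm)
      rw [h2, ← h3]
    · rw [h2, F.msq]

theorem FA_comm_mu {π : Equiv.Perm (Pt k m)} (h : π ∈ F.FA) (p : Pt k m) : π (μ p) = μ (π p) := by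
  have h0 : π (π p) = p := by
    have := F.FA_sq h
    rw [← Equiv.Perm.mul_apply, this]
    rfl
  rcases h p with h1 | h1
  · rcases h (μ p) with h2 | h2
    · rw [h2, h1]
    · rw [F.msq] at h2
      have h3 := π.injective (h2.trans h1.symm)
      rw [h1, h3, h1]
  · rw [h1, F.msq]
    rw [h1] at h0
    exact h0

theorem FA_le_FD : F.FA ≤ F.FD := fun π h => ⟨fun p => by
  rcases h p with h1 | h1
  · exact Or.inl h1
  · exact Or.inr (Or.inl h1), F.FA_comm_mu h⟩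

theorem FA_isPGroup : IsPGroup 2 F.FA := fun π => ⟨1, by
  apply Subtype.ext
  change (π : Equiv.Perm (Pt k m)) ^ 2 ^ 1 = 1
  rw [pow_one, pow_two]
  exact F.FA_sq π.2⟩

/-- `π ∈ FD` which moves a pair -/
theorem FD_mov {π : Equiv.Perm (Pt k m)} (h : π ∈ F.FD) {p : Pt k m} (hp : p.2 ≠ 0)
    (h1 : ¬ (π p = p ∨ π p = μ p)) : (π p = ν p ∨ π p = μ (ν p)) ∧ (π (ν p) = p ∨ π (ν p) = μ p) := by
  have h2 : π p = ν p ∨ π p = μ (ν p) := by
    rcases h.1 p with h3 | h3 | h3 | h3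
    · exact absurd (Or.inl h3) h1
    · exact absurd (Or.inr h3) h1
    · exact Or.inl h3
    · exact Or.inr h3
  refine ⟨h2, ?_⟩
  have hn1 := F.nne p hp
  have hn2 := F.nmu p hp
  have h4 : Cl μ ν p (π (ν p)) := Cl.trans F (Or.inr (Or.inr (Or.inl rfl))) (h.1 (ν p))
  rcases h4 with h4 | h4 | h4 | h4
  · exact Or.inl h4
  · exact Or.inr h4
  · exfalso
    rcases h2 with h3 | h3
    · exact hn1 (π.injective (h4.trans h3.symm))
    · have h5 : π (μ p) = π (ν p) := by rw [h.2, h3, F.msq, h4]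
      exact hn2 (π.injective h5).symm
  · exfalso
    rcases h2 with h3 | h3
    · have h5 : π (μ p) = π (ν p) := by rw [h.2, h3, h4]
      exact hn2 (π.injective h5).symm
    · exact hn1 (π.injective (h4.trans h3.symm))

theorem FD_sq {π : Equiv.Perm (Pt k m)} (h : π ∈ F.FD) : π * π ∈ F.FA := by
  intro p
  rw [Equiv.Perm.mul_apply]
  by_cases h1 : π p = p ∨ π p = μ p
  · rcases h1 with h1 | h1
    · left; rw [h1, h1]
    · left; rw [h1, h.2, h1, F.msq]
  · by_cases hp : p.2 = 0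
    · exfalso
      apply h1
      left
      rcases h.1 p with h3 | h3 | h3 | h3
      · exact h3
      · rw [h3, F.mzero p hp]
      · rw [h3, F.nzero p hp]
      · rw [h3, F.nzero p hp, F.mzero p hp]
    · obtain ⟨h2, h3⟩ := F.FD_mov h hp h1
      rcases h2 with h2 | h2
      · rw [h2]; exact h3
      · rw [h2, h.2]
        rcases h3 with h3 | h3
        · right; rw [h3]
        · left; rw [h3, F.msq]

theorem FD_isPGroup : IsPGroup 2 F.FD := fun π => ⟨2, by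
  apply Subtype.ext
  change (π : Equiv.Perm (Pt k m)) ^ 2 ^ 2 = 1
  have h1 := F.FA_sq (F.FD_sq π.2)
  rw [show 2 ^ 2 = 2 + 2 by norm_num, pow_add, pow_two]
  exact h1⟩

theorem FA_fst {π : Equiv.Perm (Pt k m)} (h : π ∈ F.FA) (p : Pt k m) : (π p).1 = p.1 := by
  rcases h p with h1 | h1
  · rw [h1]
  · rw [h1, F.mfst]

theorem FD_fst {π : Equiv.Perm (Pt k m)} (h : π ∈ F.FD) (p : Pt k m) : (π p).1 = p.1 := by
  rcases h.1 p with h1 | h1 | h1 | h1
  · rw [h1]
  · rw [h1, F.mfst]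
  · rw [h1, F.nfst]
  · rw [h1, F.mfst, F.nfst]

end grp

section sylow

variable {S : Sylow 2 G} {M : SymK (S : Subgroup G) P V ⊥ k m} {μ ν : Equiv.Perm (Pt k m)}
  (h : Sit S P V M) (F : Fours M μ ν)

include F

theorem conj_FA {s : G} (hs : s ∈ (S : Subgroup G)) {π : Equiv.Perm (Pt k m)} (hπ : π ∈ F.FA) :
    pp M s * π * (pp M s)⁻¹ ∈ F.FA := by
  intro p
  rw [Equiv.Perm.mul_apply, Equiv.Perm.mul_apply]
  have h3 : pp M s ((pp M s)⁻¹ p) = p := (pp M s).apply_symm_apply p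
  rcases hπ ((pp M s)⁻¹ p) with h1 | h1
  · left; rw [h1, h3]
  · right; rw [h1, F.meqv s hs, h3]

theorem cl_eqv {s : G} (hs : s ∈ (S : Subgroup G)) {p q : Pt k m} (hpq : Cl μ ν p q) :
    Cl μ ν (pp M s p) (pp M s q) := by
  rcases hpq with rfl | rfl | rfl | rfl
  · exact Or.inl rfl
  · right; left; exact F.meqv s hs _
  · rcases F.neqv s hs p with h1 | h1
    · right; right; left; exact h1
    · right; right; right; exact h1
  · rw [F.meqv s hs]
    rcases F.neqv s hs p with h1 | h1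
    · right; right; right; rw [h1]
    · right; right; left; rw [h1, F.msq]

theorem conj_FD {s : G} (hs : s ∈ (S : Subgroup G)) {π : Equiv.Perm (Pt k m)} (hπ : π ∈ F.FD) :
    pp M s * π * (pp M s)⁻¹ ∈ F.FD := by
  have h3 : ∀ p, pp M s ((pp M s)⁻¹ p) = p := fun p => (pp M s).apply_symm_apply p
  refine ⟨fun p => ?_, fun p => ?_⟩
  · rw [Equiv.Perm.mul_apply, Equiv.Perm.mul_apply]
    have h1 := cl_eqv F hs (hπ.1 ((pp M s)⁻¹ p))
    rwa [h3] at h1
  · have h4 : (pp M s)⁻¹ (μ p) = μ ((pp M s)⁻¹ p) := by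
      rw [Equiv.Perm.inv_eq_iff_eq, F.meqv s hs, h3]
    rw [Equiv.Perm.mul_apply, Equiv.Perm.mul_apply, h4, hπ.2, F.meqv s hs]
    rfl

/-- the elements of `S` which preserve all pairs -/
def A (h : Sit S P V M) (F : Fours M μ ν) : Subgroup G where
  carrier := {s | s ∈ (S : Subgroup G) ∧ pp M s ∈ F.FA}
  mul_mem' := by
    rintro a b ⟨ha, h1⟩ ⟨hb, h2⟩
    exact ⟨mul_mem ha hb, by rw [h.mul (h.SP ha) (h.SP hb)]; exact mul_mem h1 h2⟩
  one_mem' := ⟨one_mem _, by rw [h.one]; exact one_mem _⟩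
  inv_mem' := by
    rintro a ⟨ha, h1⟩
    exact ⟨inv_mem ha, by rw [h.inv (h.SP ha)]; exact inv_mem h1⟩

/-- the elements of `S` which preserve all 4-blocks -/
def D (h : Sit S P V M) (F : Fours M μ ν) : Subgroup G where
  carrier := {s | s ∈ (S : Subgroup G) ∧ pp M s ∈ F.FD}
  mul_mem' := by
    rintro a b ⟨ha, h1⟩ ⟨hb, h2⟩
    exact ⟨mul_mem ha hb, by rw [h.mul (h.SP ha) (h.SP hb)]; exact mul_mem h1 h2⟩
  one_mem' := ⟨one_mem _, by rw [h.one]; exact one_mem _⟩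
  inv_mem' := by
    rintro a ⟨ha, h1⟩
    exact ⟨inv_mem ha, by rw [h.inv (h.SP ha)]; exact inv_mem h1⟩

omit F in
theorem mem_A {h : Sit S P V M} {F : Fours M μ ν} {s : G} :
    s ∈ A h F ↔ s ∈ (S : Subgroup G) ∧ pp M s ∈ F.FA := Iff.rfl

omit F in
theorem mem_D {h : Sit S P V M} {F : Fours M μ ν} {s : G} :
    s ∈ D h F ↔ s ∈ (S : Subgroup G) ∧ pp M s ∈ F.FD := Iff.rfl

omit F in
theorem A_le (h : Sit S P V M) (F : Fours M μ ν) : A h F ≤ (S : Subgroup G) := fun _ hs => hs.1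

omit F in
theorem D_le (h : Sit S P V M) (F : Fours M μ ν) : D h F ≤ (S : Subgroup G) := fun _ hs => hs.1

omit F in
theorem A_le_D (h : Sit S P V M) (F : Fours M μ ν) : A h F ≤ D h F := fun _ hs => ⟨hs.1, F.FA_le_FD hs.2⟩

omit F in
theorem Q_le_A (h : Sit S P V M) (F : Fours M μ ν) : o2 P ≤ A h F := fun s hs =>
  ⟨h.QS hs, by rw [(h.mem_Q_iff (h.QS hs)).1 hs]; exact one_mem _⟩

variable [Finite G]

omit F in
theorem S_le_normalizer_A (h : Sit S P V M) (F : Fours M μ ν) :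
    (S : Subgroup G) ≤ normalizer (A h F : Set G) := by
  intro s hs
  refine MinSimple.VModule.mem_normalizer_of_map_le ?_
  rintro _ ⟨a, ha, rfl⟩
  change s * a * s⁻¹ ∈ A h F
  refine ⟨mul_mem (mul_mem hs ha.1) (inv_mem hs), ?_⟩
  rw [h.conj (h.SP hs) (h.SP ha.1)]
  exact conj_FA F hs ha.2

omit F in
theorem S_le_normalizer_D (h : Sit S P V M) (F : Fours M μ ν) :
    (S : Subgroup G) ≤ normalizer (D h F : Set G) := by
  intro s hs
  refine MinSimple.VModule.mem_normalizer_of_map_le ?_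
  rintro _ ⟨a, ha, rfl⟩
  change s * a * s⁻¹ ∈ D h F
  refine ⟨mul_mem (mul_mem hs ha.1) (inv_mem hs), ?_⟩
  rw [h.conj (h.SP hs) (h.SP ha.1)]
  exact conj_FD F hs ha.2

include h

/-- all of `FA` is induced by `A` -/
theorem exists_A {π : Equiv.Perm (Pt k m)} (hπ : π ∈ F.FA) : ∃ s ∈ A h F, pp M s = π := by
  obtain ⟨s, hs, h1⟩ := h.induced F.FA_isPGroup (fun δ hδ p => F.FA_fst hδ p)
    (fun s hs δ hδ => conj_FA F hs hδ) hπ
  exact ⟨s, ⟨hs, by rw [h1]; exact hπ⟩, h1⟩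

/-- all of `FD` is induced by `D` -/
theorem exists_D {π : Equiv.Perm (Pt k m)} (hπ : π ∈ F.FD) : ∃ s ∈ D h F, pp M s = π := by
  obtain ⟨s, hs, h1⟩ := h.induced F.FD_isPGroup (fun δ hδ p => F.FD_fst hδ p)
    (fun s hs δ hδ => conj_FD F hs hδ) hπ
  exact ⟨s, ⟨hs, by rw [h1]; exact hπ⟩, h1⟩

end sylow

end Fours

end Cfsg.Agent.Omega.IId.SymWrD

end

section


/-!
# II.d, `SwBig`, `SwCv` (copy of `SymWr/Pr.lean` for `D` arbitrary): the duads (THEOREM L, bb OMEGA #17498)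

* `pr M p q` : the element of `V` with support `{p, q}` (`p`, `q` in the same summand); `conj_pr`;
* `comm_iff` : `g ∈ P` commutes with `v ∈ V` iff the support of `v` is invariant;
* `exists_cyc` : 3-cycles.
-/

set_option autoImplicit false

namespace Cfsg.Agent.Omega.IId.SymWrD

open Cfsg.Agent.Omega.IId.SymWr
open Subgroup Pointwise Cfsg Cfsg.Agent.ZN Cfsg.Agent.Omega.MinPar Cfsg.Agent.Omega.FFThm
open Cfsg.Agent.Omega.Half (Amb amb_of_loc)
open Cfsg.Agent.Omega.Half.SymA (Pt E Mv pm)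

universe u

variable {G : Type u} [Group G] {P V : Subgroup G} {k m : ℕ}

open scoped Classical in
/-- the duad `{p, q}` -/
noncomputable def pr {S : Subgroup G} (M : SymK S P V ⊥ k m) (p q : Pt k m) : G :=
  if h : p.1 = q.1 then (Half.SymA.exists_pair M h).choose else 1

section pr

variable {S : Subgroup G} (M : SymK S P V ⊥ k m)

theorem pr_mem (p q : Pt k m) : pr M p q ∈ V := by
  unfold pr
  split_ifs with h
  · exact (Half.SymA.exists_pair M h).choose_spec.1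
  · exact one_mem V

open scoped Classical in
theorem E_pr {p q : Pt k m} (h : p.1 = q.1) (r : Pt k m) :
    E M (pr M p q) r = (if r = p then 1 else 0) + (if r = q then 1 else 0) := by
  unfold pr
  rw [dif_pos h]
  exact (Half.SymA.exists_pair M h).choose_spec.2 r

theorem E_pr_left {p q : Pt k m} (h : p.1 = q.1) (hne : p ≠ q) : E M (pr M p q) p = 1 := by
  rw [E_pr M h, if_pos rfl, if_neg hne, add_zero]

theorem E_pr_right {p q : Pt k m} (h : p.1 = q.1) (hne : p ≠ q) : E M (pr M p q) q = 1 := by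
  rw [E_pr M h, if_pos rfl, if_neg hne.symm, zero_add]

theorem E_pr_of_ne {p q r : Pt k m} (h : p.1 = q.1) (h1 : r ≠ p) (h2 : r ≠ q) : E M (pr M p q) r = 0 := by
  rw [E_pr M h, if_neg h1, if_neg h2, add_zero]

theorem pr_comm {p q : Pt k m} (h : p.1 = q.1) : pr M p q = pr M q p :=
  Half.SymA.inj M (pr_mem M _ _) (pr_mem M _ _) fun r => by rw [E_pr M h, E_pr M h.symm, add_comm]

theorem pr_mul {p q r : Pt k m} (h : p.1 = q.1) (h' : q.1 = r.1) : pr M p q * pr M q r = pr M p r := by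
  refine Half.SymA.inj M (mul_mem (pr_mem M _ _) (pr_mem M _ _)) (pr_mem M _ _) fun s => ?_
  rw [Half.SymA.E_mul M (pr_mem M _ _) (pr_mem M _ _), E_pr M h, E_pr M h', E_pr M (h.trans h')]
  have : ∀ a b c : ZMod 2, a + b + (b + c) = a + c := by decide
  exact this _ _ _

end pr

namespace Sit

variable {S : Sylow 2 G} {M : SymK (S : Subgroup G) P V ⊥ k m} (h : Sit S P V M)

include h

theorem Vcomm {a b : G} (ha : a ∈ V) (hb : b ∈ V) : a * b = b * a := h.amb.comm a ha b hb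

theorem Vsq {a : G} (ha : a ∈ V) : a * a = 1 := by rw [← pow_two]; exact h.amb.sq a ha

theorem conj_pr {g : G} (hg : g ∈ P) {p q : Pt k m} (hpq : p.1 = q.1) :
    g * pr M p q * g⁻¹ = pr M (pp M g p) (pp M g q) := by
  refine Half.SymA.inj M (h.amb.conj_mem hg (pr_mem M _ _)) (pr_mem M _ _) fun r => ?_
  rw [E_conj' hg (pr_mem M _ _), E_pr M hpq, E_pr M (h.fst hg hpq)]
  simp only [Equiv.Perm.inv_eq_iff_eq]

/-- `g ∈ P` commutes with `v ∈ V` iff it preserves the support -/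
theorem comm_iff {g : G} (hg : g ∈ P) {v : G} (hv : v ∈ V) :
    g * v = v * g ↔ ∀ p, E M v (pp M g p) = E M v p := by
  constructor
  · intro h1 p
    have h2 := E_conj (M := M) hg hv p
    rwa [h1, mul_inv_cancel_right] at h2
  · intro h1
    have h2 : g * v * g⁻¹ = v := by
      refine Half.SymA.inj M (h.amb.conj_mem hg hv) hv fun r => ?_
      have h3 := h1 ((pp M g)⁻¹ r)
      rw [E_conj' hg hv, ← h3]
      congr 1
      exact (pp M g).apply_symm_apply r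
    rwa [mul_inv_eq_iff_eq_mul] at h2

/-- `g` commutes with a duad it preserves -/
theorem comm_pr {g : G} (hg : g ∈ P) {p q : Pt k m} (hpq : p.1 = q.1)
    (h1 : (pp M g p = p ∧ pp M g q = q) ∨ (pp M g p = q ∧ pp M g q = p)) :
    g * pr M p q = pr M p q * g := by
  have h2 := h.conj_pr hg hpq
  have h3 : g * pr M p q * g⁻¹ = pr M p q := by
    rcases h1 with h1 | h1
    · rw [h2, h1.1, h1.2]
    · rw [h2, h1.1, h1.2, pr_comm M hpq]
  rwa [mul_inv_eq_iff_eq_mul] at h3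

/-- an element inducing the 3-cycle `(a b c)` of one summand -/
theorem exists_cyc {a b c : Pt k m} (hab : a.1 = b.1) (hbc : b.1 = c.1) (h1 : a ≠ b) (h2 : b ≠ c) (h3 : a ≠ c) :
    ∃ g ∈ P, pp M g a = b ∧ pp M g b = c ∧ pp M g c = a ∧ ∀ r, r ≠ a → r ≠ b → r ≠ c → pp M g r = r := by
  classical
  obtain ⟨g, hg, h4⟩ := h.exists_pp (π := Equiv.swap a b * Equiv.swap b c) (by
    intro r
    rw [Equiv.Perm.mul_apply]
    have key : ∀ x y : Pt k m, x.1 = y.1 → ∀ r, (Equiv.swap x y r).1 = r.1 := by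
      intro x y hxy r
      rcases eq_or_ne r x with rfl | hx
      · rw [Equiv.swap_apply_left, hxy]
      · rcases eq_or_ne r y with rfl | hy
        · rw [Equiv.swap_apply_right, hxy]
        · rw [Equiv.swap_apply_of_ne_of_ne hx hy]
    rw [key a b hab, key b c hbc])
  refine ⟨g, hg, ?_, ?_, ?_, ?_⟩
  · rw [h4, Equiv.Perm.mul_apply, Equiv.swap_apply_of_ne_of_ne h1 h3, Equiv.swap_apply_left]
  · rw [h4, Equiv.Perm.mul_apply, Equiv.swap_apply_left, Equiv.swap_apply_of_ne_of_ne h3.symm h2.symm]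
  · rw [h4, Equiv.Perm.mul_apply, Equiv.swap_apply_right, Equiv.swap_apply_right]
  · intro r ha hb hc
    rw [h4, Equiv.Perm.mul_apply, Equiv.swap_apply_of_ne_of_ne hb hc, Equiv.swap_apply_of_ne_of_ne ha hb]

/-! ### `Ω₁(Z(O₂(P)))` -/

omit h in
theorem zz_comm {y y' : G} (hy : y ∈ zc (o2 P)) (hy' : y' ∈ zc (o2 P)) : y * y' = y' * y :=
  MinSimple.VModule.zc_comm (o2 P) y hy y' hy'

omit h in
theorem zz_sq {y : G} (hy : y ∈ zc (o2 P)) : y * y = 1 := by
  rw [← pow_two]; exact MinSimple.VModule.zc_sq _ y hy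

omit h in
theorem zz_conj {g y : G} (hg : g ∈ P) (hy : y ∈ zc (o2 P)) : g * y * g⁻¹ ∈ zc (o2 P) :=
  (mem_normalizer_iff.1 (((MinSimple.VModule.le_normalizer_o2 P).trans
    (MinSimple.VModule.normalizer_le_normalizer_zc _)) hg) y).1 hy

/-- the action on `Ω₁(Z(O₂(P)))` only depends on the permutation of the points -/
theorem zz_eq {g g' : G} (hg : g ∈ P) (hg' : g' ∈ P) (hgg : pp M g = pp M g') {y : G} (hy : y ∈ zc (o2 P)) :
    g * y * g⁻¹ = g' * y * g'⁻¹ := by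
  have h1 : g'⁻¹ * g ∈ P ⊓ centralizer (V : Set G) :=
    mem_inf.2 ⟨P.mul_mem (P.inv_mem hg') hg, (pp_eq_iff h.amb h.hm1 hg' hg).1 hgg.symm⟩
  have h2 := mem_centralizer_iff.1 (h.cZ h1) y hy
  calc g * y * g⁻¹ = g' * (g'⁻¹ * g * y) * g⁻¹ := by group
    _ = g' * (y * (g'⁻¹ * g)) * g⁻¹ := by rw [h2]
    _ = g' * y * g'⁻¹ := by group

end Sit

end Cfsg.Agent.Omega.IId.SymWrD

end

section


/-!
# II.d, `SwBig`, `SwCv` (copy of `SymWr/LThm.lean` for `D` arbitrary): THEOREM L, the last step (bb OMEGA #17498, (1)-(4))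

`L_of` : from the conclusions of (T) (`hT1`, `hT2`) and (HH) (`hHH`): `O₂(C_G(n)) ≤ P` for the duad `n = {x, μ x}`,
`m ≥ 3`.
-/

set_option autoImplicit false

namespace Cfsg.Agent.Omega.IId.SymWrD

open Cfsg.Agent.Omega.IId.SymWr
open Subgroup Pointwise Cfsg Cfsg.Agent.ZN Cfsg.Agent.Omega.MinPar Cfsg.Agent.Omega.FFThm
open Cfsg.Agent.Omega.Half (Amb amb_of_loc)
open Cfsg.Agent.Omega.Half.SymA (Pt E Mv pm)
open Cfsg.Agent.MinSimple.VModule (mem_zc zc_le zc_comm zc_sq zc_le_zl le_normalizer_o2 o2_isPGroup o2_le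
  normalizer_le_normalizer_zc le_normalizer_zl)

universe u

variable {G : Type u} [Group G] {P V : Subgroup G} {k m : ℕ}

theorem mem_sup_norm {A B : Subgroup G} (h : A ≤ normalizer (B : Set G)) {x : G} (hx : x ∈ A ⊔ B) :
    ∃ a ∈ A, ∃ b ∈ B, a * b = x := by
  have h1 : x ∈ ((A ⊔ B : Subgroup G) : Set G) := hx
  rw [coe_mul_of_left_le_normalizer_right A B h] at h1
  exact Set.mem_mul.mp h1

theorem exists_pt (hm : 3 ≤ m) (l : Fin k) (s : Finset (Pt k m)) (hs : s.card ≤ 8) : ∃ p : Pt k m, p.1 = l ∧ p ∉ s := by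
  classical
  by_contra h0
  push Not at h0
  have h1 : (Finset.univ.image fun y : Fin (2 ^ m + 1) => ((l, y) : Pt k m)) ⊆ s := by
    intro p hp
    obtain ⟨y, -, rfl⟩ := Finset.mem_image.1 hp
    exact h0 _ rfl
  have h2 := Finset.card_le_card h1
  rw [Finset.card_image_of_injective _ (fun a b hab => (Prod.ext_iff.1 hab).2), Finset.card_univ,
    Fintype.card_fin] at h2
  have h3 : 2 ^ 3 ≤ 2 ^ m := Nat.pow_le_pow_right (by norm_num) hm
  omega

/-- an element of `V` with support in one summand which is fixed by `Sym` of this summand is `1` -/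
theorem Sit.eq_one_of_fixed {S : Sylow 2 G} {M : SymK (S : Subgroup G) P V ⊥ k m} (h : Sit S P V M) {l : Fin k}
    {v : G} (hv : v ∈ V) (h1 : ∀ p : Pt k m, p.1 ≠ l → E M v p = 0)
    (h2 : ∀ g ∈ P, (∀ p : Pt k m, p.1 ≠ l → pp M g p = p) → g * v = v * g) : v = 1 := by
  classical
  -- constant on the summand
  have h3 : ∀ p q : Pt k m, p.1 = l → q.1 = l → E M v p = E M v q := by
    intro p q hp hq
    obtain ⟨g, hg, h4⟩ := h.exists_pp (π := Equiv.swap p q) (by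
      intro r
      rcases eq_or_ne r p with rfl | hr
      · rw [Equiv.swap_apply_left, hq, hp]
      · rcases eq_or_ne r q with rfl | hr'
        · rw [Equiv.swap_apply_right, hq, hp]
        · rw [Equiv.swap_apply_of_ne_of_ne hr hr'])
    have h5 := (h.comm_iff hg hv).1 (h2 g hg fun r hr => by
      rw [h4, Equiv.swap_apply_of_ne_of_ne]
      · rintro rfl; exact hr hp
      · rintro rfl; exact hr hq) q
    rw [h4, Equiv.swap_apply_right] at h5
    exact h5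
  refine Half.SymA.eq_one M hv fun p => ?_
  by_cases hp : p.1 = l
  · have h4 := Half.SymA.even M hv l
    rw [Finset.sum_congr rfl fun x _ => h3 (l, x) p rfl hp, Finset.sum_const, Finset.card_univ, Fintype.card_fin,
      nsmul_eq_mul] at h4
    have h5 : ((2 ^ m + 1 : ℕ) : ZMod 2) = 1 := by
      have h6 : ((2 ^ m : ℕ) : ZMod 2) = 0 := by
        rw [ZMod.natCast_eq_zero_iff]
        exact dvd_pow_self 2 (by have := h.hm; omega)
      rw [Nat.cast_add, h6, zero_add, Nat.cast_one]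
    rwa [h5, one_mul] at h4
  · exact h1 p hp

section main

variable [Finite G] {S : Sylow 2 G} {M : SymK (S : Subgroup G) P V ⊥ k m} {μ ν : Equiv.Perm (Pt k m)}

/-- the conclusion of (HH) for the summand `l` -/
def HH (h : Sit S P V M) (F : Fours M μ ν) (l : Fin k) : Prop :=
  ∀ y ∈ zc (o2 P), (∀ t ∈ Fours.A h F, t * y = y * t) →
    (∀ s ∈ (S : Subgroup G), (∀ p : Pt k m, p.1 = l → pp M s p = p) → s * y = y * s) →
    ∃ v ∈ V, ∃ φ ∈ zc (o2 P), (∀ p : Pt k m, p.1 ≠ l → E M v p = 0) ∧ E M v (l, 0) = 0 ∧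
      (∀ p, E M v (μ p) = E M v p) ∧
      (∀ g ∈ P, (∀ p : Pt k m, p.1 ≠ l → pp M g p = p) → g * φ = φ * g) ∧ y = v * φ

/-- the conclusion of (T) for the duad `{x, μ x}` -/
def TT (h : Sit S P V M) (F : Fours M μ ν) (x : Pt k m) : Prop :=
  (∀ g ∈ o2 (centralizer ({pr M x (μ x)} : Set G)), ∀ a b : Pt k m, a.1 = x.1 → b.1 = x.1 → a ≠ b → a ≠ x →
    a ≠ μ x → b ≠ x → b ≠ μ x → g * pr M a b = pr M a b * g → g ∈ Fours.A h F) ∧
  ∀ g ∈ o2 (centralizer ({pr M x (μ x)} : Set G)), g ∈ P → pp M g = 1 ∨ pp M g = Equiv.swap x (μ x)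

/-- **THEOREM L** from (T) and (HH). -/
theorem L_of (h : Sit S P V M) (F : Fours M μ ν) (hm : 3 ≤ m) {x : Pt k m} (hx : x.2 ≠ 0) (hT : TT h F x)
    (hHH : HH h F x.1) : o2 (centralizer ({pr M x (μ x)} : Set G)) ≤ P := by
  classical
  set n := pr M x (μ x) with hn
  set C := centralizer ({n} : Set G) with hC
  set W := o2 C with hW
  obtain ⟨hT1, hT2⟩ := hT
  have hmf := F.mfst
  have hnf := F.nfst
  have hmx : (μ x).2 ≠ 0 := fun h0 => hx (F.mnz.1 h0)
  have hνx : (ν x).2 ≠ 0 := fun h0 => hx (F.nnz.1 h0)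
  have hμνx : (μ (ν x)).2 ≠ 0 := fun h0 => hνx (F.mnz.1 h0)
  have hnV : n ∈ V := pr_mem M _ _
  have hmemC : ∀ g, g ∈ C ↔ g * n = n * g := by
    intro g
    rw [hC, mem_centralizer_singleton_iff]
  have hVQ : V ≤ o2 P := h.VZ.trans (zc_le _)
  have hVcQ : ∀ q ∈ o2 P, ∀ v ∈ V, q * v = v * q := fun q hq v hv => (mem_zc.1 (h.VZ hv)).2.1 q hq
  have hWC : W ≤ C := o2_le C
  have hCW : C ≤ normalizer (W : Set G) := le_normalizer_o2 C
  have hW2 : IsPGroup 2 W := o2_isPGroup C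
  -- elements of `A` and of `S_(l)` centralise `n`
  have hAcomm : ∀ t ∈ Fours.A h F, ∀ y : Pt k m, t * pr M y (μ y) = pr M y (μ y) * t := by
    intro t ht y
    refine h.comm_pr (h.SP ht.1) (hmf y).symm ?_
    have h1 := F.FA_comm_mu ht.2 y
    rcases ht.2 y with h2 | h2
    · left; exact ⟨h2, by rw [h1, h2]⟩
    · right; exact ⟨h2, by rw [h1, h2, F.msq]⟩
  have hAC : Fours.A h F ≤ C := fun t ht => (hmemC t).2 (hAcomm t ht x)
  have hScomm : ∀ s ∈ (S : Subgroup G), (∀ p : Pt k m, p.1 = x.1 → pp M s p = p) → ∀ y : Pt k m, y.1 = x.1 →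
      s * pr M y (μ y) = pr M y (μ y) * s := by
    intro s hs h1 y hy
    exact h.comm_pr (h.SP hs) (hmf y).symm (Or.inl ⟨h1 y hy, h1 _ ((hmf y).trans hy)⟩)
  -- `X₀`
  set X := W ⊓ P with hX
  have hXd : ∀ g ∈ X, ∀ a b : Pt k m, a.1 = b.1 → a ≠ x → a ≠ μ x → b ≠ x → b ≠ μ x →
      g * pr M a b = pr M a b * g := by
    intro g hg a b hab h1 h2 h3 h4
    refine h.comm_pr hg.2 hab (Or.inl ?_)
    rcases hT2 g hg.1 hg.2 with h5 | h5
    · rw [h5]; exact ⟨rfl, rfl⟩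
    · rw [h5, Equiv.swap_apply_of_ne_of_ne h1 h2, Equiv.swap_apply_of_ne_of_ne h3 h4]; exact ⟨rfl, rfl⟩
  have d1 : ν x ≠ x := F.nne x hx
  have d2 : ν x ≠ μ x := F.nmu x hx
  have d3 : μ (ν x) ≠ x := by
    intro h0
    have h1 := congrArg μ h0
    rw [F.msq] at h1
    exact d2 h1
  have d4 : μ (ν x) ≠ μ x := fun h0 => d1 (μ.injective h0)
  have d5 : ν x ≠ μ (ν x) := (F.mne _ hνx).symm
  have hXA : X ≤ Fours.A h F := by
    intro g hg
    refine hT1 g hg.1 (ν x) (μ (ν x)) (hnf x) ((hmf _).trans (hnf x)) d5 d1 d2 d3 d4 ?_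
    exact hXd g hg _ _ (hmf _).symm d1 d2 d3 d4
  have hAX : ∀ g ∈ W, g ∈ Fours.A h F → g ∈ X := fun g hg hgA => ⟨hg, h.SP hgA.1⟩
  -- `Q⁺`
  set Q := o2 P ⊔ X with hQ
  have hQA : Q ≤ Fours.A h F := sup_le (Fours.Q_le_A h F) hXA
  have hQC : Q ≤ C := hQA.trans hAC
  have hQ2 : IsPGroup 2 Q := S.isPGroup'.to_le (hQA.trans (Fours.A_le h F))
  have hPX : C ⊓ P ≤ normalizer (X : Set G) := by
    intro g hg
    refine MinSimple.VModule.mem_normalizer_of_map_le ?_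
    rintro _ ⟨a, ha, rfl⟩
    change g * a * g⁻¹ ∈ X
    exact ⟨(mem_normalizer_iff.1 (hCW hg.1) a).1 ha.1, P.mul_mem (P.mul_mem hg.2 ha.2) (P.inv_mem hg.2)⟩
  have hPQ : C ⊓ P ≤ normalizer (Q : Set G) := by
    intro g hg
    refine MinSimple.VModule.mem_normalizer_of_map_le ?_
    rw [hQ, Subgroup.map_sup]
    apply sup_le_sup
    · rintro _ ⟨a, ha, rfl⟩
      exact (mem_normalizer_iff.1 (le_normalizer_o2 P hg.2) a).1 ha
    · rintro _ ⟨a, ha, rfl⟩
      exact (mem_normalizer_iff.1 (hPX hg) a).1 ha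
  have hWQ : ∀ g ∈ W, g ∈ Q → g ∈ X := fun g hg hgQ => hAX g hg (hQA hgQ)
  by_contra hWP
  -- `b₀ ∈ W` normalising `Q⁺`, not in `P`
  have hnot1 : ¬ W ⊓ normalizer (Q : Set G) ≤ P := by
    intro h0
    have hlt : Q < Q ⊔ W := by
      refine lt_of_le_of_ne le_sup_left fun h1 => hWP ?_
      have h2 : W ≤ Q := by rw [h1]; exact le_sup_right
      exact h2.trans (hQA.trans ((Fours.A_le h F).trans h.SP))
    have h2 : IsPGroup 2 (Q ⊔ W : Subgroup G) := hQ2.to_sup_of_normal_right' hW2 (hQC.trans hCW)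
    obtain ⟨s, hs, hsn, hsQ, -⟩ := MinSimple.Choice97.exists_normalizing h2 hlt
    obtain ⟨q, hq, w, hw, rfl⟩ := mem_sup_norm (hQC.trans hCW) hs
    have hwn : w ∈ normalizer (Q : Set G) := by
      have h3 := (normalizer (Q : Set G)).mul_mem ((normalizer (Q : Set G)).inv_mem (le_normalizer hq)) hsn
      rwa [inv_mul_cancel_left] at h3
    exact hsQ (mul_mem hq (mem_sup_right ⟨hw, h0 ⟨hw, hwn⟩⟩))
  -- `T_n`
  set W1 := W ⊓ normalizer (Q : Set G) with hW1
  set T := (S : Subgroup G) ⊓ C with hT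
  have hTP : T ≤ C ⊓ P := fun t ht => ⟨ht.2, h.SP ht.1⟩
  have hT2' : IsPGroup 2 T := S.isPGroup'.to_le inf_le_left
  have hTW1 : T ≤ normalizer (W1 : Set G) := by
    intro t ht
    refine MinSimple.VModule.mem_normalizer_of_map_le ?_
    rintro _ ⟨a, ha, rfl⟩
    change t * a * t⁻¹ ∈ W1
    have h1 := hPQ (hTP ht)
    exact ⟨(mem_normalizer_iff.1 (hCW ht.2) a).1 ha.1,
      (normalizer (Q : Set G)).mul_mem ((normalizer (Q : Set G)).mul_mem h1 ha.2)
        ((normalizer (Q : Set G)).inv_mem h1)⟩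
  have hXT : X ≤ T := fun g hg => ⟨(hXA hg).1, hWC hg.1⟩
  obtain ⟨b, hbW, hbQ, hbT, hbP⟩ : ∃ b ∈ W, b ∈ normalizer (Q : Set G) ∧ b ∈ normalizer (T : Set G) ∧ b ∉ P := by
    have hlt : T < T ⊔ W1 := by
      refine lt_of_le_of_ne le_sup_left fun h1 => hnot1 ?_
      have h2 : W1 ≤ T := by rw [h1]; exact le_sup_right
      exact h2.trans (inf_le_left.trans h.SP)
    have h2 : IsPGroup 2 (T ⊔ W1 : Subgroup G) := hT2'.to_sup_of_normal_right' (hW2.to_le inf_le_left) hTW1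
    obtain ⟨s, hs, hsn, hsT, -⟩ := MinSimple.Choice97.exists_normalizing h2 hlt
    obtain ⟨t, ht, b, hb, rfl⟩ := mem_sup_norm hTW1 hs
    have hbn : b ∈ normalizer (T : Set G) := by
      have h3 := (normalizer (T : Set G)).mul_mem ((normalizer (T : Set G)).inv_mem (le_normalizer ht)) hsn
      rwa [inv_mul_cancel_left] at h3
    exact ⟨b, hb.1, hb.2, hbn, fun h0 => hsT (mul_mem ht (hXT ⟨hb.1, h0⟩))⟩
  have hbX : ∀ t ∈ T, t * b * t⁻¹ * b⁻¹ ∈ X := by
    intro t ht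
    have h1 : t * b * t⁻¹ * b⁻¹ ∈ W :=
      W.mul_mem ((mem_normalizer_iff.1 (hCW ht.2) b).1 hbW) (W.inv_mem hbW)
    have h2 : t * b * t⁻¹ * b⁻¹ ∈ T := by
      have h3 := (mem_normalizer_iff.1 hbT t⁻¹).1 (T.inv_mem ht)
      have h4 : t * b * t⁻¹ * b⁻¹ = t * (b * t⁻¹ * b⁻¹) := by group
      rw [h4]
      exact T.mul_mem ht h3
    exact ⟨h1, (hTP h2).2⟩
  -- `Z⁺`
  set Z := zc Q with hZ
  have hZZ : ∀ y ∈ Z, y ∈ zc (o2 P) := by
    intro y hy
    obtain ⟨h1, h2, h3⟩ := mem_zc.1 hy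
    have h4 : y ∈ o2 P := h.cQ (mem_centralizer_iff.2 fun q hq => h2 q (mem_sup_left hq))
    exact mem_zc.2 ⟨h4, fun q hq => h2 q (mem_sup_left hq), h3⟩
  have hbZ : ∀ y ∈ Z, b * y * b⁻¹ ∈ Z := fun y hy =>
    (mem_normalizer_iff.1 (normalizer_le_normalizer_zc _ hbQ) y).1 hy
  have hXZ : ∀ g ∈ X, ∀ y ∈ Z, g * y = y * g := fun g hg y hy => (mem_zc.1 hy).2.1 g (mem_sup_right hg)
  have hPZ : ∀ g ∈ C, g ∈ P → ∀ y ∈ Z, g * y * g⁻¹ ∈ Z := fun g hg hgP y hy =>
    (mem_normalizer_iff.1 (normalizer_le_normalizer_zc _ (hPQ ⟨hg, hgP⟩)) y).1 hy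
  have hdZ : ∀ a c : Pt k m, a.1 = c.1 → a ≠ x → a ≠ μ x → c ≠ x → c ≠ μ x → pr M a c ∈ Z := by
    intro a c hac h1 h2 h3 h4
    refine mem_zc.2 ⟨mem_sup_left (hVQ (pr_mem M _ _)), ?_, by rw [pow_two]; exact h.Vsq (pr_mem M _ _)⟩
    have h5 : Q ≤ centralizer ({pr M a c} : Set G) := by
      refine sup_le (fun q hq => mem_centralizer_singleton_iff.2 (hVcQ q hq _ (pr_mem M _ _))) fun q hq => ?_
      exact mem_centralizer_singleton_iff.2 (hXd q hq a c hac h1 h2 h3 h4)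
    intro q hq
    exact mem_centralizer_singleton_iff.1 (h5 hq)
  -- conjugates under `b` of the fixed points of `t ∈ T`
  have hfix : ∀ y ∈ Z, ∀ t ∈ T, t * y = y * t → t * (b * y * b⁻¹) = b * y * b⁻¹ * t := by
    intro y hy t ht hty
    have h1 := hXZ _ (hbX t ht) _ (hbZ y hy)
    have h2 : t * y * t⁻¹ = y := by rw [hty, mul_inv_cancel_right]
    calc t * (b * y * b⁻¹) = (t * b * t⁻¹ * b⁻¹) * (b * (t * y * t⁻¹) * b⁻¹) * (b * t * b⁻¹) := by group
      _ = (t * b * t⁻¹ * b⁻¹) * (b * y * b⁻¹) * (b * t * b⁻¹) := by rw [h2]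
      _ = (b * y * b⁻¹) * (t * b * t⁻¹ * b⁻¹) * (b * t * b⁻¹) := by rw [h1]
      _ = b * y * b⁻¹ * t := by group
  -- `p^b`
  set q0 := pr M (ν x) (μ (ν x)) with hq0
  have hq0Z : q0 ∈ Z := hdZ _ _ (hmf _).symm d1 d2 d3 d4
  have hTq0 : ∀ t ∈ T, t * q0 = q0 * t := by
    intro t ht
    have htP := h.SP ht.1
    refine h.comm_pr htP (hmf _).symm ?_
    have h1 : E M n (pp M t x) = 1 := by
      rw [(h.comm_iff htP hnV).1 ((hmemC t).1 ht.2) x]
      exact E_pr_left M (hmf x).symm (F.mne x hx).symm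
    have h2 : pp M t x = x ∨ pp M t x = μ x := by
      by_contra h0
      push Not at h0
      rw [E_pr_of_ne M (hmf x).symm h0.1 h0.2] at h1
      exact zero_ne_one h1
    have h3 : pp M t (μ (ν x)) = μ (pp M t (ν x)) := F.meqv t ht.1 _
    have h4 : pp M t (ν x) = ν x ∨ pp M t (ν x) = μ (ν x) := by
      rcases h2 with h2 | h2
      · rcases F.neqv t ht.1 x with h5 | h5
        · left; rw [h5, h2]
        · right; rw [h5, h2]
      · rcases F.neqv t ht.1 x with h5 | h5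
        · right; rw [h5, h2, F.comm]
        · left; rw [h5, h2, ← F.comm, F.msq]
    rcases h4 with h4 | h4
    · left; exact ⟨h4, by rw [h3, h4]⟩
    · right; exact ⟨h4, by rw [h3, h4, F.msq]⟩
  have hAT : Fours.A h F ≤ T := fun t ht => ⟨ht.1, hAC ht⟩
  have hST : ∀ s ∈ (S : Subgroup G), (∀ p : Pt k m, p.1 = x.1 → pp M s p = p) → s ∈ T := fun s hs h1 =>
    ⟨hs, (hmemC s).2 (hScomm s hs h1 x rfl)⟩
  obtain ⟨v, hvV, φ, hφZ, hv1, hv0, hvμ, hφ, hvφ⟩ := hHH (b * q0 * b⁻¹) (hZZ _ (hbZ _ hq0Z))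
    (fun t ht => hfix _ hq0Z t (hAT ht) (hTq0 t (hAT ht)))
    (fun s hs h1 => hfix _ hq0Z s (hST s hs h1) (hTq0 s (hST s hs h1)))
  -- `b` normalises `X`
  have hbXn : ∀ g ∈ X, b * g * b⁻¹ ∈ X := by
    intro g hg
    exact hWQ _ (W.mul_mem (W.mul_mem hbW hg.1) (W.inv_mem hbW))
      ((mem_normalizer_iff.1 hbQ g).1 (mem_sup_right hg))
  -- (2) elements of `P` which commute with `n`, `p`, `p^b` commute with `b` on `Z⁺`
  have hcom : ∀ g ∈ P, g * n = n * g → g * q0 = q0 * g → g * (b * q0 * b⁻¹) = b * q0 * b⁻¹ * g →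
      ∀ y ∈ Z, g * (b * y * b⁻¹) * g⁻¹ = b * (g * y * g⁻¹) * b⁻¹ := by
    intro g hgP hgn hg0 hgb y hy
    have hgC : g ∈ C := (hmemC g).2 hgn
    set w := g * b * g⁻¹ * b⁻¹ with hw
    have hwW : w ∈ W := W.mul_mem ((mem_normalizer_iff.1 (hCW hgC) b).1 hbW) (W.inv_mem hbW)
    have h1 : b⁻¹ * w * b ∈ X := by
      refine hAX _ (W.mul_mem (W.mul_mem (W.inv_mem hbW) hwW) hbW) ?_
      refine hT1 _ (W.mul_mem (W.mul_mem (W.inv_mem hbW) hwW) hbW) (ν x) (μ (ν x)) (hnf x)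
        ((hmf _).trans (hnf x)) d5 d1 d2 d3 d4 ?_
      change b⁻¹ * w * b * q0 = q0 * (b⁻¹ * w * b)
      have e1 : g⁻¹ * q0 * g = q0 := by
        rw [mul_assoc, ← hg0, inv_mul_cancel_left]
      have e2 : b⁻¹ * w * b = b⁻¹ * g * b * g⁻¹ := by rw [hw]; group
      rw [e2]
      calc b⁻¹ * g * b * g⁻¹ * q0 = b⁻¹ * g * b * (g⁻¹ * q0 * g) * g⁻¹ := by group
        _ = b⁻¹ * (g * (b * q0 * b⁻¹)) * b * g⁻¹ := by rw [e1]; group
        _ = q0 * (b⁻¹ * g * b * g⁻¹) := by rw [hgb]; group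
    have h2 : w ∈ X := by
      have := hbXn _ h1
      have e3 : b * (b⁻¹ * w * b) * b⁻¹ = w := by group
      rwa [e3] at this
    have h3 := hXZ w h2 _ (hbZ _ (hPZ g hgC hgP y hy))
    calc g * (b * y * b⁻¹) * g⁻¹ = w * (b * (g * y * g⁻¹) * b⁻¹) * w⁻¹ := by rw [hw]; group
      _ = b * (g * y * g⁻¹) * b⁻¹ := by rw [h3, mul_inv_cancel_right]
  -- (3) the points
  obtain ⟨y, w, hy1, hw1, hy2, hyx, hyμ, hyν, hyμν, hwx, hwμ, hwν, hwμν, hwy, hwμy, hEw, hwz⟩ :
      ∃ y w : Pt k m, y.1 = x.1 ∧ w.1 = x.1 ∧ y.2 ≠ 0 ∧ y ≠ x ∧ y ≠ μ x ∧ y ≠ ν x ∧ y ≠ μ (ν x) ∧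
        w ≠ x ∧ w ≠ μ x ∧ w ≠ ν x ∧ w ≠ μ (ν x) ∧ w ≠ y ∧ w ≠ μ y ∧ E M v w = E M v y ∧
        (w = (x.1, 0) ∨ w.2 ≠ 0) := by
    by_cases h0 : ∃ y : Pt k m, y.1 = x.1 ∧ y.2 ≠ 0 ∧ y ≠ x ∧ y ≠ μ x ∧ y ≠ ν x ∧ y ≠ μ (ν x) ∧ E M v y = 0
    · obtain ⟨y, h1, h2, h3, h4, h5, h6, h7⟩ := h0
      have hne : ∀ r : Pt k m, r.2 ≠ 0 → ((x.1, 0) : Pt k m) ≠ r := by
        rintro r hr rfl
        exact hr rfl
      exact ⟨y, (x.1, 0), h1, rfl, h2, h3, h4, h5, h6, hne _ hx, hne _ hmx, hne _ hνx, hne _ hμνx, hne _ h2,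
        hne _ (fun h8 => h2 (F.mnz.1 h8)), by rw [hv0, h7], Or.inl rfl⟩
    · push Not at h0
      obtain ⟨y, hy, hys⟩ := exists_pt hm x.1 {(x.1, 0), x, μ x, ν x, μ (ν x)} (by
        refine (Finset.card_le_five).trans (by norm_num))
      simp only [Finset.mem_insert, Finset.mem_singleton, not_or] at hys
      obtain ⟨e1, e2, e3, e4, e5⟩ := hys
      have hy2 : y.2 ≠ 0 := fun h1 => e1 (Prod.ext hy h1)
      obtain ⟨w, hw, hws⟩ := exists_pt hm x.1 {(x.1, 0), x, μ x, ν x, μ (ν x), y, μ y} (by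
        refine (Finset.card_insert_le _ _).trans ?_
        have := Finset.card_le_six (a := x) (b := μ x) (c := ν x) (d := μ (ν x)) (e := y) (f := μ y)
        omega)
      simp only [Finset.mem_insert, Finset.mem_singleton, not_or] at hws
      obtain ⟨f1, f2, f3, f4, f5, f6, f7⟩ := hws
      have hw2 : w.2 ≠ 0 := fun h1 => f1 (Prod.ext hw h1)
      have k1 := h0 y hy hy2 e2 e3 e4 e5
      have k2 := h0 w hw hw2 f2 f3 f4 f5
      rw [Half.SymA.zmod2_ne] at k1 k2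
      exact ⟨y, w, hy, hw, hy2, e2, e3, e4, e5, f2, f3, f4, f5, f6, f7, by rw [k1, k2], Or.inr hw2⟩
  have hμyx : μ y ≠ x := by
    intro h0
    have h1 := congrArg μ h0
    rw [F.msq] at h1
    exact hyμ h1
  have hμyμ : μ y ≠ μ x := fun h0 => hyx (μ.injective h0)
  have hμyν : μ y ≠ ν x := by
    intro h0
    have h1 := congrArg μ h0
    rw [F.msq] at h1
    exact hyμν h1
  have hμyμν : μ y ≠ μ (ν x) := fun h0 => hyν (μ.injective h0)
  have hyμy : y ≠ μ y := (F.mne y hy2).symm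
  have hμy1 : (μ y).1 = x.1 := (hmf y).trans hy1
  -- the 3-cycle
  obtain ⟨g, hg, c1, c2, c3, c4⟩ := h.exists_cyc (a := y) (b := μ y) (c := w) (hmf y).symm (hμy1.trans hw1.symm)
    hyμy hwμy.symm hwy.symm
  have hgB : ∀ p : Pt k m, p.1 ≠ x.1 → pp M g p = p := by
    intro p hp
    refine c4 p ?_ ?_ ?_
    · rintro rfl; exact hp hy1
    · rintro rfl; exact hp hμy1
    · rintro rfl; exact hp hw1
  have hgn : g * n = n * g := h.comm_pr hg (hmf x).symm
    (Or.inl ⟨c4 x hyx.symm hμyx.symm hwx.symm, c4 _ hyμ.symm hμyμ.symm hwμ.symm⟩)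
  have hg0 : g * q0 = q0 * g := h.comm_pr hg (hmf _).symm
    (Or.inl ⟨c4 _ hyν.symm hμyν.symm hwν.symm, c4 _ hyμν.symm hμyμν.symm hwμν.symm⟩)
  have hgv : g * v = v * g := by
    rw [h.comm_iff hg hvV]
    intro p
    by_cases p1 : p = y
    · rw [p1, c1, hvμ]
    · by_cases p2 : p = μ y
      · rw [p2, c2, hEw, hvμ]
      · by_cases p3 : p = w
        · rw [p3, c3, hEw]
        · rw [c4 p p1 p2 p3]
  have hgφ : g * φ = φ * g := hφ g hg hgB
  have hgb : g * (b * q0 * b⁻¹) = b * q0 * b⁻¹ * g := by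
    rw [hvφ, ← mul_assoc, hgv, mul_assoc, hgφ, mul_assoc]
  have hcom' := hcom g hg hgn hg0 hgb
  -- (4)
  set q1 := pr M y (μ y) with hq1
  have hq1Z : q1 ∈ Z := hdZ _ _ (hmf _).symm hyx hyμ hμyx hμyμ
  obtain ⟨v1, hv1V, φ1, hφ1Z, hv11, hv10, hv1μ, hφ1, hvφ1⟩ := hHH (b * q1 * b⁻¹) (hZZ _ (hbZ _ hq1Z))
    (fun t ht => hfix _ hq1Z t (hAT ht) (hAcomm t ht y))
    (fun s hs h1 => hfix _ hq1Z s (hST s hs h1) (hScomm s hs h1 y hy1))
  have hgC : g ∈ C := (hmemC g).2 hgn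
  have hZcomm : ∀ a ∈ zc (o2 P), ∀ c ∈ zc (o2 P), a * c = c * a := fun a ha c hc => Sit.zz_comm ha hc
  -- the three conjugates of `q₁`
  have e1 : g * q1 * g⁻¹ = pr M (μ y) w := by
    rw [hq1, h.conj_pr hg (hmf y).symm, c1, c2]
  have e2 : g * (g * q1 * g⁻¹) * g⁻¹ = pr M w y := by
    rw [e1, h.conj_pr hg (hμy1.trans hw1.symm), c2, c3]
  have e3 : q1 * (g * q1 * g⁻¹) * (g * (g * q1 * g⁻¹) * g⁻¹) = 1 := by
    rw [e2, e1, hq1, pr_mul M (hmf y).symm (hμy1.trans hw1.symm), pr_comm M (hy1.trans hw1.symm),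
      h.Vsq (pr_mem M _ _)]
  have hgq1Z : g * q1 * g⁻¹ ∈ Z := hPZ g hgC hg _ hq1Z
  set u := b * q1 * b⁻¹ with hu
  have e4 : g * u * g⁻¹ = b * (g * q1 * g⁻¹) * b⁻¹ := hcom' q1 hq1Z
  have e5 : g * (g * u * g⁻¹) * g⁻¹ = b * (g * (g * q1 * g⁻¹) * g⁻¹) * b⁻¹ := by
    rw [e4]
    exact hcom' _ hgq1Z
  have e6 : u * (g * u * g⁻¹) * (g * (g * u * g⁻¹) * g⁻¹) = 1 := by
    rw [e5, e4, hu]
    calc b * q1 * b⁻¹ * (b * (g * q1 * g⁻¹) * b⁻¹) * (b * (g * (g * q1 * g⁻¹) * g⁻¹) * b⁻¹)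
        = b * (q1 * (g * q1 * g⁻¹) * (g * (g * q1 * g⁻¹) * g⁻¹)) * b⁻¹ := by group
      _ = 1 := by rw [e3, mul_one, mul_inv_cancel]
  -- `u = v₁ φ₁`
  have hgφ1 : g * φ1 * g⁻¹ = φ1 := by rw [hφ1 g hg hgB, mul_inv_cancel_right]
  set v2 := g * v1 * g⁻¹ with hv2
  set v3 := g * v2 * g⁻¹ with hv3
  have hv2V : v2 ∈ V := h.amb.conj_mem hg hv1V
  have hv3V : v3 ∈ V := h.amb.conj_mem hg hv2V
  have e7 : g * u * g⁻¹ = v2 * φ1 := by
    rw [hvφ1]
    calc g * (v1 * φ1) * g⁻¹ = (g * v1 * g⁻¹) * (g * φ1 * g⁻¹) := by group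
      _ = v2 * φ1 := by rw [hgφ1]
  have e8 : g * (g * u * g⁻¹) * g⁻¹ = v3 * φ1 := by
    rw [e7]
    calc g * (v2 * φ1) * g⁻¹ = (g * v2 * g⁻¹) * (g * φ1 * g⁻¹) := by group
      _ = v3 * φ1 := by rw [hgφ1]
  have hφφ : φ1 * φ1 = 1 := Sit.zz_sq hφ1Z
  have e9 : v1 * v2 * v3 * φ1 = 1 := by
    rw [e8, e7, hvφ1] at e6
    have k1 := hZcomm _ hφ1Z _ (h.VZ hv2V)
    have k2 := hZcomm _ hφ1Z _ (h.VZ hv3V)
    calc v1 * v2 * v3 * φ1 = v1 * v2 * v3 * φ1 * (φ1 * φ1) := by rw [hφφ, mul_one]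
      _ = v1 * v2 * (v3 * φ1) * φ1 * φ1 := by group
      _ = v1 * v2 * (φ1 * v3) * φ1 * φ1 := by rw [k2]
      _ = v1 * (v2 * φ1) * (v3 * φ1) * φ1 := by group
      _ = v1 * (φ1 * v2) * (φ1 * v3) * φ1 := by rw [k1, k2]
      _ = v1 * φ1 * (v2 * φ1) * (v3 * φ1) := by group
      _ = 1 := e6
  have hv123 : v1 * v2 * v3 ∈ V := V.mul_mem (V.mul_mem hv1V hv2V) hv3V
  have e10 : φ1 = v1 * v2 * v3 := by
    have k1 := mul_eq_one_iff_eq_inv.1 e9
    rw [k1, eq_comm]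
    exact inv_eq_of_mul_eq_one_left hφφ
  -- supports
  have hEg : ∀ a ∈ V, (∀ p : Pt k m, p.1 ≠ x.1 → E M a p = 0) →
      ∀ p : Pt k m, p.1 ≠ x.1 → E M (g * a * g⁻¹) p = 0 := by
    intro a ha h1 p hp
    have h2 := E_conj (M := M) hg ha p
    rw [hgB p hp] at h2
    rw [h2, h1 p hp]
  have hv21 := hEg v1 hv1V hv11
  have hv31 := hEg v2 hv2V hv21
  have hφ1V : φ1 ∈ V := by rw [e10]; exact hv123
  have hφ1one : φ1 = 1 := by
    refine h.eq_one_of_fixed (l := x.1) hφ1V (fun p hp => ?_) hφ1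
    rw [e10, Half.SymA.E_mul M (V.mul_mem hv1V hv2V) hv3V, Half.SymA.E_mul M hv1V hv2V, hv11 p hp, hv21 p hp,
      hv31 p hp]
    rfl
  rw [hφ1one] at e10
  have huv : u = v1 := by rw [hvφ1, hφ1one, mul_one]
  -- `v₁` has support in `{y, μ y}`
  have hEv : ∀ p : Pt k m, p ≠ y → p ≠ μ y → p ≠ w → E M v1 p = 0 := by
    intro p p1 p2 p3
    have k1 : pp M g p = p := c4 p p1 p2 p3
    have k2 : E M v2 p = E M v1 p := by
      have := E_conj (M := M) hg hv1V p
      rwa [k1] at this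
    have k3 : E M v3 p = E M v2 p := by
      have := E_conj (M := M) hg hv2V p
      rwa [k1] at this
    have k4 : E M (v1 * v2 * v3) p = 0 := by rw [← e10, Half.SymA.E_one]
    rw [Half.SymA.E_mul M (V.mul_mem hv1V hv2V) hv3V, Half.SymA.E_mul M hv1V hv2V, k3, k2] at k4
    have k5 : ∀ a : ZMod 2, a + a + a = 0 → a = 0 := by decide
    exact k5 _ k4
  have hEw1 : E M v1 w = 0 := by
    rcases hwz with h1 | h1
    · rw [h1]; exact hv10
    · rw [← hv1μ w]
      refine hEv _ ?_ ?_ (F.mne w h1)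
      · intro h2
        have h3 := congrArg μ h2
        rw [F.msq] at h3
        exact hwμy h3
      · intro h2
        exact hwy (μ.injective h2)
  have hfin : u = q1 := by
    rcases Half.SymA.zmod2 (E M v1 y) with h1 | h1
    · exfalso
      have h2 : v1 = 1 := by
        refine Half.SymA.eq_one M hv1V fun p => ?_
        by_cases p1 : p = y
        · rw [p1, h1]
        · by_cases p2 : p = μ y
          · rw [p2, hv1μ, h1]
          · by_cases p3 : p = w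
            · rw [p3, hEw1]
            · exact hEv p p1 p2 p3
      have h3 : q1 = 1 := by
        have h4 : u = 1 := by rw [huv, h2]
        rw [hu] at h4
        calc q1 = b⁻¹ * (b * q1 * b⁻¹) * b := by group
          _ = 1 := by rw [h4]; group
      have h5 := E_pr_left M (hmf y).symm hyμy
      rw [← hq1, h3, Half.SymA.E_one] at h5
      exact zero_ne_one h5
    · rw [huv]
      refine Half.SymA.inj M hv1V (pr_mem M _ _) fun p => ?_
      by_cases p1 : p = y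
      · rw [p1, h1, E_pr_left M (hmf y).symm hyμy]
      · by_cases p2 : p = μ y
        · rw [p2, hv1μ, h1, E_pr_right M (hmf y).symm hyμy]
        · rw [E_pr_of_ne M (hmf y).symm p1 p2]
          by_cases p3 : p = w
          · rw [p3, hEw1]
          · exact hEv p p1 p2 p3
  apply hbP
  refine h.SP (hT1 b hbW y (μ y) hy1 hμy1 hyμy hyx hyμ hμyx hμyμ ?_).1
  change b * q1 = q1 * b
  rw [hu, mul_inv_eq_iff_eq_mul] at hfin
  exact hfin

end main

end Cfsg.Agent.Omega.IId.SymWrD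

end

section


/-!
# II.d, `SwBig`, `SwCv` (copy of `SymWr/LTwoTr.lean` for `D` arbitrary), `m = 2`: transport of the duads by `S` (for `LTwo`, bb OMEGA #18061 / #18702)

`F : Fours M μ ν`; the `S`-duads are the `n_x = pr M x (μ x)`, `x.2 ≠ 0`.

* `conj_dd` : `s n_x s⁻¹ = n_{s x}` for `s ∈ S`; `exists_conj_dd` : `S` is transitive on the duads, with `s ∈ S` moving
  the point `x` to the given point `y`; `o2_conj` : the same for `O₂(C_G(n_x))`; `not_le_of` : `¬ O₂(C_G(n_x)) ≤ P`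
  for one `x` gives it for all `x`;
* `dd_eq_iff` : `n_x = n_y ↔ y = x ∨ y = μ x`;
* `DX F` : the type of the duads, `2 * card = k * 2 ^ m` (`two_mul_card_DX`; `card_DX` for `m = 2`);
* `act h F : S →* Perm (DX F)`, `ker_act` : the kernel is `Fours.A h F`; `comm_all_iff`.
-/

set_option autoImplicit false

namespace Cfsg.Agent.Omega.IId.SymWrD

open Cfsg.Agent.Omega.IId.SymWr
open Subgroup Pointwise Cfsg Cfsg.Agent.ZN Cfsg.Agent.Omega.MinPar Cfsg.Agent.Omega.FFThm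
open Cfsg.Agent.Omega.Half (Amb amb_of_loc)
open Cfsg.Agent.Omega.Half.SymA (Pt E Mv pm)

universe u

variable {G : Type u} [Group G] {P V : Subgroup G} {k m : ℕ}

namespace LTwoTr

/-- conjugation of `O₂(C_G(r))` -/
theorem o2_cj [Finite G] {r r' d q : G} (h : d * r * d⁻¹ = r') (hq : q ∈ o2 (centralizer ({r} : Set G))) :
    d * q * d⁻¹ ∈ o2 (centralizer ({r'} : Set G)) := by
  have e1 : (centralizer ({r} : Set G)).map (MulAut.conj d).toMonoidHom = centralizer ({r'} : Set G) := by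
    ext x
    rw [mem_centralizer_singleton_iff, ← h]
    constructor
    · rintro ⟨y, hy, rfl⟩
      have hy' : y * r = r * y := mem_centralizer_singleton_iff.1 hy
      change d * y * d⁻¹ * (d * r * d⁻¹) = d * r * d⁻¹ * (d * y * d⁻¹)
      calc d * y * d⁻¹ * (d * r * d⁻¹) = d * (y * r) * d⁻¹ := by group
        _ = d * (r * y) * d⁻¹ := by rw [hy']
        _ = d * r * d⁻¹ * (d * y * d⁻¹) := by group
    · intro h1
      refine ⟨d⁻¹ * x * d, mem_centralizer_singleton_iff.2 ?_, ?_⟩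
      · calc d⁻¹ * x * d * r = d⁻¹ * (x * (d * r * d⁻¹)) * d := by group
          _ = d⁻¹ * (d * r * d⁻¹ * x) * d := by rw [h1]
          _ = r * (d⁻¹ * x * d) := by group
      · change d * (d⁻¹ * x * d) * d⁻¹ = x
        group
  have e2 : o2 (centralizer ({r'} : Set G)) = (o2 (centralizer ({r} : Set G))).map (MulAut.conj d).toMonoidHom := by
    rw [← e1]
    exact o2_map _ (MulAut.conj d).injective _
  rw [e2]
  exact ⟨q, hq, rfl⟩

section dd

variable {S : Sylow 2 G} {M : SymK (S : Subgroup G) P V ⊥ k m} (h : Sit S P V M) {μ ν : Equiv.Perm (Pt k m)}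
  (F : Fours M μ ν)

include h F in
/-- `s n_x s⁻¹ = n_{s x}` -/
theorem conj_dd {s : G} (hs : s ∈ (S : Subgroup G)) (x : Pt k m) :
    s * pr M x (μ x) * s⁻¹ = pr M (pp M s x) (μ (pp M s x)) := by
  rw [h.conj_pr (h.SP hs) (F.mfst x).symm, F.meqv s hs x]

include h F in
/-- `S` is transitive on the duads -/
theorem exists_conj_dd [Finite G] {x y : Pt k m} (hx : x.2 ≠ 0) (hy : y.2 ≠ 0) :
    ∃ s ∈ (S : Subgroup G), pp M s x = y ∧ s * pr M x (μ x) * s⁻¹ = pr M y (μ y) := by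
  obtain ⟨s, hs, h1⟩ := h.trans hx hy
  exact ⟨s, hs, h1, by rw [conj_dd h F hs, h1]⟩

include h F in
theorem o2_conj [Finite G] {s : G} (hs : s ∈ (S : Subgroup G)) {x : Pt k m} {g : G}
    (hg : g ∈ o2 (centralizer ({pr M x (μ x)} : Set G))) :
    s * g * s⁻¹ ∈ o2 (centralizer ({pr M (pp M s x) (μ (pp M s x))} : Set G)) :=
  o2_cj (conj_dd h F hs x) hg

include h F in
/-- if `O₂(C_G(n_x))` is not in `P` for one point, then for all points -/
theorem not_le_of [Finite G] {x y : Pt k m} (hx : x.2 ≠ 0) (hy : y.2 ≠ 0)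
    (hn : ¬ o2 (centralizer ({pr M x (μ x)} : Set G)) ≤ P) :
    ¬ o2 (centralizer ({pr M y (μ y)} : Set G)) ≤ P := by
  intro h1
  apply hn
  intro g hg
  obtain ⟨s, hs, h2, h3⟩ := exists_conj_dd h F hx hy
  have h4 := h1 (o2_cj h3 hg)
  have h5 : g = s⁻¹ * (s * g * s⁻¹) * s := by group
  rw [h5]
  exact P.mul_mem (P.mul_mem (P.inv_mem (h.SP hs)) h4) (h.SP hs)

include F in
/-- `n_x = n_y ↔ y ∈ {x, μ x}` -/
theorem dd_eq_iff {x y : Pt k m} (hx : x.2 ≠ 0) (hy : y.2 ≠ 0) :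
    pr M x (μ x) = pr M y (μ y) ↔ y = x ∨ y = μ x := by
  constructor
  · intro h1
    by_contra h2
    rw [not_or] at h2
    have h3 := E_pr_of_ne M (F.mfst x).symm h2.1 h2.2
    rw [h1, E_pr_left M (F.mfst y).symm (F.mne y hy).symm] at h3
    exact one_ne_zero h3
  · rintro (h1 | h1)
    · rw [h1]
    · rw [h1, F.msq, pr_comm M (F.mfst x)]

include h F in
/-- `s ∈ S` commutes with `n_x` iff it preserves `{x, μ x}` -/
theorem comm_dd_iff {s : G} (hs : s ∈ (S : Subgroup G)) {x : Pt k m} (hx : x.2 ≠ 0) :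
    s * pr M x (μ x) = pr M x (μ x) * s ↔ pp M s x = x ∨ pp M s x = μ x := by
  have hsx : (pp M s x).2 ≠ 0 := fun h0 => hx ((h.snd hs).1 h0)
  rw [← dd_eq_iff F hx hsx, ← conj_dd h F hs x, eq_comm (a := pr M x (μ x)), mul_inv_eq_iff_eq_mul]

include h F in
/-- **The kernel of `S` on the duads is `A`.** -/
theorem comm_all_iff {s : G} (hs : s ∈ (S : Subgroup G)) :
    (∀ x : Pt k m, x.2 ≠ 0 → s * pr M x (μ x) = pr M x (μ x) * s) ↔ s ∈ Fours.A h F := by
  constructor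
  · intro h1
    refine ⟨hs, fun p => ?_⟩
    by_cases hp : p.2 = 0
    · left
      have h2 : ((1 : Fin (2 ^ m + 1)) : Fin (2 ^ m + 1)) ≠ 0 := by
        have h3 : 2 ≤ 2 ^ m := by
          calc 2 = 2 ^ 1 := by norm_num
            _ ≤ 2 ^ m := Nat.pow_le_pow_right (by norm_num) h.hm1
        intro h4
        have h5 := congrArg Fin.val h4
        rw [Fin.val_one', Fin.val_zero, Nat.mod_eq_of_lt (by omega)] at h5
        exact one_ne_zero h5
      have h3 := (comm_dd_iff h F hs (x := (p.1, 1)) h2).1 (h1 _ h2)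
      have h4 : (pp M s (p.1, 1)).1 = p.1 := by
        rcases h3 with h3 | h3
        · rw [h3]
        · rw [h3, F.mfst]
      have h5 : (pp M s p).1 = p.1 := by
        rw [← h4]
        exact h.fst (h.SP hs) rfl
      exact Prod.ext h5 (((h.snd hs).2 hp).trans hp.symm)
    · exact (comm_dd_iff h F hs hp).1 (h1 p hp)
  · rintro ⟨-, h1⟩ x hx
    exact (comm_dd_iff h F hs hx).2 (h1 x)

/-! ### The type of the duads -/

/-- the duads -/
def DX (_ : Fours M μ ν) : Type u := {v : G // ∃ x : Pt k m, x.2 ≠ 0 ∧ v = pr M x (μ x)}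

/-- the duad of a point -/
noncomputable def dd (x : {x : Pt k m // x.2 ≠ 0}) : DX F := ⟨pr M x (μ x), x, x.2, rfl⟩

theorem dd_val (x : {x : Pt k m // x.2 ≠ 0}) : (dd F x).1 = pr M x (μ x) := rfl

theorem dd_surj : Function.Surjective (dd F) := by
  rintro ⟨v, x, hx, rfl⟩
  exact ⟨⟨x, hx⟩, rfl⟩

instance finite_DX : Finite (DX F) := Finite.of_surjective _ (dd_surj F)

/-- `2 |DX| = k 2 ^ m` -/
theorem two_mul_card_DX : 2 * Nat.card (DX F) = k * 2 ^ m := by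
  classical
  have h1 : Nat.card {x : Pt k m // x.2 ≠ 0} = k * 2 ^ m := by
    have e : {x : Pt k m // x.2 ≠ 0} ≃ Fin k × {y : Fin (2 ^ m + 1) // y ≠ 0} :=
      { toFun := fun x => (x.1.1, ⟨x.1.2, x.2⟩)
        invFun := fun x => ⟨(x.1, x.2.1), x.2.2⟩
        left_inv := fun x => rfl
        right_inv := fun x => rfl }
    rw [Nat.card_congr e, Nat.card_prod, Nat.card_eq_fintype_card, Fintype.card_fin, Nat.card_eq_fintype_card,
      Fintype.card_subtype_compl, Fintype.card_fin, Fintype.card_subtype_eq]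
    congr 1
  have h2 : Nat.card {x : Pt k m // x.2 ≠ 0} = ∑ᶠ v : DX F, Nat.card {x : {x : Pt k m // x.2 ≠ 0} // dd F x = v} := by
    have : Fintype (DX F) := Fintype.ofFinite _
    rw [finsum_eq_sum_of_fintype, ← Nat.card_sigma]
    exact (Nat.card_congr (Equiv.sigmaFiberEquiv (dd F))).symm
  have h3 : ∀ v : DX F, Nat.card {x : {x : Pt k m // x.2 ≠ 0} // dd F x = v} = 2 := by
    intro v
    obtain ⟨x, rfl⟩ := dd_surj F v
    have hμ : (μ x.1).2 ≠ 0 := fun h0 => x.2 (F.mnz.1 h0)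
    rw [Nat.card_eq_two_iff]
    refine ⟨⟨x, rfl⟩, ⟨⟨μ x.1, hμ⟩, Subtype.ext ?_⟩, ?_, ?_⟩
    · exact ((dd_eq_iff F x.2 hμ).2 (Or.inr rfl)).symm
    · intro h4
      have h5 := congrArg (fun y => (y.1.1 : Pt k m)) h4
      exact F.mne x.1 x.2 h5.symm
    · rw [Set.eq_univ_iff_forall]
      rintro ⟨y, hy⟩
      have h5 : pr M y.1 (μ y.1) = pr M x.1 (μ x.1) := congrArg Subtype.val hy
      rcases (dd_eq_iff F x.2 y.2).1 h5.symm with h6 | h6
      · left
        exact Subtype.ext (Subtype.ext h6)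
      · right
        exact Subtype.ext (Subtype.ext h6)
  have : Fintype (DX F) := Fintype.ofFinite _
  rw [← h1, h2, finsum_eq_sum_of_fintype, Finset.sum_congr rfl fun v _ => h3 v, Finset.sum_const, Finset.card_univ,
    ← Nat.card_eq_fintype_card, smul_eq_mul, mul_comm]

theorem card_DX {M : SymK (S : Subgroup G) P V ⊥ k 2} {μ ν : Equiv.Perm (Pt k 2)} (F : Fours M μ ν) :
    Nat.card (DX F) = 2 * k := by
  have := two_mul_card_DX F
  omega

/-- **The action of `S` on the duads.** -/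
noncomputable def act (h : Sit S P V M) (F : Fours M μ ν) : (S : Subgroup G) →* Equiv.Perm (DX F) where
  toFun s :=
    { toFun := fun v => ⟨s * v.1 * (s : G)⁻¹, by
        obtain ⟨x, hx, hv⟩ := v.2
        exact ⟨pp M s x, fun h0 => hx ((h.snd s.2).1 h0), by rw [hv, conj_dd h F s.2]⟩⟩
      invFun := fun v => ⟨(s : G)⁻¹ * v.1 * s, by
        obtain ⟨x, hx, hv⟩ := v.2
        refine ⟨pp M (s : G)⁻¹ x, fun h0 => hx ((h.snd (inv_mem s.2)).1 h0), ?_⟩
        have h1 := conj_dd h F (inv_mem s.2) x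
        rw [inv_inv] at h1
        rw [hv, h1]⟩
      left_inv := fun v => Subtype.ext (by
        change (s : G)⁻¹ * (s * v.1 * (s : G)⁻¹) * s = v.1
        group)
      right_inv := fun v => Subtype.ext (by
        change (s : G) * ((s : G)⁻¹ * v.1 * s) * (s : G)⁻¹ = v.1
        group) }
  map_one' := by
    ext v
    exact Subtype.ext (by
      change (1 : G) * v.1 * (1 : G)⁻¹ = v.1
      group)
  map_mul' s t := by
    ext v
    exact Subtype.ext (by
      change (s * t : G) * v.1 * (s * t : G)⁻¹ = s * (t * v.1 * (t : G)⁻¹) * (s : G)⁻¹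
      group)

theorem act_val (s : (S : Subgroup G)) (v : DX F) : (act h F s v).1 = s * v.1 * (s : G)⁻¹ := rfl

/-- **The kernel of the action on the duads is `A`.** -/
theorem ker_act : (act h F).ker = (Fours.A h F).subgroupOf (S : Subgroup G) := by
  ext s
  rw [MonoidHom.mem_ker, mem_subgroupOf, ← comm_all_iff h F s.2]
  constructor
  · intro h1 x hx
    have h2 : (act h F s (dd F ⟨x, hx⟩)).1 = (dd F ⟨x, hx⟩).1 := by rw [h1]; rfl
    rw [act_val, dd_val, mul_inv_eq_iff_eq_mul] at h2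
    exact h2
  · intro h1
    ext v
    obtain ⟨x, rfl⟩ := dd_surj F v
    refine Subtype.ext ?_
    rw [act_val, dd_val, mul_inv_eq_iff_eq_mul]
    exact h1 x x.2

theorem mem_ker_act {s : (S : Subgroup G)} : s ∈ (act h F).ker ↔ (s : G) ∈ Fours.A h F := by
  rw [ker_act, mem_subgroupOf]

/-- `|A| |image of S| = |S|` -/
theorem card_A_mul [Finite G] : Nat.card (Fours.A h F) * Nat.card (act h F).range = Nat.card (S : Subgroup G) := by
  rw [← Subgroup.index_ker, ker_act, ← Nat.card_congr (subgroupOfEquivOfLe (Fours.A_le h F)).toEquiv]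
  exact Subgroup.card_mul_index _

end dd

end LTwoTr

end Cfsg.Agent.Omega.IId.SymWrD

end
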